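import Cfsg.Agent.Lib.Helper9.TCData.P0C0.Main

set_option autoImplicit false
set_option maxRecDepth 1000000

namespace Cfsg.Agent.Helper9.TCData.P0C0
open Cfsg.Agent.Helper9.TC2

theorem e0_8 : allRange 16217 1765 (fun u => chkE tab 0 u) = true := by decide +kernel

theorem e0_9 : allRange 17982 2514 (fun u => chkE tab 0 u) = true := by decide +kernel

theorem e0_10 : allRange 20496 1796 (fun u => chkE tab 0 u) = true := by decide +kernel

theorem e0_11 : allRange 22292 3021 (fun u => chkE tab 0 u) = true := by decide +kernel

theorem e0_12 : allRange 25313 3246 (fun u => chkE tab 0 u) = true := by decide +kernel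

theorem e0_13 : allRange 28559 2581 (fun u => chkE tab 0 u) = true := by decide +kernel

theorem e0_14 : allRange 31140 2861 (fun u => chkE tab 0 u) = true := by decide +kernel

theorem e0_15 : allRange 34001 2208 (fun u => chkE tab 0 u) = true := by decide +kernel


end Cfsg.Agent.Helper9.TCData.P0C0
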