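import Cfsg.Agent.Lib.Helper9.TCData.P0C0.Main

set_option autoImplicit false
set_option maxRecDepth 1000000

namespace Cfsg.Agent.Helper9.TCData.P0C0
open Cfsg.Agent.Helper9.TC2

theorem e4_3 : allRange 6723 2202 (fun u => chkE tab 4 u) = true := by decide +kernel

theorem e4_4 : allRange 8925 2207 (fun u => chkE tab 4 u) = true := by decide +kernel

theorem e4_5 : allRange 11132 2175 (fun u => chkE tab 4 u) = true := by decide +kernel

theorem e4_6 : allRange 13307 2187 (fun u => chkE tab 4 u) = true := by decide +kernel

theorem e4_7 : allRange 15494 2115 (fun u => chkE tab 4 u) = true := by decide +kernel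

theorem e4_8 : allRange 17609 2216 (fun u => chkE tab 4 u) = true := by decide +kernel

theorem e4_9 : allRange 19825 2143 (fun u => chkE tab 4 u) = true := by decide +kernel

theorem e4_10 : allRange 21968 2338 (fun u => chkE tab 4 u) = true := by decide +kernel


end Cfsg.Agent.Helper9.TCData.P0C0
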