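import Cfsg.Agent.Lib.Helper9.TCData.P0C0.Main

set_option autoImplicit false
set_option maxRecDepth 1000000

namespace Cfsg.Agent.Helper9.TCData.P0C0
open Cfsg.Agent.Helper9.TC2

theorem m2_396 : allRange 25740 65 (fun u => chkFix tab mwordsA u) = true := by decide +kernel

theorem m2_397 : allRange 25805 65 (fun u => chkFix tab mwordsA u) = true := by decide +kernel

theorem m2_398 : allRange 25870 65 (fun u => chkFix tab mwordsA u) = true := by decide +kernel

theorem m2_399 : allRange 25935 65 (fun u => chkFix tab mwordsA u) = true := by decide +kernel

theorem m2_400 : allRange 26000 65 (fun u => chkFix tab mwordsA u) = true := by decide +kernel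

theorem m2_401 : allRange 26065 65 (fun u => chkFix tab mwordsA u) = true := by decide +kernel

theorem m2_402 : allRange 26130 65 (fun u => chkFix tab mwordsA u) = true := by decide +kernel

theorem m2_403 : allRange 26195 65 (fun u => chkFix tab mwordsA u) = true := by decide +kernel


end Cfsg.Agent.Helper9.TCData.P0C0
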