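import Cfsg.Agent.Lib.Helper9.TCData.P0C0.Main

set_option autoImplicit false
set_option maxRecDepth 1000000

namespace Cfsg.Agent.Helper9.TCData.P0C0
open Cfsg.Agent.Helper9.TC2

theorem m2_404 : allRange 26260 65 (fun u => chkFix tab mwordsA u) = true := by decide +kernel

theorem m2_405 : allRange 26325 65 (fun u => chkFix tab mwordsA u) = true := by decide +kernel

theorem m2_406 : allRange 26390 65 (fun u => chkFix tab mwordsA u) = true := by decide +kernel

theorem m2_407 : allRange 26455 65 (fun u => chkFix tab mwordsA u) = true := by decide +kernel

theorem m2_408 : allRange 26520 65 (fun u => chkFix tab mwordsA u) = true := by decide +kernel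

theorem m2_409 : allRange 26585 65 (fun u => chkFix tab mwordsA u) = true := by decide +kernel

theorem m2_410 : allRange 26650 65 (fun u => chkFix tab mwordsA u) = true := by decide +kernel

theorem m2_411 : allRange 26715 65 (fun u => chkFix tab mwordsA u) = true := by decide +kernel


end Cfsg.Agent.Helper9.TCData.P0C0
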