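import Cfsg.Agent.Lib.Helper9.TCData.P0C0.Main

set_option autoImplicit false
set_option maxRecDepth 1000000

namespace Cfsg.Agent.Helper9.TCData.P0C0
open Cfsg.Agent.Helper9.TC2

theorem m2_420 : allRange 27300 65 (fun u => chkFix tab mwordsA u) = true := by decide +kernel

theorem m2_421 : allRange 27365 65 (fun u => chkFix tab mwordsA u) = true := by decide +kernel

theorem m2_422 : allRange 27430 65 (fun u => chkFix tab mwordsA u) = true := by decide +kernel

theorem m2_423 : allRange 27495 65 (fun u => chkFix tab mwordsA u) = true := by decide +kernel

theorem m2_424 : allRange 27560 65 (fun u => chkFix tab mwordsA u) = true := by decide +kernel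

theorem m2_425 : allRange 27625 65 (fun u => chkFix tab mwordsA u) = true := by decide +kernel

theorem m2_426 : allRange 27690 65 (fun u => chkFix tab mwordsA u) = true := by decide +kernel

theorem m2_427 : allRange 27755 65 (fun u => chkFix tab mwordsA u) = true := by decide +kernel


end Cfsg.Agent.Helper9.TCData.P0C0
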