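import Cfsg.Agent.Lib.Helper9.TCData.P0C0.Main

set_option autoImplicit false
set_option maxRecDepth 1000000

namespace Cfsg.Agent.Helper9.TCData.P0C0
open Cfsg.Agent.Helper9.TC2

theorem tr2x_22 : allRange 22000 1000 (fun u => chkTree tab (lidx 2) (lpar 2) (lgi 2) 2 [0, 1, 2, 3, 4, 5, 6, 7] u) = true := by decide +kernel

theorem tr2x_23 : allRange 23000 1000 (fun u => chkTree tab (lidx 2) (lpar 2) (lgi 2) 2 [0, 1, 2, 3, 4, 5, 6, 7] u) = true := by decide +kernel

theorem tr2x_24 : allRange 24000 1000 (fun u => chkTree tab (lidx 2) (lpar 2) (lgi 2) 2 [0, 1, 2, 3, 4, 5, 6, 7] u) = true := by decide +kernel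

theorem tr2x_25 : allRange 25000 1000 (fun u => chkTree tab (lidx 2) (lpar 2) (lgi 2) 2 [0, 1, 2, 3, 4, 5, 6, 7] u) = true := by decide +kernel

theorem tr2x_26 : allRange 26000 1000 (fun u => chkTree tab (lidx 2) (lpar 2) (lgi 2) 2 [0, 1, 2, 3, 4, 5, 6, 7] u) = true := by decide +kernel

theorem tr2x_27 : allRange 27000 1000 (fun u => chkTree tab (lidx 2) (lpar 2) (lgi 2) 2 [0, 1, 2, 3, 4, 5, 6, 7] u) = true := by decide +kernel

theorem tr2x_28 : allRange 28000 431 (fun u => chkTree tab (lidx 2) (lpar 2) (lgi 2) 2 [0, 1, 2, 3, 4, 5, 6, 7] u) = true := by decide +kernel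

theorem tr3x_0 : allRange 0 1000 (fun u => chkTree tab (lidx 3) (lpar 3) (lgi 3) 3 [0, 1, 2, 3, 4, 6, 7] u) = true := by decide +kernel


end Cfsg.Agent.Helper9.TCData.P0C0
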