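import Cfsg.Agent.Lib.Helper9.TCData.P0C0.Main

set_option autoImplicit false
set_option maxRecDepth 1000000

namespace Cfsg.Agent.Helper9.TCData.P0C0
open Cfsg.Agent.Helper9.TC2

theorem e5_0 : allRange 0 2255 (fun u => chkE tab 5 u) = true := by decide +kernel

theorem e5_1 : allRange 2255 2568 (fun u => chkE tab 5 u) = true := by decide +kernel

theorem e5_2 : allRange 4823 2324 (fun u => chkE tab 5 u) = true := by decide +kernel

theorem e5_3 : allRange 7147 2312 (fun u => chkE tab 5 u) = true := by decide +kernel

theorem e5_4 : allRange 9459 2271 (fun u => chkE tab 5 u) = true := by decide +kernel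

theorem e5_5 : allRange 11730 2273 (fun u => chkE tab 5 u) = true := by decide +kernel

theorem e5_6 : allRange 14003 2303 (fun u => chkE tab 5 u) = true := by decide +kernel

theorem e5_7 : allRange 16306 2240 (fun u => chkE tab 5 u) = true := by decide +kernel


end Cfsg.Agent.Helper9.TCData.P0C0
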