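import Cfsg.Agent.Lib.Helper9.TCData.P0C0.Main

set_option autoImplicit false
set_option maxRecDepth 1000000

namespace Cfsg.Agent.Helper9.TCData.P0C0
open Cfsg.Agent.Helper9.TC2

theorem tr4x_28 : allRange 28000 431 (fun u => chkTree tab (lidx 4) (lpar 4) (lgi 4) 4 [0, 1, 2, 3] u) = true := by decide +kernel

theorem tr5x_0 : allRange 0 1000 (fun u => chkTree tab (lidx 5) (lpar 5) (lgi 5) 5 [7] u) = true := by decide +kernel

theorem tr5x_1 : allRange 1000 1000 (fun u => chkTree tab (lidx 5) (lpar 5) (lgi 5) 5 [7] u) = true := by decide +kernel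

theorem tr5x_2 : allRange 2000 1000 (fun u => chkTree tab (lidx 5) (lpar 5) (lgi 5) 5 [7] u) = true := by decide +kernel

theorem tr5x_3 : allRange 3000 1000 (fun u => chkTree tab (lidx 5) (lpar 5) (lgi 5) 5 [7] u) = true := by decide +kernel

theorem tr5x_4 : allRange 4000 1000 (fun u => chkTree tab (lidx 5) (lpar 5) (lgi 5) 5 [7] u) = true := by decide +kernel

theorem tr5x_5 : allRange 5000 1000 (fun u => chkTree tab (lidx 5) (lpar 5) (lgi 5) 5 [7] u) = true := by decide +kernel

theorem tr5x_6 : allRange 6000 1000 (fun u => chkTree tab (lidx 5) (lpar 5) (lgi 5) 5 [7] u) = true := by decide +kernel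


end Cfsg.Agent.Helper9.TCData.P0C0
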