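import Cfsg.Agent.Lib.Helper9.TCData.P0C0.Main

set_option autoImplicit false
set_option maxRecDepth 1000000

namespace Cfsg.Agent.Helper9.TCData.P0C0
open Cfsg.Agent.Helper9.TC2

theorem e5_8 : allRange 18546 2338 (fun u => chkE tab 5 u) = true := by decide +kernel

theorem e5_9 : allRange 20884 2287 (fun u => chkE tab 5 u) = true := by decide +kernel

theorem e5_10 : allRange 23171 3089 (fun u => chkE tab 5 u) = true := by decide +kernel

theorem e5_11 : allRange 26260 3921 (fun u => chkE tab 5 u) = true := by decide +kernel

theorem e5_12 : allRange 30181 2438 (fun u => chkE tab 5 u) = true := by decide +kernel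

theorem e5_13 : allRange 32619 2559 (fun u => chkE tab 5 u) = true := by decide +kernel

theorem e5_14 : allRange 35178 2780 (fun u => chkE tab 5 u) = true := by decide +kernel

theorem e5_15 : allRange 37958 2789 (fun u => chkE tab 5 u) = true := by decide +kernel


end Cfsg.Agent.Helper9.TCData.P0C0
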