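import Cfsg.Agent.Lib.Helper9.TCData.P0C0.Main

set_option autoImplicit false
set_option maxRecDepth 1000000

namespace Cfsg.Agent.Helper9.TCData.P0C0
open Cfsg.Agent.Helper9.TC2

theorem tr7x_13 : allRange 13000 1000 (fun u => chkTree tab (lidx 7) (lpar 7) (lgi 7) 9 [0, 1] u) = true := by decide +kernel

theorem tr7x_14 : allRange 14000 1000 (fun u => chkTree tab (lidx 7) (lpar 7) (lgi 7) 9 [0, 1] u) = true := by decide +kernel

theorem tr7x_15 : allRange 15000 1000 (fun u => chkTree tab (lidx 7) (lpar 7) (lgi 7) 9 [0, 1] u) = true := by decide +kernel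

theorem tr7x_16 : allRange 16000 1000 (fun u => chkTree tab (lidx 7) (lpar 7) (lgi 7) 9 [0, 1] u) = true := by decide +kernel

theorem tr7x_17 : allRange 17000 1000 (fun u => chkTree tab (lidx 7) (lpar 7) (lgi 7) 9 [0, 1] u) = true := by decide +kernel

theorem tr7x_18 : allRange 18000 1000 (fun u => chkTree tab (lidx 7) (lpar 7) (lgi 7) 9 [0, 1] u) = true := by decide +kernel

theorem tr7x_19 : allRange 19000 1000 (fun u => chkTree tab (lidx 7) (lpar 7) (lgi 7) 9 [0, 1] u) = true := by decide +kernel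

theorem tr7x_20 : allRange 20000 1000 (fun u => chkTree tab (lidx 7) (lpar 7) (lgi 7) 9 [0, 1] u) = true := by decide +kernel


end Cfsg.Agent.Helper9.TCData.P0C0
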