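import Cfsg.Agent.Lib.Helper9.TCData.P0C0.Main

set_option autoImplicit false
set_option maxRecDepth 1000000

namespace Cfsg.Agent.Helper9.TCData.P0C0
open Cfsg.Agent.Helper9.TC2

theorem e5_16 : allRange 40747 2515 (fun u => chkE tab 5 u) = true := by decide +kernel

theorem e5_17 : allRange 43262 1100 (fun u => chkE tab 5 u) = true := by decide +kernel

theorem e6_0 : allRange 0 2323 (fun u => chkE tab 6 u) = true := by decide +kernel

theorem e6_1 : allRange 2323 2772 (fun u => chkE tab 6 u) = true := by decide +kernel

theorem e6_2 : allRange 5095 2826 (fun u => chkE tab 6 u) = true := by decide +kernel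

theorem e6_3 : allRange 7921 2729 (fun u => chkE tab 6 u) = true := by decide +kernel

theorem e6_4 : allRange 10650 2507 (fun u => chkE tab 6 u) = true := by decide +kernel

theorem e6_5 : allRange 13157 2463 (fun u => chkE tab 6 u) = true := by decide +kernel


end Cfsg.Agent.Helper9.TCData.P0C0
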