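import Cfsg.Agent.Lib.Helper9.TCData.P0C0.Main

set_option autoImplicit false
set_option maxRecDepth 1000000

namespace Cfsg.Agent.Helper9.TCData.P0C0
open Cfsg.Agent.Helper9.TC2

theorem e6_6 : allRange 15620 2429 (fun u => chkE tab 6 u) = true := by decide +kernel

theorem e6_7 : allRange 18049 2463 (fun u => chkE tab 6 u) = true := by decide +kernel

theorem e6_8 : allRange 20512 2412 (fun u => chkE tab 6 u) = true := by decide +kernel

theorem e6_9 : allRange 22924 2833 (fun u => chkE tab 6 u) = true := by decide +kernel

theorem e6_10 : allRange 25757 4238 (fun u => chkE tab 6 u) = true := by decide +kernel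

theorem e6_11 : allRange 29995 2634 (fun u => chkE tab 6 u) = true := by decide +kernel

theorem e6_12 : allRange 32629 2831 (fun u => chkE tab 6 u) = true := by decide +kernel

theorem e6_13 : allRange 35460 2748 (fun u => chkE tab 6 u) = true := by decide +kernel


end Cfsg.Agent.Helper9.TCData.P0C0
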