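import Cfsg.Agent.Lib.Helper9.TCData.P0C0.Main

set_option autoImplicit false
set_option maxRecDepth 1000000

namespace Cfsg.Agent.Helper9.TCData.P0C0
open Cfsg.Agent.Helper9.TC2

theorem e6_14 : allRange 38208 2622 (fun u => chkE tab 6 u) = true := by decide +kernel

theorem e6_15 : allRange 40830 2662 (fun u => chkE tab 6 u) = true := by decide +kernel

theorem e6_16 : allRange 43492 870 (fun u => chkE tab 6 u) = true := by decide +kernel

theorem e7_0 : allRange 0 2189 (fun u => chkE tab 7 u) = true := by decide +kernel

theorem e7_1 : allRange 2189 2589 (fun u => chkE tab 7 u) = true := by decide +kernel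

theorem e7_2 : allRange 4778 2821 (fun u => chkE tab 7 u) = true := by decide +kernel

theorem e7_3 : allRange 7599 3175 (fun u => chkE tab 7 u) = true := by decide +kernel

theorem e7_4 : allRange 10774 3105 (fun u => chkE tab 7 u) = true := by decide +kernel


end Cfsg.Agent.Helper9.TCData.P0C0
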