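import Cfsg.Agent.Lib.Helper9.TCData.P0C0.Main

set_option autoImplicit false
set_option maxRecDepth 1000000

namespace Cfsg.Agent.Helper9.TCData.P0C0
open Cfsg.Agent.Helper9.TC2

theorem e7_13 : allRange 37899 2730 (fun u => chkE tab 7 u) = true := by decide +kernel

theorem e7_14 : allRange 40629 2888 (fun u => chkE tab 7 u) = true := by decide +kernel

theorem e7_15 : allRange 43517 845 (fun u => chkE tab 7 u) = true := by decide +kernel

theorem e8_0 : allRange 0 2615 (fun u => chkE tab 8 u) = true := by decide +kernel

theorem e8_1 : allRange 2615 2643 (fun u => chkE tab 8 u) = true := by decide +kernel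

theorem e8_2 : allRange 5258 2384 (fun u => chkE tab 8 u) = true := by decide +kernel

theorem e8_3 : allRange 7642 2440 (fun u => chkE tab 8 u) = true := by decide +kernel

theorem e8_4 : allRange 10082 2578 (fun u => chkE tab 8 u) = true := by decide +kernel


end Cfsg.Agent.Helper9.TCData.P0C0
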