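import Cfsg.Agent.Lib.Helper9.TCData.P0C0.Main

set_option autoImplicit false
set_option maxRecDepth 1000000

namespace Cfsg.Agent.Helper9.TCData.P0C0
open Cfsg.Agent.Helper9.TC2

theorem e8_5 : allRange 12660 2786 (fun u => chkE tab 8 u) = true := by decide +kernel

theorem e8_6 : allRange 15446 2897 (fun u => chkE tab 8 u) = true := by decide +kernel

theorem e8_7 : allRange 18343 2915 (fun u => chkE tab 8 u) = true := by decide +kernel

theorem e8_8 : allRange 21258 2934 (fun u => chkE tab 8 u) = true := by decide +kernel

theorem e8_9 : allRange 24192 4510 (fun u => chkE tab 8 u) = true := by decide +kernel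

theorem e8_10 : allRange 28702 3252 (fun u => chkE tab 8 u) = true := by decide +kernel

theorem e8_11 : allRange 31954 2795 (fun u => chkE tab 8 u) = true := by decide +kernel

theorem e8_12 : allRange 34749 2950 (fun u => chkE tab 8 u) = true := by decide +kernel


end Cfsg.Agent.Helper9.TCData.P0C0
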