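import Cfsg.Agent.Lib.Helper9.TCData.P0C0.Main

set_option autoImplicit false
set_option maxRecDepth 1000000

namespace Cfsg.Agent.Helper9.TCData.P0C0
open Cfsg.Agent.Helper9.TC2

theorem e0_16 : allRange 36209 2618 (fun u => chkE tab 0 u) = true := by decide +kernel

theorem e0_17 : allRange 38827 2383 (fun u => chkE tab 0 u) = true := by decide +kernel

theorem e0_18 : allRange 41210 2707 (fun u => chkE tab 0 u) = true := by decide +kernel

theorem e0_19 : allRange 43917 445 (fun u => chkE tab 0 u) = true := by decide +kernel

theorem e1_0 : allRange 0 1836 (fun u => chkE tab 1 u) = true := by decide +kernel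

theorem e1_1 : allRange 1836 2187 (fun u => chkE tab 1 u) = true := by decide +kernel

theorem e1_2 : allRange 4023 2002 (fun u => chkE tab 1 u) = true := by decide +kernel

theorem e1_3 : allRange 6025 2138 (fun u => chkE tab 1 u) = true := by decide +kernel


end Cfsg.Agent.Helper9.TCData.P0C0
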