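import Cfsg.Agent.Lib.Helper9.TCData.P0C0.Main

set_option autoImplicit false
set_option maxRecDepth 1000000

namespace Cfsg.Agent.Helper9.TCData.P0C0
open Cfsg.Agent.Helper9.TC2

theorem e8_13 : allRange 37699 3061 (fun u => chkE tab 8 u) = true := by decide +kernel

theorem e8_14 : allRange 40760 2813 (fun u => chkE tab 8 u) = true := by decide +kernel

theorem e8_15 : allRange 43573 789 (fun u => chkE tab 8 u) = true := by decide +kernel

theorem e9_0 : allRange 0 2678 (fun u => chkE tab 9 u) = true := by decide +kernel

theorem e9_1 : allRange 2678 2497 (fun u => chkE tab 9 u) = true := by decide +kernel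

theorem e9_2 : allRange 5175 2228 (fun u => chkE tab 9 u) = true := by decide +kernel

theorem e9_3 : allRange 7403 2205 (fun u => chkE tab 9 u) = true := by decide +kernel

theorem e9_4 : allRange 9608 2425 (fun u => chkE tab 9 u) = true := by decide +kernel


end Cfsg.Agent.Helper9.TCData.P0C0
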