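import Cfsg.Agent.Lib.Helper9.TCData.P0C0.Main

set_option autoImplicit false
set_option maxRecDepth 1000000

namespace Cfsg.Agent.Helper9.TCData.P0C0
open Cfsg.Agent.Helper9.TC2

theorem e9_5 : allRange 12033 2553 (fun u => chkE tab 9 u) = true := by decide +kernel

theorem e9_6 : allRange 14586 2489 (fun u => chkE tab 9 u) = true := by decide +kernel

theorem e9_7 : allRange 17075 2807 (fun u => chkE tab 9 u) = true := by decide +kernel

theorem e9_8 : allRange 19882 2829 (fun u => chkE tab 9 u) = true := by decide +kernel

theorem e9_9 : allRange 22711 3349 (fun u => chkE tab 9 u) = true := by decide +kernel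

theorem e9_10 : allRange 26060 4357 (fun u => chkE tab 9 u) = true := by decide +kernel

theorem e9_11 : allRange 30417 3056 (fun u => chkE tab 9 u) = true := by decide +kernel

theorem e9_12 : allRange 33473 3266 (fun u => chkE tab 9 u) = true := by decide +kernel


end Cfsg.Agent.Helper9.TCData.P0C0
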