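import Cfsg.Agent.Lib.Helper9.TCData.P0C0.Main

set_option autoImplicit false
set_option maxRecDepth 1000000

namespace Cfsg.Agent.Helper9.TCData.P0C0
open Cfsg.Agent.Helper9.TC2

theorem e9_13 : allRange 36739 3581 (fun u => chkE tab 9 u) = true := by decide +kernel

theorem e9_14 : allRange 40320 3982 (fun u => chkE tab 9 u) = true := by decide +kernel

theorem e9_15 : allRange 44302 60 (fun u => chkE tab 9 u) = true := by decide +kernel


end Cfsg.Agent.Helper9.TCData.P0C0
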