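import Cfsg.Agent.Lib.Helper9.TCData.P0C0.Main

set_option autoImplicit false
set_option maxRecDepth 1000000

namespace Cfsg.Agent.Helper9.TCData.P0C0
open Cfsg.Agent.Helper9.TC2

theorem l_8 : allRange 24682 2399 (fun u => chkL tab u) = true := by decide +kernel

theorem l_9 : allRange 27081 1874 (fun u => chkL tab u) = true := by decide +kernel

theorem l_10 : allRange 28955 15407 (fun u => chkL tab u) = true := by decide +kernel


end Cfsg.Agent.Helper9.TCData.P0C0
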