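import Cfsg.Agent.Lib.Helper9.TCData.P0C0.Main

set_option autoImplicit false
set_option maxRecDepth 1000000

namespace Cfsg.Agent.Helper9.TCData.P0C0
open Cfsg.Agent.Helper9.TC2

theorem f_64 : allRange 16000 250 (fun u => chkFin tab u) = true := by decide +kernel

theorem f_65 : allRange 16250 250 (fun u => chkFin tab u) = true := by decide +kernel

theorem f_66 : allRange 16500 250 (fun u => chkFin tab u) = true := by decide +kernel

theorem f_67 : allRange 16750 250 (fun u => chkFin tab u) = true := by decide +kernel

theorem f_68 : allRange 17000 250 (fun u => chkFin tab u) = true := by decide +kernel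

theorem f_69 : allRange 17250 250 (fun u => chkFin tab u) = true := by decide +kernel

theorem f_70 : allRange 17500 250 (fun u => chkFin tab u) = true := by decide +kernel

theorem f_71 : allRange 17750 250 (fun u => chkFin tab u) = true := by decide +kernel


end Cfsg.Agent.Helper9.TCData.P0C0
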