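import Cfsg.Agent.Lib.Helper9.TCData.P0C0.Main

set_option autoImplicit false
set_option maxRecDepth 1000000

namespace Cfsg.Agent.Helper9.TCData.P0C0
open Cfsg.Agent.Helper9.TC2

theorem e1_12 : allRange 25524 4097 (fun u => chkE tab 1 u) = true := by decide +kernel

theorem e1_13 : allRange 29621 2302 (fun u => chkE tab 1 u) = true := by decide +kernel

theorem e1_14 : allRange 31923 2337 (fun u => chkE tab 1 u) = true := by decide +kernel

theorem e1_15 : allRange 34260 2497 (fun u => chkE tab 1 u) = true := by decide +kernel

theorem e1_16 : allRange 36757 2544 (fun u => chkE tab 1 u) = true := by decide +kernel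

theorem e1_17 : allRange 39301 2535 (fun u => chkE tab 1 u) = true := by decide +kernel

theorem e1_18 : allRange 41836 2526 (fun u => chkE tab 1 u) = true := by decide +kernel

theorem e2_0 : allRange 0 1927 (fun u => chkE tab 2 u) = true := by decide +kernel


end Cfsg.Agent.Helper9.TCData.P0C0
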