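import Cfsg.Agent.Lib.Helper9.TCData.P0C0.Main

set_option autoImplicit false
set_option maxRecDepth 1000000

namespace Cfsg.Agent.Helper9.TCData.P0C0
open Cfsg.Agent.Helper9.TC2

theorem m1_16 : allRange 10240 640 (fun u => chkM1 tab u) = true := by decide +kernel

theorem m1_17 : allRange 10880 640 (fun u => chkM1 tab u) = true := by decide +kernel

theorem m1_18 : allRange 11520 640 (fun u => chkM1 tab u) = true := by decide +kernel

theorem m1_19 : allRange 12160 640 (fun u => chkM1 tab u) = true := by decide +kernel

theorem m1_20 : allRange 12800 640 (fun u => chkM1 tab u) = true := by decide +kernel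

theorem m1_21 : allRange 13440 640 (fun u => chkM1 tab u) = true := by decide +kernel

theorem m1_22 : allRange 14080 640 (fun u => chkM1 tab u) = true := by decide +kernel

theorem m1_23 : allRange 14720 640 (fun u => chkM1 tab u) = true := by decide +kernel


end Cfsg.Agent.Helper9.TCData.P0C0
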