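import Cfsg.Agent.Lib.Helper9.TCData.P0C0.Main

set_option autoImplicit false
set_option maxRecDepth 1000000

namespace Cfsg.Agent.Helper9.TCData.P0C0
open Cfsg.Agent.Helper9.TC2

theorem m1_24 : allRange 15360 640 (fun u => chkM1 tab u) = true := by decide +kernel

theorem m1_25 : allRange 16000 640 (fun u => chkM1 tab u) = true := by decide +kernel

theorem m1_26 : allRange 16640 640 (fun u => chkM1 tab u) = true := by decide +kernel

theorem m1_27 : allRange 17280 640 (fun u => chkM1 tab u) = true := by decide +kernel

theorem m1_28 : allRange 17920 640 (fun u => chkM1 tab u) = true := by decide +kernel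

theorem m1_29 : allRange 18560 640 (fun u => chkM1 tab u) = true := by decide +kernel

theorem m1_30 : allRange 19200 640 (fun u => chkM1 tab u) = true := by decide +kernel

theorem m1_31 : allRange 19840 640 (fun u => chkM1 tab u) = true := by decide +kernel


end Cfsg.Agent.Helper9.TCData.P0C0
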