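import Cfsg.Agent.Lib.Helper9.TCData.P0C0.Main

set_option autoImplicit false
set_option maxRecDepth 1000000

namespace Cfsg.Agent.Helper9.TCData.P0C0
open Cfsg.Agent.Helper9.TC2

theorem ma_3 : allRange 3873 1291 (fun u => chkAux tab aux u) = true := by decide +kernel

theorem ma_4 : allRange 5164 1291 (fun u => chkAux tab aux u) = true := by decide +kernel

theorem ma_5 : allRange 6455 1291 (fun u => chkAux tab aux u) = true := by decide +kernel

theorem ma_6 : allRange 7746 1291 (fun u => chkAux tab aux u) = true := by decide +kernel

theorem ma_7 : allRange 9037 1291 (fun u => chkAux tab aux u) = true := by decide +kernel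

theorem ma_8 : allRange 10328 1291 (fun u => chkAux tab aux u) = true := by decide +kernel

theorem ma_9 : allRange 11619 1291 (fun u => chkAux tab aux u) = true := by decide +kernel

theorem ma_10 : allRange 12910 1291 (fun u => chkAux tab aux u) = true := by decide +kernel


end Cfsg.Agent.Helper9.TCData.P0C0
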