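import Cfsg.Agent.Lib.Helper9.TCData.P0C0.Main

set_option autoImplicit false
set_option maxRecDepth 1000000

namespace Cfsg.Agent.Helper9.TCData.P0C0
open Cfsg.Agent.Helper9.TC2

theorem ma_11 : allRange 14201 1291 (fun u => chkAux tab aux u) = true := by decide +kernel

theorem ma_12 : allRange 15492 1291 (fun u => chkAux tab aux u) = true := by decide +kernel

theorem ma_13 : allRange 16783 1291 (fun u => chkAux tab aux u) = true := by decide +kernel

theorem ma_14 : allRange 18074 1291 (fun u => chkAux tab aux u) = true := by decide +kernel

theorem ma_15 : allRange 19365 1291 (fun u => chkAux tab aux u) = true := by decide +kernel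

theorem ma_16 : allRange 20656 1291 (fun u => chkAux tab aux u) = true := by decide +kernel

theorem ma_17 : allRange 21947 1291 (fun u => chkAux tab aux u) = true := by decide +kernel

theorem ma_18 : allRange 23238 1291 (fun u => chkAux tab aux u) = true := by decide +kernel


end Cfsg.Agent.Helper9.TCData.P0C0
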