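import Cfsg.Agent.Lib.Helper9.TCData.P0C0.Main

set_option autoImplicit false
set_option maxRecDepth 1000000

namespace Cfsg.Agent.Helper9.TCData.P0C0
open Cfsg.Agent.Helper9.TC2

theorem e2_1 : allRange 1927 2215 (fun u => chkE tab 2 u) = true := by decide +kernel

theorem e2_2 : allRange 4142 2148 (fun u => chkE tab 2 u) = true := by decide +kernel

theorem e2_3 : allRange 6290 2106 (fun u => chkE tab 2 u) = true := by decide +kernel

theorem e2_4 : allRange 8396 2147 (fun u => chkE tab 2 u) = true := by decide +kernel

theorem e2_5 : allRange 10543 2113 (fun u => chkE tab 2 u) = true := by decide +kernel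

theorem e2_6 : allRange 12656 2076 (fun u => chkE tab 2 u) = true := by decide +kernel

theorem e2_7 : allRange 14732 2222 (fun u => chkE tab 2 u) = true := by decide +kernel

theorem e2_8 : allRange 16954 2010 (fun u => chkE tab 2 u) = true := by decide +kernel


end Cfsg.Agent.Helper9.TCData.P0C0
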