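import Cfsg.Agent.Lib.Helper9.TCData.P0C0.Main

set_option autoImplicit false
set_option maxRecDepth 1000000

namespace Cfsg.Agent.Helper9.TCData.P0C0
open Cfsg.Agent.Helper9.TC2

theorem ma_19 : allRange 24529 1291 (fun u => chkAux tab aux u) = true := by decide +kernel

theorem ma_20 : allRange 25820 1291 (fun u => chkAux tab aux u) = true := by decide +kernel

theorem ma_21 : allRange 27111 1291 (fun u => chkAux tab aux u) = true := by decide +kernel

theorem ma_22 : allRange 28402 29 (fun u => chkAux tab aux u) = true := by decide +kernel

theorem m2_0 : allRange 0 65 (fun u => chkFix tab mwordsA u) = true := by decide +kernel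

theorem m2_1 : allRange 65 65 (fun u => chkFix tab mwordsA u) = true := by decide +kernel

theorem m2_2 : allRange 130 65 (fun u => chkFix tab mwordsA u) = true := by decide +kernel

theorem m2_3 : allRange 195 65 (fun u => chkFix tab mwordsA u) = true := by decide +kernel


end Cfsg.Agent.Helper9.TCData.P0C0
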