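import Cfsg.Agent.Lib.Helper9.TCData.P0C0.Main

set_option autoImplicit false
set_option maxRecDepth 1000000

namespace Cfsg.Agent.Helper9.TCData.P0C0
open Cfsg.Agent.Helper9.TC2

theorem m2_84 : allRange 5460 65 (fun u => chkFix tab mwordsA u) = true := by decide +kernel

theorem m2_85 : allRange 5525 65 (fun u => chkFix tab mwordsA u) = true := by decide +kernel

theorem m2_86 : allRange 5590 65 (fun u => chkFix tab mwordsA u) = true := by decide +kernel

theorem m2_87 : allRange 5655 65 (fun u => chkFix tab mwordsA u) = true := by decide +kernel

theorem m2_88 : allRange 5720 65 (fun u => chkFix tab mwordsA u) = true := by decide +kernel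

theorem m2_89 : allRange 5785 65 (fun u => chkFix tab mwordsA u) = true := by decide +kernel

theorem m2_90 : allRange 5850 65 (fun u => chkFix tab mwordsA u) = true := by decide +kernel

theorem m2_91 : allRange 5915 65 (fun u => chkFix tab mwordsA u) = true := by decide +kernel


end Cfsg.Agent.Helper9.TCData.P0C0
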