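import Cfsg.Agent.Lib.Helper9.TCData.P0C0.Main

set_option autoImplicit false
set_option maxRecDepth 1000000

namespace Cfsg.Agent.Helper9.TCData.P0C0
open Cfsg.Agent.Helper9.TC2

theorem m2_148 : allRange 9620 65 (fun u => chkFix tab mwordsA u) = true := by decide +kernel

theorem m2_149 : allRange 9685 65 (fun u => chkFix tab mwordsA u) = true := by decide +kernel

theorem m2_150 : allRange 9750 65 (fun u => chkFix tab mwordsA u) = true := by decide +kernel

theorem m2_151 : allRange 9815 65 (fun u => chkFix tab mwordsA u) = true := by decide +kernel

theorem m2_152 : allRange 9880 65 (fun u => chkFix tab mwordsA u) = true := by decide +kernel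

theorem m2_153 : allRange 9945 65 (fun u => chkFix tab mwordsA u) = true := by decide +kernel

theorem m2_154 : allRange 10010 65 (fun u => chkFix tab mwordsA u) = true := by decide +kernel

theorem m2_155 : allRange 10075 65 (fun u => chkFix tab mwordsA u) = true := by decide +kernel


end Cfsg.Agent.Helper9.TCData.P0C0
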