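import Cfsg.Agent.Lib.Helper9.TCData.P0C0.Main

set_option autoImplicit false
set_option maxRecDepth 1000000

namespace Cfsg.Agent.Helper9.TCData.P0C0
open Cfsg.Agent.Helper9.TC2

theorem e2_17 : allRange 39721 2475 (fun u => chkE tab 2 u) = true := by decide +kernel

theorem e2_18 : allRange 42196 2166 (fun u => chkE tab 2 u) = true := by decide +kernel

theorem e3_0 : allRange 0 1977 (fun u => chkE tab 3 u) = true := by decide +kernel

theorem e3_1 : allRange 1977 2351 (fun u => chkE tab 3 u) = true := by decide +kernel

theorem e3_2 : allRange 4328 2129 (fun u => chkE tab 3 u) = true := by decide +kernel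

theorem e3_3 : allRange 6457 2152 (fun u => chkE tab 3 u) = true := by decide +kernel

theorem e3_4 : allRange 8609 2117 (fun u => chkE tab 3 u) = true := by decide +kernel

theorem e3_5 : allRange 10726 2171 (fun u => chkE tab 3 u) = true := by decide +kernel


end Cfsg.Agent.Helper9.TCData.P0C0
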