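import Cfsg.Agent.Lib.Helper9.TCData.P0C0.Main

set_option autoImplicit false
set_option maxRecDepth 1000000

namespace Cfsg.Agent.Helper9.TCData.P0C0
open Cfsg.Agent.Helper9.TC2

theorem m2_188 : allRange 12220 65 (fun u => chkFix tab mwordsA u) = true := by decide +kernel

theorem m2_189 : allRange 12285 65 (fun u => chkFix tab mwordsA u) = true := by decide +kernel

theorem m2_190 : allRange 12350 65 (fun u => chkFix tab mwordsA u) = true := by decide +kernel

theorem m2_191 : allRange 12415 65 (fun u => chkFix tab mwordsA u) = true := by decide +kernel

theorem m2_192 : allRange 12480 65 (fun u => chkFix tab mwordsA u) = true := by decide +kernel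

theorem m2_193 : allRange 12545 65 (fun u => chkFix tab mwordsA u) = true := by decide +kernel

theorem m2_194 : allRange 12610 65 (fun u => chkFix tab mwordsA u) = true := by decide +kernel

theorem m2_195 : allRange 12675 65 (fun u => chkFix tab mwordsA u) = true := by decide +kernel


end Cfsg.Agent.Helper9.TCData.P0C0
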