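import Cfsg.Agent.Lib.Helper9.TCData.P0C0.Main

set_option autoImplicit false
set_option maxRecDepth 1000000

namespace Cfsg.Agent.Helper9.TCData.P0C0
open Cfsg.Agent.Helper9.TC2

theorem m2_196 : allRange 12740 65 (fun u => chkFix tab mwordsA u) = true := by decide +kernel

theorem m2_197 : allRange 12805 65 (fun u => chkFix tab mwordsA u) = true := by decide +kernel

theorem m2_198 : allRange 12870 65 (fun u => chkFix tab mwordsA u) = true := by decide +kernel

theorem m2_199 : allRange 12935 65 (fun u => chkFix tab mwordsA u) = true := by decide +kernel

theorem m2_200 : allRange 13000 65 (fun u => chkFix tab mwordsA u) = true := by decide +kernel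

theorem m2_201 : allRange 13065 65 (fun u => chkFix tab mwordsA u) = true := by decide +kernel

theorem m2_202 : allRange 13130 65 (fun u => chkFix tab mwordsA u) = true := by decide +kernel

theorem m2_203 : allRange 13195 65 (fun u => chkFix tab mwordsA u) = true := by decide +kernel


end Cfsg.Agent.Helper9.TCData.P0C0
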