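import Cfsg.Agent.Lib.Helper9.TCData.P0C0.Main

set_option autoImplicit false
set_option maxRecDepth 1000000

namespace Cfsg.Agent.Helper9.TCData.P0C0
open Cfsg.Agent.Helper9.TC2

theorem m2_220 : allRange 14300 65 (fun u => chkFix tab mwordsA u) = true := by decide +kernel

theorem m2_221 : allRange 14365 65 (fun u => chkFix tab mwordsA u) = true := by decide +kernel

theorem m2_222 : allRange 14430 65 (fun u => chkFix tab mwordsA u) = true := by decide +kernel

theorem m2_223 : allRange 14495 65 (fun u => chkFix tab mwordsA u) = true := by decide +kernel

theorem m2_224 : allRange 14560 65 (fun u => chkFix tab mwordsA u) = true := by decide +kernel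

theorem m2_225 : allRange 14625 65 (fun u => chkFix tab mwordsA u) = true := by decide +kernel

theorem m2_226 : allRange 14690 65 (fun u => chkFix tab mwordsA u) = true := by decide +kernel

theorem m2_227 : allRange 14755 65 (fun u => chkFix tab mwordsA u) = true := by decide +kernel


end Cfsg.Agent.Helper9.TCData.P0C0
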