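import Cfsg.Agent.Lib.Helper9.TCData.P0C0.Main

set_option autoImplicit false
set_option maxRecDepth 1000000

namespace Cfsg.Agent.Helper9.TCData.P0C0
open Cfsg.Agent.Helper9.TC2

theorem e3_6 : allRange 12897 2087 (fun u => chkE tab 3 u) = true := by decide +kernel

theorem e3_7 : allRange 14984 2165 (fun u => chkE tab 3 u) = true := by decide +kernel

theorem e3_8 : allRange 17149 2114 (fun u => chkE tab 3 u) = true := by decide +kernel

theorem e3_9 : allRange 19263 2221 (fun u => chkE tab 3 u) = true := by decide +kernel

theorem e3_10 : allRange 21484 2116 (fun u => chkE tab 3 u) = true := by decide +kernel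

theorem e3_11 : allRange 23600 3421 (fun u => chkE tab 3 u) = true := by decide +kernel

theorem e3_12 : allRange 27021 3448 (fun u => chkE tab 3 u) = true := by decide +kernel

theorem e3_13 : allRange 30469 2399 (fun u => chkE tab 3 u) = true := by decide +kernel


end Cfsg.Agent.Helper9.TCData.P0C0
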