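import Cfsg.Agent.Lib.Helper9.TCData.P0C0.Main

set_option autoImplicit false
set_option maxRecDepth 1000000

namespace Cfsg.Agent.Helper9.TCData.P0C0
open Cfsg.Agent.Helper9.TC2

theorem m2_236 : allRange 15340 65 (fun u => chkFix tab mwordsA u) = true := by decide +kernel

theorem m2_237 : allRange 15405 65 (fun u => chkFix tab mwordsA u) = true := by decide +kernel

theorem m2_238 : allRange 15470 65 (fun u => chkFix tab mwordsA u) = true := by decide +kernel

theorem m2_239 : allRange 15535 65 (fun u => chkFix tab mwordsA u) = true := by decide +kernel

theorem m2_240 : allRange 15600 65 (fun u => chkFix tab mwordsA u) = true := by decide +kernel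

theorem m2_241 : allRange 15665 65 (fun u => chkFix tab mwordsA u) = true := by decide +kernel

theorem m2_242 : allRange 15730 65 (fun u => chkFix tab mwordsA u) = true := by decide +kernel

theorem m2_243 : allRange 15795 65 (fun u => chkFix tab mwordsA u) = true := by decide +kernel


end Cfsg.Agent.Helper9.TCData.P0C0
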