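import Cfsg.Agent.Lib.Helper9.TCData.P0C0.Main

set_option autoImplicit false
set_option maxRecDepth 1000000

namespace Cfsg.Agent.Helper9.TCData.P0C0
open Cfsg.Agent.Helper9.TC2

theorem m2_244 : allRange 15860 65 (fun u => chkFix tab mwordsA u) = true := by decide +kernel

theorem m2_245 : allRange 15925 65 (fun u => chkFix tab mwordsA u) = true := by decide +kernel

theorem m2_246 : allRange 15990 65 (fun u => chkFix tab mwordsA u) = true := by decide +kernel

theorem m2_247 : allRange 16055 65 (fun u => chkFix tab mwordsA u) = true := by decide +kernel

theorem m2_248 : allRange 16120 65 (fun u => chkFix tab mwordsA u) = true := by decide +kernel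

theorem m2_249 : allRange 16185 65 (fun u => chkFix tab mwordsA u) = true := by decide +kernel

theorem m2_250 : allRange 16250 65 (fun u => chkFix tab mwordsA u) = true := by decide +kernel

theorem m2_251 : allRange 16315 65 (fun u => chkFix tab mwordsA u) = true := by decide +kernel


end Cfsg.Agent.Helper9.TCData.P0C0
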