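import Cfsg.Agent.Lib.Helper9.TCData.P0C0.Main

set_option autoImplicit false
set_option maxRecDepth 1000000

namespace Cfsg.Agent.Helper9.TCData.P0C0
open Cfsg.Agent.Helper9.TC2

theorem m2_252 : allRange 16380 65 (fun u => chkFix tab mwordsA u) = true := by decide +kernel

theorem m2_253 : allRange 16445 65 (fun u => chkFix tab mwordsA u) = true := by decide +kernel

theorem m2_254 : allRange 16510 65 (fun u => chkFix tab mwordsA u) = true := by decide +kernel

theorem m2_255 : allRange 16575 65 (fun u => chkFix tab mwordsA u) = true := by decide +kernel

theorem m2_256 : allRange 16640 65 (fun u => chkFix tab mwordsA u) = true := by decide +kernel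

theorem m2_257 : allRange 16705 65 (fun u => chkFix tab mwordsA u) = true := by decide +kernel

theorem m2_258 : allRange 16770 65 (fun u => chkFix tab mwordsA u) = true := by decide +kernel

theorem m2_259 : allRange 16835 65 (fun u => chkFix tab mwordsA u) = true := by decide +kernel


end Cfsg.Agent.Helper9.TCData.P0C0
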