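import Cfsg.Agent.Lib.Helper9.TCData.P0C0.Main

set_option autoImplicit false
set_option maxRecDepth 1000000

namespace Cfsg.Agent.Helper9.TCData.P0C0
open Cfsg.Agent.Helper9.TC2

theorem m2_276 : allRange 17940 65 (fun u => chkFix tab mwordsA u) = true := by decide +kernel

theorem m2_277 : allRange 18005 65 (fun u => chkFix tab mwordsA u) = true := by decide +kernel

theorem m2_278 : allRange 18070 65 (fun u => chkFix tab mwordsA u) = true := by decide +kernel

theorem m2_279 : allRange 18135 65 (fun u => chkFix tab mwordsA u) = true := by decide +kernel

theorem m2_280 : allRange 18200 65 (fun u => chkFix tab mwordsA u) = true := by decide +kernel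

theorem m2_281 : allRange 18265 65 (fun u => chkFix tab mwordsA u) = true := by decide +kernel

theorem m2_282 : allRange 18330 65 (fun u => chkFix tab mwordsA u) = true := by decide +kernel

theorem m2_283 : allRange 18395 65 (fun u => chkFix tab mwordsA u) = true := by decide +kernel


end Cfsg.Agent.Helper9.TCData.P0C0
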