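import Cfsg.Agent.Lib.Helper9.TCData.P0C0.Main

set_option autoImplicit false
set_option maxRecDepth 1000000

namespace Cfsg.Agent.Helper9.TCData.P0C0
open Cfsg.Agent.Helper9.TC2

theorem e3_14 : allRange 32868 2490 (fun u => chkE tab 3 u) = true := by decide +kernel

theorem e3_15 : allRange 35358 2408 (fun u => chkE tab 3 u) = true := by decide +kernel

theorem e3_16 : allRange 37766 2523 (fun u => chkE tab 3 u) = true := by decide +kernel

theorem e3_17 : allRange 40289 2600 (fun u => chkE tab 3 u) = true := by decide +kernel

theorem e3_18 : allRange 42889 1473 (fun u => chkE tab 3 u) = true := by decide +kernel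

theorem e4_0 : allRange 0 2104 (fun u => chkE tab 4 u) = true := by decide +kernel

theorem e4_1 : allRange 2104 2396 (fun u => chkE tab 4 u) = true := by decide +kernel

theorem e4_2 : allRange 4500 2223 (fun u => chkE tab 4 u) = true := by decide +kernel


end Cfsg.Agent.Helper9.TCData.P0C0
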