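import Cfsg.Agent.Lib.Helper9.TCData.P0C0.Main

set_option autoImplicit false
set_option maxRecDepth 1000000

namespace Cfsg.Agent.Helper9.TCData.P0C0
open Cfsg.Agent.Helper9.TC2

theorem m2_316 : allRange 20540 65 (fun u => chkFix tab mwordsA u) = true := by decide +kernel

theorem m2_317 : allRange 20605 65 (fun u => chkFix tab mwordsA u) = true := by decide +kernel

theorem m2_318 : allRange 20670 65 (fun u => chkFix tab mwordsA u) = true := by decide +kernel

theorem m2_319 : allRange 20735 65 (fun u => chkFix tab mwordsA u) = true := by decide +kernel

theorem m2_320 : allRange 20800 65 (fun u => chkFix tab mwordsA u) = true := by decide +kernel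

theorem m2_321 : allRange 20865 65 (fun u => chkFix tab mwordsA u) = true := by decide +kernel

theorem m2_322 : allRange 20930 65 (fun u => chkFix tab mwordsA u) = true := by decide +kernel

theorem m2_323 : allRange 20995 65 (fun u => chkFix tab mwordsA u) = true := by decide +kernel


end Cfsg.Agent.Helper9.TCData.P0C0
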