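import Cfsg.Agent.Lib.Helper9.TCData.P0C0.Main

set_option autoImplicit false
set_option maxRecDepth 1000000

namespace Cfsg.Agent.Helper9.TCData.P0C0
open Cfsg.Agent.Helper9.TC2

theorem m2_364 : allRange 23660 65 (fun u => chkFix tab mwordsA u) = true := by decide +kernel

theorem m2_365 : allRange 23725 65 (fun u => chkFix tab mwordsA u) = true := by decide +kernel

theorem m2_366 : allRange 23790 65 (fun u => chkFix tab mwordsA u) = true := by decide +kernel

theorem m2_367 : allRange 23855 65 (fun u => chkFix tab mwordsA u) = true := by decide +kernel

theorem m2_368 : allRange 23920 65 (fun u => chkFix tab mwordsA u) = true := by decide +kernel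

theorem m2_369 : allRange 23985 65 (fun u => chkFix tab mwordsA u) = true := by decide +kernel

theorem m2_370 : allRange 24050 65 (fun u => chkFix tab mwordsA u) = true := by decide +kernel

theorem m2_371 : allRange 24115 65 (fun u => chkFix tab mwordsA u) = true := by decide +kernel


end Cfsg.Agent.Helper9.TCData.P0C0
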