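import Cfsg.Agent.Lib.Helper9.TCData.P0C0.Main

set_option autoImplicit false
set_option maxRecDepth 1000000

namespace Cfsg.Agent.Helper9.TCData.P0C0
open Cfsg.Agent.Helper9.TC2

theorem m2_380 : allRange 24700 65 (fun u => chkFix tab mwordsA u) = true := by decide +kernel

theorem m2_381 : allRange 24765 65 (fun u => chkFix tab mwordsA u) = true := by decide +kernel

theorem m2_382 : allRange 24830 65 (fun u => chkFix tab mwordsA u) = true := by decide +kernel

theorem m2_383 : allRange 24895 65 (fun u => chkFix tab mwordsA u) = true := by decide +kernel

theorem m2_384 : allRange 24960 65 (fun u => chkFix tab mwordsA u) = true := by decide +kernel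

theorem m2_385 : allRange 25025 65 (fun u => chkFix tab mwordsA u) = true := by decide +kernel

theorem m2_386 : allRange 25090 65 (fun u => chkFix tab mwordsA u) = true := by decide +kernel

theorem m2_387 : allRange 25155 65 (fun u => chkFix tab mwordsA u) = true := by decide +kernel


end Cfsg.Agent.Helper9.TCData.P0C0
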