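import Cfsg.Agent.Lib.Helper9.TCData.P0C0.S0
import Cfsg.Agent.Lib.Helper9.TCData.P0C0.S1
import Cfsg.Agent.Lib.Helper9.TCData.P0C0.S2
import Cfsg.Agent.Lib.Helper9.TCData.P0C0.S3
import Cfsg.Agent.Lib.Helper9.TCData.P0C0.S4
import Cfsg.Agent.Lib.Helper9.TCData.P0C0.S5
import Cfsg.Agent.Lib.Helper9.TCData.P0C0.S6
import Cfsg.Agent.Lib.Helper9.TCData.P0C0.S7
import Cfsg.Agent.Lib.Helper9.TCData.P0C0.S8
import Cfsg.Agent.Lib.Helper9.TCData.P0C0.S9
import Cfsg.Agent.Lib.Helper9.TCData.P0C0.S10
import Cfsg.Agent.Lib.Helper9.TCData.P0C0.S11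
import Cfsg.Agent.Lib.Helper9.TCData.P0C0.S12
import Cfsg.Agent.Lib.Helper9.TCData.P0C0.S13
import Cfsg.Agent.Lib.Helper9.TCData.P0C0.S14
import Cfsg.Agent.Lib.Helper9.TCData.P0C0.S15
import Cfsg.Agent.Lib.Helper9.TCData.P0C0.S16
import Cfsg.Agent.Lib.Helper9.TCData.P0C0.S17
import Cfsg.Agent.Lib.Helper9.TCData.P0C0.S18
import Cfsg.Agent.Lib.Helper9.TCData.P0C0.S19
import Cfsg.Agent.Lib.Helper9.TCData.P0C0.S20
import Cfsg.Agent.Lib.Helper9.TCData.P0C0.S21
import Cfsg.Agent.Lib.Helper9.TCData.P0C0.S22
import Cfsg.Agent.Lib.Helper9.TCData.P0C0.S23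
import Cfsg.Agent.Lib.Helper9.TCData.P0C0.S24
import Cfsg.Agent.Lib.Helper9.TCData.P0C0.S25
import Cfsg.Agent.Lib.Helper9.TCData.P0C0.S26
import Cfsg.Agent.Lib.Helper9.TCData.P0C0.S27
import Cfsg.Agent.Lib.Helper9.TCData.P0C0.S28
import Cfsg.Agent.Lib.Helper9.TCData.P0C0.S29
import Cfsg.Agent.Lib.Helper9.TCData.P0C0.S30
import Cfsg.Agent.Lib.Helper9.TCData.P0C0.S31
import Cfsg.Agent.Lib.Helper9.TCData.P0C0.S32
import Cfsg.Agent.Lib.Helper9.TCData.P0C0.S33
import Cfsg.Agent.Lib.Helper9.TCData.P0C0.S34
import Cfsg.Agent.Lib.Helper9.TCData.P0C0.S35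
import Cfsg.Agent.Lib.Helper9.TCData.P0C0.S36
import Cfsg.Agent.Lib.Helper9.TCData.P0C0.S37
import Cfsg.Agent.Lib.Helper9.TCData.P0C0.S38
import Cfsg.Agent.Lib.Helper9.TCData.P0C0.S39
import Cfsg.Agent.Lib.Helper9.TCData.P0C0.S40
import Cfsg.Agent.Lib.Helper9.TCData.P0C0.S41
import Cfsg.Agent.Lib.Helper9.TCData.P0C0.S42
import Cfsg.Agent.Lib.Helper9.TCData.P0C0.S43
import Cfsg.Agent.Lib.Helper9.TCData.P0C0.S44
import Cfsg.Agent.Lib.Helper9.TCData.P0C0.S45
import Cfsg.Agent.Lib.Helper9.TCData.P0C0.S46
import Cfsg.Agent.Lib.Helper9.TCData.P0C0.S47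
import Cfsg.Agent.Lib.Helper9.TCData.P0C0.S48
import Cfsg.Agent.Lib.Helper9.TCData.P0C0.S49
import Cfsg.Agent.Lib.Helper9.TCData.P0C0.S50
import Cfsg.Agent.Lib.Helper9.TCData.P0C0.S51
import Cfsg.Agent.Lib.Helper9.TCData.P0C0.S52
import Cfsg.Agent.Lib.Helper9.TCData.P0C0.S53
import Cfsg.Agent.Lib.Helper9.TCData.P0C0.S54
import Cfsg.Agent.Lib.Helper9.TCData.P0C0.S55
import Cfsg.Agent.Lib.Helper9.TCData.P0C0.S56
import Cfsg.Agent.Lib.Helper9.TCData.P0C0.S57
import Cfsg.Agent.Lib.Helper9.TCData.P0C0.S58
import Cfsg.Agent.Lib.Helper9.TCData.P0C0.S59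
import Cfsg.Agent.Lib.Helper9.TCData.P0C0.S60
import Cfsg.Agent.Lib.Helper9.TCData.P0C0.S61
import Cfsg.Agent.Lib.Helper9.TCData.P0C0.S62
import Cfsg.Agent.Lib.Helper9.TCData.P0C0.S63
import Cfsg.Agent.Lib.Helper9.TCData.P0C0.S64
import Cfsg.Agent.Lib.Helper9.TCData.P0C0.S65
import Cfsg.Agent.Lib.Helper9.TCData.P0C0.S66
import Cfsg.Agent.Lib.Helper9.TCData.P0C0.S67
import Cfsg.Agent.Lib.Helper9.TCData.P0C0.S68
import Cfsg.Agent.Lib.Helper9.TCData.P0C0.S69
import Cfsg.Agent.Lib.Helper9.TCData.P0C0.S70
import Cfsg.Agent.Lib.Helper9.TCData.P0C0.S71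
import Cfsg.Agent.Lib.Helper9.TCData.P0C0.S72
import Cfsg.Agent.Lib.Helper9.TCData.P0C0.S73
import Cfsg.Agent.Lib.Helper9.TCData.P0C0.S74
import Cfsg.Agent.Lib.Helper9.TCData.P0C0.S75
import Cfsg.Agent.Lib.Helper9.TCData.P0C0.S76
import Cfsg.Agent.Lib.Helper9.TCData.P0C0.S77
import Cfsg.Agent.Lib.Helper9.TCData.P0C0.S78
import Cfsg.Agent.Lib.Helper9.TCData.P0C0.S79
import Cfsg.Agent.Lib.Helper9.TCData.P0C0.S80
import Cfsg.Agent.Lib.Helper9.TCData.P0C0.S81
import Cfsg.Agent.Lib.Helper9.TCData.P0C0.S82
import Cfsg.Agent.Lib.Helper9.TCData.P0C0.S83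
import Cfsg.Agent.Lib.Helper9.TCData.P0C0.S84
import Cfsg.Agent.Lib.Helper9.TCData.P0C0.S85
import Cfsg.Agent.Lib.Helper9.TCData.P0C0.S86
import Cfsg.Agent.Lib.Helper9.TCData.P0C0.S87
import Cfsg.Agent.Lib.Helper9.TCData.P0C0.S88
import Cfsg.Agent.Lib.Helper9.TCData.P0C0.S89
import Cfsg.Agent.Lib.Helper9.TCData.P0C0.S90
import Cfsg.Agent.Lib.Helper9.TCData.P0C0.S91
import Cfsg.Agent.Lib.Helper9.TCData.P0C0.S92
import Cfsg.Agent.Lib.Helper9.TCData.P0C0.S93
import Cfsg.Agent.Lib.Helper9.TCData.P0C0.S94
import Cfsg.Agent.Lib.Helper9.TCData.P0C0.S95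
import Cfsg.Agent.Lib.Helper9.TCData.P0C0.S96
import Cfsg.Agent.Lib.Helper9.TCData.P0C0.S97
import Cfsg.Agent.Lib.Helper9.TCData.P0C0.S98
import Cfsg.Agent.Lib.Helper9.TCData.P0C0.S99
import Cfsg.Agent.Lib.Helper9.TCData.P0C0.S100
import Cfsg.Agent.Lib.Helper9.TCData.P0C0.S101
import Cfsg.Agent.Lib.Helper9.TCData.P0C0.S102
import Cfsg.Agent.Lib.Helper9.TCData.P0C0.S103
import Cfsg.Agent.Lib.Helper9.TCData.P0C0.S104
import Cfsg.Agent.Lib.Helper9.TCData.P0C0.S105
import Cfsg.Agent.Lib.Helper9.TCData.P0C0.S106
import Cfsg.Agent.Lib.Helper9.TCData.P0C0.S107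
import Cfsg.Agent.Lib.Helper9.TCData.P0C0.S108
import Cfsg.Agent.Lib.Helper9.TCData.P0C0.S109
import Cfsg.Agent.Lib.Helper9.TCData.P0C0.S110
import Cfsg.Agent.Lib.Helper9.TCData.P0C0.S111
import Cfsg.Agent.Lib.Helper9.TCData.P0C0.S112
import Cfsg.Agent.Lib.Helper9.TCData.P0C0.S113
import Cfsg.Agent.Lib.Helper9.TCData.P0C0.S114
import Cfsg.Agent.Lib.Helper9.TCData.P0C0.S115
import Cfsg.Agent.Lib.Helper9.TCData.P0C0.S116
import Cfsg.Agent.Lib.Helper9.TCData.P0C0.S117
import Cfsg.Agent.Lib.Helper9.TCData.P0C0.S118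
import Cfsg.Agent.Lib.Helper9.TCData.P0C0.S119
import Cfsg.Agent.Lib.Helper9.TCData.P0C0.S120
import Cfsg.Agent.Lib.Helper9.TCData.P0C0.S121
import Cfsg.Agent.Lib.Helper9.TCData.P0C0.S122
import Cfsg.Agent.Lib.Helper9.TCData.P0C0.S123
import Cfsg.Agent.Lib.Helper9.TCData.P0C0.S124
import Cfsg.Agent.Lib.Helper9.TCData.P0C0.S125
import Cfsg.Agent.Lib.Helper9.TCData.P0C0.S126
import Cfsg.Agent.Lib.Helper9.TCData.P0C0.S127
import Cfsg.Agent.Lib.Helper9.TCData.P0C0.S128
import Cfsg.Agent.Lib.Helper9.TCData.P0C0.S129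
import Cfsg.Agent.Lib.Helper9.TCData.P0C0.S130
import Cfsg.Agent.Lib.Helper9.TCData.P0C0.S131
import Cfsg.Agent.Lib.Helper9.TCData.P0C0.S132
import Cfsg.Agent.Lib.Helper9.TCData.P0C0.S133
import Cfsg.Agent.Lib.Helper9.TCData.P0C0.S134
import Cfsg.Agent.Lib.Helper9.TCData.P0C0.S135
import Cfsg.Agent.Lib.Helper9.TCData.P0C0.S136
import Cfsg.Agent.Lib.Helper9.TCData.P0C0.S137
import Cfsg.Agent.Lib.Helper9.TCData.P0C0.S138
import Cfsg.Agent.Lib.Helper9.TCData.P0C0.S139
import Cfsg.Agent.Lib.Helper9.TCData.P0C0.S140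
import Cfsg.Agent.Lib.Helper9.TCData.P0C0.S141

set_option autoImplicit false
set_option maxRecDepth 1000000

namespace Cfsg.Agent.Helper9.TCData.P0C0
open Cfsg.Agent.Helper9.TC2


theorem hE0 : ∀ u < 44362, chkE tab 0 u = true := by
  have h0 : ∀ u < 0, (fun u => chkE tab 0 u) u = true := range_zero
  have h1 : ∀ u < 1856, (fun u => chkE tab 0 u) u = true := ext_range (a := 0) (len := 1856) h0 e0_0
  have h2 : ∀ u < 3977, (fun u => chkE tab 0 u) u = true := ext_range (a := 1856) (len := 2121) h1 e0_1
  have h3 : ∀ u < 6012, (fun u => chkE tab 0 u) u = true := ext_range (a := 3977) (len := 2035) h2 e0_2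
  have h4 : ∀ u < 7949, (fun u => chkE tab 0 u) u = true := ext_range (a := 6012) (len := 1937) h3 e0_3
  have h5 : ∀ u < 9980, (fun u => chkE tab 0 u) u = true := ext_range (a := 7949) (len := 2031) h4 e0_4
  have h6 : ∀ u < 12148, (fun u => chkE tab 0 u) u = true := ext_range (a := 9980) (len := 2168) h5 e0_5
  have h7 : ∀ u < 13878, (fun u => chkE tab 0 u) u = true := ext_range (a := 12148) (len := 1730) h6 e0_6
  have h8 : ∀ u < 16217, (fun u => chkE tab 0 u) u = true := ext_range (a := 13878) (len := 2339) h7 e0_7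
  have h9 : ∀ u < 17982, (fun u => chkE tab 0 u) u = true := ext_range (a := 16217) (len := 1765) h8 e0_8
  have h10 : ∀ u < 20496, (fun u => chkE tab 0 u) u = true := ext_range (a := 17982) (len := 2514) h9 e0_9
  have h11 : ∀ u < 22292, (fun u => chkE tab 0 u) u = true := ext_range (a := 20496) (len := 1796) h10 e0_10
  have h12 : ∀ u < 25313, (fun u => chkE tab 0 u) u = true := ext_range (a := 22292) (len := 3021) h11 e0_11
  have h13 : ∀ u < 28559, (fun u => chkE tab 0 u) u = true := ext_range (a := 25313) (len := 3246) h12 e0_12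
  have h14 : ∀ u < 31140, (fun u => chkE tab 0 u) u = true := ext_range (a := 28559) (len := 2581) h13 e0_13
  have h15 : ∀ u < 34001, (fun u => chkE tab 0 u) u = true := ext_range (a := 31140) (len := 2861) h14 e0_14
  have h16 : ∀ u < 36209, (fun u => chkE tab 0 u) u = true := ext_range (a := 34001) (len := 2208) h15 e0_15
  have h17 : ∀ u < 38827, (fun u => chkE tab 0 u) u = true := ext_range (a := 36209) (len := 2618) h16 e0_16
  have h18 : ∀ u < 41210, (fun u => chkE tab 0 u) u = true := ext_range (a := 38827) (len := 2383) h17 e0_17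
  have h19 : ∀ u < 43917, (fun u => chkE tab 0 u) u = true := ext_range (a := 41210) (len := 2707) h18 e0_18
  have h20 : ∀ u < 44362, (fun u => chkE tab 0 u) u = true := ext_range (a := 43917) (len := 445) h19 e0_19
  exact h20

theorem hE1 : ∀ u < 44362, chkE tab 1 u = true := by
  have h0 : ∀ u < 0, (fun u => chkE tab 1 u) u = true := range_zero
  have h1 : ∀ u < 1836, (fun u => chkE tab 1 u) u = true := ext_range (a := 0) (len := 1836) h0 e1_0
  have h2 : ∀ u < 4023, (fun u => chkE tab 1 u) u = true := ext_range (a := 1836) (len := 2187) h1 e1_1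
  have h3 : ∀ u < 6025, (fun u => chkE tab 1 u) u = true := ext_range (a := 4023) (len := 2002) h2 e1_2
  have h4 : ∀ u < 8163, (fun u => chkE tab 1 u) u = true := ext_range (a := 6025) (len := 2138) h3 e1_3
  have h5 : ∀ u < 10280, (fun u => chkE tab 1 u) u = true := ext_range (a := 8163) (len := 2117) h4 e1_4
  have h6 : ∀ u < 12271, (fun u => chkE tab 1 u) u = true := ext_range (a := 10280) (len := 1991) h5 e1_5
  have h7 : ∀ u < 14351, (fun u => chkE tab 1 u) u = true := ext_range (a := 12271) (len := 2080) h6 e1_6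
  have h8 : ∀ u < 16629, (fun u => chkE tab 1 u) u = true := ext_range (a := 14351) (len := 2278) h7 e1_7
  have h9 : ∀ u < 18535, (fun u => chkE tab 1 u) u = true := ext_range (a := 16629) (len := 1906) h8 e1_8
  have h10 : ∀ u < 20845, (fun u => chkE tab 1 u) u = true := ext_range (a := 18535) (len := 2310) h9 e1_9
  have h11 : ∀ u < 22804, (fun u => chkE tab 1 u) u = true := ext_range (a := 20845) (len := 1959) h10 e1_10
  have h12 : ∀ u < 25524, (fun u => chkE tab 1 u) u = true := ext_range (a := 22804) (len := 2720) h11 e1_11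
  have h13 : ∀ u < 29621, (fun u => chkE tab 1 u) u = true := ext_range (a := 25524) (len := 4097) h12 e1_12
  have h14 : ∀ u < 31923, (fun u => chkE tab 1 u) u = true := ext_range (a := 29621) (len := 2302) h13 e1_13
  have h15 : ∀ u < 34260, (fun u => chkE tab 1 u) u = true := ext_range (a := 31923) (len := 2337) h14 e1_14
  have h16 : ∀ u < 36757, (fun u => chkE tab 1 u) u = true := ext_range (a := 34260) (len := 2497) h15 e1_15
  have h17 : ∀ u < 39301, (fun u => chkE tab 1 u) u = true := ext_range (a := 36757) (len := 2544) h16 e1_16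
  have h18 : ∀ u < 41836, (fun u => chkE tab 1 u) u = true := ext_range (a := 39301) (len := 2535) h17 e1_17
  have h19 : ∀ u < 44362, (fun u => chkE tab 1 u) u = true := ext_range (a := 41836) (len := 2526) h18 e1_18
  exact h19

theorem hE2 : ∀ u < 44362, chkE tab 2 u = true := by
  have h0 : ∀ u < 0, (fun u => chkE tab 2 u) u = true := range_zero
  have h1 : ∀ u < 1927, (fun u => chkE tab 2 u) u = true := ext_range (a := 0) (len := 1927) h0 e2_0
  have h2 : ∀ u < 4142, (fun u => chkE tab 2 u) u = true := ext_range (a := 1927) (len := 2215) h1 e2_1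
  have h3 : ∀ u < 6290, (fun u => chkE tab 2 u) u = true := ext_range (a := 4142) (len := 2148) h2 e2_2
  have h4 : ∀ u < 8396, (fun u => chkE tab 2 u) u = true := ext_range (a := 6290) (len := 2106) h3 e2_3
  have h5 : ∀ u < 10543, (fun u => chkE tab 2 u) u = true := ext_range (a := 8396) (len := 2147) h4 e2_4
  have h6 : ∀ u < 12656, (fun u => chkE tab 2 u) u = true := ext_range (a := 10543) (len := 2113) h5 e2_5
  have h7 : ∀ u < 14732, (fun u => chkE tab 2 u) u = true := ext_range (a := 12656) (len := 2076) h6 e2_6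
  have h8 : ∀ u < 16954, (fun u => chkE tab 2 u) u = true := ext_range (a := 14732) (len := 2222) h7 e2_7
  have h9 : ∀ u < 18964, (fun u => chkE tab 2 u) u = true := ext_range (a := 16954) (len := 2010) h8 e2_8
  have h10 : ∀ u < 21179, (fun u => chkE tab 2 u) u = true := ext_range (a := 18964) (len := 2215) h9 e2_9
  have h11 : ∀ u < 23213, (fun u => chkE tab 2 u) u = true := ext_range (a := 21179) (len := 2034) h10 e2_10
  have h12 : ∀ u < 25853, (fun u => chkE tab 2 u) u = true := ext_range (a := 23213) (len := 2640) h11 e2_11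
  have h13 : ∀ u < 30067, (fun u => chkE tab 2 u) u = true := ext_range (a := 25853) (len := 4214) h12 e2_12
  have h14 : ∀ u < 32341, (fun u => chkE tab 2 u) u = true := ext_range (a := 30067) (len := 2274) h13 e2_13
  have h15 : ∀ u < 34708, (fun u => chkE tab 2 u) u = true := ext_range (a := 32341) (len := 2367) h14 e2_14
  have h16 : ∀ u < 37172, (fun u => chkE tab 2 u) u = true := ext_range (a := 34708) (len := 2464) h15 e2_15
  have h17 : ∀ u < 39721, (fun u => chkE tab 2 u) u = true := ext_range (a := 37172) (len := 2549) h16 e2_16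
  have h18 : ∀ u < 42196, (fun u => chkE tab 2 u) u = true := ext_range (a := 39721) (len := 2475) h17 e2_17
  have h19 : ∀ u < 44362, (fun u => chkE tab 2 u) u = true := ext_range (a := 42196) (len := 2166) h18 e2_18
  exact h19

theorem hE3 : ∀ u < 44362, chkE tab 3 u = true := by
  have h0 : ∀ u < 0, (fun u => chkE tab 3 u) u = true := range_zero
  have h1 : ∀ u < 1977, (fun u => chkE tab 3 u) u = true := ext_range (a := 0) (len := 1977) h0 e3_0
  have h2 : ∀ u < 4328, (fun u => chkE tab 3 u) u = true := ext_range (a := 1977) (len := 2351) h1 e3_1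
  have h3 : ∀ u < 6457, (fun u => chkE tab 3 u) u = true := ext_range (a := 4328) (len := 2129) h2 e3_2
  have h4 : ∀ u < 8609, (fun u => chkE tab 3 u) u = true := ext_range (a := 6457) (len := 2152) h3 e3_3
  have h5 : ∀ u < 10726, (fun u => chkE tab 3 u) u = true := ext_range (a := 8609) (len := 2117) h4 e3_4
  have h6 : ∀ u < 12897, (fun u => chkE tab 3 u) u = true := ext_range (a := 10726) (len := 2171) h5 e3_5
  have h7 : ∀ u < 14984, (fun u => chkE tab 3 u) u = true := ext_range (a := 12897) (len := 2087) h6 e3_6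
  have h8 : ∀ u < 17149, (fun u => chkE tab 3 u) u = true := ext_range (a := 14984) (len := 2165) h7 e3_7
  have h9 : ∀ u < 19263, (fun u => chkE tab 3 u) u = true := ext_range (a := 17149) (len := 2114) h8 e3_8
  have h10 : ∀ u < 21484, (fun u => chkE tab 3 u) u = true := ext_range (a := 19263) (len := 2221) h9 e3_9
  have h11 : ∀ u < 23600, (fun u => chkE tab 3 u) u = true := ext_range (a := 21484) (len := 2116) h10 e3_10
  have h12 : ∀ u < 27021, (fun u => chkE tab 3 u) u = true := ext_range (a := 23600) (len := 3421) h11 e3_11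
  have h13 : ∀ u < 30469, (fun u => chkE tab 3 u) u = true := ext_range (a := 27021) (len := 3448) h12 e3_12
  have h14 : ∀ u < 32868, (fun u => chkE tab 3 u) u = true := ext_range (a := 30469) (len := 2399) h13 e3_13
  have h15 : ∀ u < 35358, (fun u => chkE tab 3 u) u = true := ext_range (a := 32868) (len := 2490) h14 e3_14
  have h16 : ∀ u < 37766, (fun u => chkE tab 3 u) u = true := ext_range (a := 35358) (len := 2408) h15 e3_15
  have h17 : ∀ u < 40289, (fun u => chkE tab 3 u) u = true := ext_range (a := 37766) (len := 2523) h16 e3_16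
  have h18 : ∀ u < 42889, (fun u => chkE tab 3 u) u = true := ext_range (a := 40289) (len := 2600) h17 e3_17
  have h19 : ∀ u < 44362, (fun u => chkE tab 3 u) u = true := ext_range (a := 42889) (len := 1473) h18 e3_18
  exact h19

theorem hE4 : ∀ u < 44362, chkE tab 4 u = true := by
  have h0 : ∀ u < 0, (fun u => chkE tab 4 u) u = true := range_zero
  have h1 : ∀ u < 2104, (fun u => chkE tab 4 u) u = true := ext_range (a := 0) (len := 2104) h0 e4_0
  have h2 : ∀ u < 4500, (fun u => chkE tab 4 u) u = true := ext_range (a := 2104) (len := 2396) h1 e4_1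
  have h3 : ∀ u < 6723, (fun u => chkE tab 4 u) u = true := ext_range (a := 4500) (len := 2223) h2 e4_2
  have h4 : ∀ u < 8925, (fun u => chkE tab 4 u) u = true := ext_range (a := 6723) (len := 2202) h3 e4_3
  have h5 : ∀ u < 11132, (fun u => chkE tab 4 u) u = true := ext_range (a := 8925) (len := 2207) h4 e4_4
  have h6 : ∀ u < 13307, (fun u => chkE tab 4 u) u = true := ext_range (a := 11132) (len := 2175) h5 e4_5
  have h7 : ∀ u < 15494, (fun u => chkE tab 4 u) u = true := ext_range (a := 13307) (len := 2187) h6 e4_6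
  have h8 : ∀ u < 17609, (fun u => chkE tab 4 u) u = true := ext_range (a := 15494) (len := 2115) h7 e4_7
  have h9 : ∀ u < 19825, (fun u => chkE tab 4 u) u = true := ext_range (a := 17609) (len := 2216) h8 e4_8
  have h10 : ∀ u < 21968, (fun u => chkE tab 4 u) u = true := ext_range (a := 19825) (len := 2143) h9 e4_9
  have h11 : ∀ u < 24306, (fun u => chkE tab 4 u) u = true := ext_range (a := 21968) (len := 2338) h10 e4_10
  have h12 : ∀ u < 27905, (fun u => chkE tab 4 u) u = true := ext_range (a := 24306) (len := 3599) h11 e4_11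
  have h13 : ∀ u < 31013, (fun u => chkE tab 4 u) u = true := ext_range (a := 27905) (len := 3108) h12 e4_12
  have h14 : ∀ u < 33622, (fun u => chkE tab 4 u) u = true := ext_range (a := 31013) (len := 2609) h13 e4_13
  have h15 : ∀ u < 36201, (fun u => chkE tab 4 u) u = true := ext_range (a := 33622) (len := 2579) h14 e4_14
  have h16 : ∀ u < 38814, (fun u => chkE tab 4 u) u = true := ext_range (a := 36201) (len := 2613) h15 e4_15
  have h17 : ∀ u < 41322, (fun u => chkE tab 4 u) u = true := ext_range (a := 38814) (len := 2508) h16 e4_16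
  have h18 : ∀ u < 43955, (fun u => chkE tab 4 u) u = true := ext_range (a := 41322) (len := 2633) h17 e4_17
  have h19 : ∀ u < 44362, (fun u => chkE tab 4 u) u = true := ext_range (a := 43955) (len := 407) h18 e4_18
  exact h19

theorem hE5 : ∀ u < 44362, chkE tab 5 u = true := by
  have h0 : ∀ u < 0, (fun u => chkE tab 5 u) u = true := range_zero
  have h1 : ∀ u < 2255, (fun u => chkE tab 5 u) u = true := ext_range (a := 0) (len := 2255) h0 e5_0
  have h2 : ∀ u < 4823, (fun u => chkE tab 5 u) u = true := ext_range (a := 2255) (len := 2568) h1 e5_1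
  have h3 : ∀ u < 7147, (fun u => chkE tab 5 u) u = true := ext_range (a := 4823) (len := 2324) h2 e5_2
  have h4 : ∀ u < 9459, (fun u => chkE tab 5 u) u = true := ext_range (a := 7147) (len := 2312) h3 e5_3
  have h5 : ∀ u < 11730, (fun u => chkE tab 5 u) u = true := ext_range (a := 9459) (len := 2271) h4 e5_4
  have h6 : ∀ u < 14003, (fun u => chkE tab 5 u) u = true := ext_range (a := 11730) (len := 2273) h5 e5_5
  have h7 : ∀ u < 16306, (fun u => chkE tab 5 u) u = true := ext_range (a := 14003) (len := 2303) h6 e5_6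
  have h8 : ∀ u < 18546, (fun u => chkE tab 5 u) u = true := ext_range (a := 16306) (len := 2240) h7 e5_7
  have h9 : ∀ u < 20884, (fun u => chkE tab 5 u) u = true := ext_range (a := 18546) (len := 2338) h8 e5_8
  have h10 : ∀ u < 23171, (fun u => chkE tab 5 u) u = true := ext_range (a := 20884) (len := 2287) h9 e5_9
  have h11 : ∀ u < 26260, (fun u => chkE tab 5 u) u = true := ext_range (a := 23171) (len := 3089) h10 e5_10
  have h12 : ∀ u < 30181, (fun u => chkE tab 5 u) u = true := ext_range (a := 26260) (len := 3921) h11 e5_11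
  have h13 : ∀ u < 32619, (fun u => chkE tab 5 u) u = true := ext_range (a := 30181) (len := 2438) h12 e5_12
  have h14 : ∀ u < 35178, (fun u => chkE tab 5 u) u = true := ext_range (a := 32619) (len := 2559) h13 e5_13
  have h15 : ∀ u < 37958, (fun u => chkE tab 5 u) u = true := ext_range (a := 35178) (len := 2780) h14 e5_14
  have h16 : ∀ u < 40747, (fun u => chkE tab 5 u) u = true := ext_range (a := 37958) (len := 2789) h15 e5_15
  have h17 : ∀ u < 43262, (fun u => chkE tab 5 u) u = true := ext_range (a := 40747) (len := 2515) h16 e5_16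
  have h18 : ∀ u < 44362, (fun u => chkE tab 5 u) u = true := ext_range (a := 43262) (len := 1100) h17 e5_17
  exact h18

theorem hE6 : ∀ u < 44362, chkE tab 6 u = true := by
  have h0 : ∀ u < 0, (fun u => chkE tab 6 u) u = true := range_zero
  have h1 : ∀ u < 2323, (fun u => chkE tab 6 u) u = true := ext_range (a := 0) (len := 2323) h0 e6_0
  have h2 : ∀ u < 5095, (fun u => chkE tab 6 u) u = true := ext_range (a := 2323) (len := 2772) h1 e6_1
  have h3 : ∀ u < 7921, (fun u => chkE tab 6 u) u = true := ext_range (a := 5095) (len := 2826) h2 e6_2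
  have h4 : ∀ u < 10650, (fun u => chkE tab 6 u) u = true := ext_range (a := 7921) (len := 2729) h3 e6_3
  have h5 : ∀ u < 13157, (fun u => chkE tab 6 u) u = true := ext_range (a := 10650) (len := 2507) h4 e6_4
  have h6 : ∀ u < 15620, (fun u => chkE tab 6 u) u = true := ext_range (a := 13157) (len := 2463) h5 e6_5
  have h7 : ∀ u < 18049, (fun u => chkE tab 6 u) u = true := ext_range (a := 15620) (len := 2429) h6 e6_6
  have h8 : ∀ u < 20512, (fun u => chkE tab 6 u) u = true := ext_range (a := 18049) (len := 2463) h7 e6_7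
  have h9 : ∀ u < 22924, (fun u => chkE tab 6 u) u = true := ext_range (a := 20512) (len := 2412) h8 e6_8
  have h10 : ∀ u < 25757, (fun u => chkE tab 6 u) u = true := ext_range (a := 22924) (len := 2833) h9 e6_9
  have h11 : ∀ u < 29995, (fun u => chkE tab 6 u) u = true := ext_range (a := 25757) (len := 4238) h10 e6_10
  have h12 : ∀ u < 32629, (fun u => chkE tab 6 u) u = true := ext_range (a := 29995) (len := 2634) h11 e6_11
  have h13 : ∀ u < 35460, (fun u => chkE tab 6 u) u = true := ext_range (a := 32629) (len := 2831) h12 e6_12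
  have h14 : ∀ u < 38208, (fun u => chkE tab 6 u) u = true := ext_range (a := 35460) (len := 2748) h13 e6_13
  have h15 : ∀ u < 40830, (fun u => chkE tab 6 u) u = true := ext_range (a := 38208) (len := 2622) h14 e6_14
  have h16 : ∀ u < 43492, (fun u => chkE tab 6 u) u = true := ext_range (a := 40830) (len := 2662) h15 e6_15
  have h17 : ∀ u < 44362, (fun u => chkE tab 6 u) u = true := ext_range (a := 43492) (len := 870) h16 e6_16
  exact h17

theorem hE7 : ∀ u < 44362, chkE tab 7 u = true := by
  have h0 : ∀ u < 0, (fun u => chkE tab 7 u) u = true := range_zero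
  have h1 : ∀ u < 2189, (fun u => chkE tab 7 u) u = true := ext_range (a := 0) (len := 2189) h0 e7_0
  have h2 : ∀ u < 4778, (fun u => chkE tab 7 u) u = true := ext_range (a := 2189) (len := 2589) h1 e7_1
  have h3 : ∀ u < 7599, (fun u => chkE tab 7 u) u = true := ext_range (a := 4778) (len := 2821) h2 e7_2
  have h4 : ∀ u < 10774, (fun u => chkE tab 7 u) u = true := ext_range (a := 7599) (len := 3175) h3 e7_3
  have h5 : ∀ u < 13879, (fun u => chkE tab 7 u) u = true := ext_range (a := 10774) (len := 3105) h4 e7_4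
  have h6 : ∀ u < 16839, (fun u => chkE tab 7 u) u = true := ext_range (a := 13879) (len := 2960) h5 e7_5
  have h7 : ∀ u < 19693, (fun u => chkE tab 7 u) u = true := ext_range (a := 16839) (len := 2854) h6 e7_6
  have h8 : ∀ u < 22569, (fun u => chkE tab 7 u) u = true := ext_range (a := 19693) (len := 2876) h7 e7_7
  have h9 : ∀ u < 25786, (fun u => chkE tab 7 u) u = true := ext_range (a := 22569) (len := 3217) h8 e7_8
  have h10 : ∀ u < 30233, (fun u => chkE tab 7 u) u = true := ext_range (a := 25786) (len := 4447) h9 e7_9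
  have h11 : ∀ u < 32824, (fun u => chkE tab 7 u) u = true := ext_range (a := 30233) (len := 2591) h10 e7_10
  have h12 : ∀ u < 35367, (fun u => chkE tab 7 u) u = true := ext_range (a := 32824) (len := 2543) h11 e7_11
  have h13 : ∀ u < 37899, (fun u => chkE tab 7 u) u = true := ext_range (a := 35367) (len := 2532) h12 e7_12
  have h14 : ∀ u < 40629, (fun u => chkE tab 7 u) u = true := ext_range (a := 37899) (len := 2730) h13 e7_13
  have h15 : ∀ u < 43517, (fun u => chkE tab 7 u) u = true := ext_range (a := 40629) (len := 2888) h14 e7_14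
  have h16 : ∀ u < 44362, (fun u => chkE tab 7 u) u = true := ext_range (a := 43517) (len := 845) h15 e7_15
  exact h16

theorem hE8 : ∀ u < 44362, chkE tab 8 u = true := by
  have h0 : ∀ u < 0, (fun u => chkE tab 8 u) u = true := range_zero
  have h1 : ∀ u < 2615, (fun u => chkE tab 8 u) u = true := ext_range (a := 0) (len := 2615) h0 e8_0
  have h2 : ∀ u < 5258, (fun u => chkE tab 8 u) u = true := ext_range (a := 2615) (len := 2643) h1 e8_1
  have h3 : ∀ u < 7642, (fun u => chkE tab 8 u) u = true := ext_range (a := 5258) (len := 2384) h2 e8_2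
  have h4 : ∀ u < 10082, (fun u => chkE tab 8 u) u = true := ext_range (a := 7642) (len := 2440) h3 e8_3
  have h5 : ∀ u < 12660, (fun u => chkE tab 8 u) u = true := ext_range (a := 10082) (len := 2578) h4 e8_4
  have h6 : ∀ u < 15446, (fun u => chkE tab 8 u) u = true := ext_range (a := 12660) (len := 2786) h5 e8_5
  have h7 : ∀ u < 18343, (fun u => chkE tab 8 u) u = true := ext_range (a := 15446) (len := 2897) h6 e8_6
  have h8 : ∀ u < 21258, (fun u => chkE tab 8 u) u = true := ext_range (a := 18343) (len := 2915) h7 e8_7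
  have h9 : ∀ u < 24192, (fun u => chkE tab 8 u) u = true := ext_range (a := 21258) (len := 2934) h8 e8_8
  have h10 : ∀ u < 28702, (fun u => chkE tab 8 u) u = true := ext_range (a := 24192) (len := 4510) h9 e8_9
  have h11 : ∀ u < 31954, (fun u => chkE tab 8 u) u = true := ext_range (a := 28702) (len := 3252) h10 e8_10
  have h12 : ∀ u < 34749, (fun u => chkE tab 8 u) u = true := ext_range (a := 31954) (len := 2795) h11 e8_11
  have h13 : ∀ u < 37699, (fun u => chkE tab 8 u) u = true := ext_range (a := 34749) (len := 2950) h12 e8_12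
  have h14 : ∀ u < 40760, (fun u => chkE tab 8 u) u = true := ext_range (a := 37699) (len := 3061) h13 e8_13
  have h15 : ∀ u < 43573, (fun u => chkE tab 8 u) u = true := ext_range (a := 40760) (len := 2813) h14 e8_14
  have h16 : ∀ u < 44362, (fun u => chkE tab 8 u) u = true := ext_range (a := 43573) (len := 789) h15 e8_15
  exact h16

theorem hE9 : ∀ u < 44362, chkE tab 9 u = true := by
  have h0 : ∀ u < 0, (fun u => chkE tab 9 u) u = true := range_zero
  have h1 : ∀ u < 2678, (fun u => chkE tab 9 u) u = true := ext_range (a := 0) (len := 2678) h0 e9_0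
  have h2 : ∀ u < 5175, (fun u => chkE tab 9 u) u = true := ext_range (a := 2678) (len := 2497) h1 e9_1
  have h3 : ∀ u < 7403, (fun u => chkE tab 9 u) u = true := ext_range (a := 5175) (len := 2228) h2 e9_2
  have h4 : ∀ u < 9608, (fun u => chkE tab 9 u) u = true := ext_range (a := 7403) (len := 2205) h3 e9_3
  have h5 : ∀ u < 12033, (fun u => chkE tab 9 u) u = true := ext_range (a := 9608) (len := 2425) h4 e9_4
  have h6 : ∀ u < 14586, (fun u => chkE tab 9 u) u = true := ext_range (a := 12033) (len := 2553) h5 e9_5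
  have h7 : ∀ u < 17075, (fun u => chkE tab 9 u) u = true := ext_range (a := 14586) (len := 2489) h6 e9_6
  have h8 : ∀ u < 19882, (fun u => chkE tab 9 u) u = true := ext_range (a := 17075) (len := 2807) h7 e9_7
  have h9 : ∀ u < 22711, (fun u => chkE tab 9 u) u = true := ext_range (a := 19882) (len := 2829) h8 e9_8
  have h10 : ∀ u < 26060, (fun u => chkE tab 9 u) u = true := ext_range (a := 22711) (len := 3349) h9 e9_9
  have h11 : ∀ u < 30417, (fun u => chkE tab 9 u) u = true := ext_range (a := 26060) (len := 4357) h10 e9_10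
  have h12 : ∀ u < 33473, (fun u => chkE tab 9 u) u = true := ext_range (a := 30417) (len := 3056) h11 e9_11
  have h13 : ∀ u < 36739, (fun u => chkE tab 9 u) u = true := ext_range (a := 33473) (len := 3266) h12 e9_12
  have h14 : ∀ u < 40320, (fun u => chkE tab 9 u) u = true := ext_range (a := 36739) (len := 3581) h13 e9_13
  have h15 : ∀ u < 44302, (fun u => chkE tab 9 u) u = true := ext_range (a := 40320) (len := 3982) h14 e9_14
  have h16 : ∀ u < 44362, (fun u => chkE tab 9 u) u = true := ext_range (a := 44302) (len := 60) h15 e9_15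
  exact h16

theorem hL : ∀ u < 44362, chkL tab u = true := by
  have h0 : ∀ u < 0, (fun u => chkL tab u) u = true := range_zero
  have h1 : ∀ u < 4288, (fun u => chkL tab u) u = true := ext_range (a := 0) (len := 4288) h0 l_0
  have h2 : ∀ u < 8460, (fun u => chkL tab u) u = true := ext_range (a := 4288) (len := 4172) h1 l_1
  have h3 : ∀ u < 11215, (fun u => chkL tab u) u = true := ext_range (a := 8460) (len := 2755) h2 l_2
  have h4 : ∀ u < 14176, (fun u => chkL tab u) u = true := ext_range (a := 11215) (len := 2961) h3 l_3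
  have h5 : ∀ u < 17272, (fun u => chkL tab u) u = true := ext_range (a := 14176) (len := 3096) h4 l_4
  have h6 : ∀ u < 19651, (fun u => chkL tab u) u = true := ext_range (a := 17272) (len := 2379) h5 l_5
  have h7 : ∀ u < 22272, (fun u => chkL tab u) u = true := ext_range (a := 19651) (len := 2621) h6 l_6
  have h8 : ∀ u < 24682, (fun u => chkL tab u) u = true := ext_range (a := 22272) (len := 2410) h7 l_7
  have h9 : ∀ u < 27081, (fun u => chkL tab u) u = true := ext_range (a := 24682) (len := 2399) h8 l_8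
  have h10 : ∀ u < 28955, (fun u => chkL tab u) u = true := ext_range (a := 27081) (len := 1874) h9 l_9
  have h11 : ∀ u < 44362, (fun u => chkL tab u) u = true := ext_range (a := 28955) (len := 15407) h10 l_10
  exact h11

theorem hF : ∀ u < 28431, chkFin tab u = true := by
  have h0 : ∀ u < 0, (fun u => chkFin tab u) u = true := range_zero
  have h1 : ∀ u < 250, (fun u => chkFin tab u) u = true := ext_range (a := 0) (len := 250) h0 f_0
  have h2 : ∀ u < 500, (fun u => chkFin tab u) u = true := ext_range (a := 250) (len := 250) h1 f_1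
  have h3 : ∀ u < 750, (fun u => chkFin tab u) u = true := ext_range (a := 500) (len := 250) h2 f_2
  have h4 : ∀ u < 1000, (fun u => chkFin tab u) u = true := ext_range (a := 750) (len := 250) h3 f_3
  have h5 : ∀ u < 1250, (fun u => chkFin tab u) u = true := ext_range (a := 1000) (len := 250) h4 f_4
  have h6 : ∀ u < 1500, (fun u => chkFin tab u) u = true := ext_range (a := 1250) (len := 250) h5 f_5
  have h7 : ∀ u < 1750, (fun u => chkFin tab u) u = true := ext_range (a := 1500) (len := 250) h6 f_6
  have h8 : ∀ u < 2000, (fun u => chkFin tab u) u = true := ext_range (a := 1750) (len := 250) h7 f_7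
  have h9 : ∀ u < 2250, (fun u => chkFin tab u) u = true := ext_range (a := 2000) (len := 250) h8 f_8
  have h10 : ∀ u < 2500, (fun u => chkFin tab u) u = true := ext_range (a := 2250) (len := 250) h9 f_9
  have h11 : ∀ u < 2750, (fun u => chkFin tab u) u = true := ext_range (a := 2500) (len := 250) h10 f_10
  have h12 : ∀ u < 3000, (fun u => chkFin tab u) u = true := ext_range (a := 2750) (len := 250) h11 f_11
  have h13 : ∀ u < 3250, (fun u => chkFin tab u) u = true := ext_range (a := 3000) (len := 250) h12 f_12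
  have h14 : ∀ u < 3500, (fun u => chkFin tab u) u = true := ext_range (a := 3250) (len := 250) h13 f_13
  have h15 : ∀ u < 3750, (fun u => chkFin tab u) u = true := ext_range (a := 3500) (len := 250) h14 f_14
  have h16 : ∀ u < 4000, (fun u => chkFin tab u) u = true := ext_range (a := 3750) (len := 250) h15 f_15
  have h17 : ∀ u < 4250, (fun u => chkFin tab u) u = true := ext_range (a := 4000) (len := 250) h16 f_16
  have h18 : ∀ u < 4500, (fun u => chkFin tab u) u = true := ext_range (a := 4250) (len := 250) h17 f_17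
  have h19 : ∀ u < 4750, (fun u => chkFin tab u) u = true := ext_range (a := 4500) (len := 250) h18 f_18
  have h20 : ∀ u < 5000, (fun u => chkFin tab u) u = true := ext_range (a := 4750) (len := 250) h19 f_19
  have h21 : ∀ u < 5250, (fun u => chkFin tab u) u = true := ext_range (a := 5000) (len := 250) h20 f_20
  have h22 : ∀ u < 5500, (fun u => chkFin tab u) u = true := ext_range (a := 5250) (len := 250) h21 f_21
  have h23 : ∀ u < 5750, (fun u => chkFin tab u) u = true := ext_range (a := 5500) (len := 250) h22 f_22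
  have h24 : ∀ u < 6000, (fun u => chkFin tab u) u = true := ext_range (a := 5750) (len := 250) h23 f_23
  have h25 : ∀ u < 6250, (fun u => chkFin tab u) u = true := ext_range (a := 6000) (len := 250) h24 f_24
  have h26 : ∀ u < 6500, (fun u => chkFin tab u) u = true := ext_range (a := 6250) (len := 250) h25 f_25
  have h27 : ∀ u < 6750, (fun u => chkFin tab u) u = true := ext_range (a := 6500) (len := 250) h26 f_26
  have h28 : ∀ u < 7000, (fun u => chkFin tab u) u = true := ext_range (a := 6750) (len := 250) h27 f_27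
  have h29 : ∀ u < 7250, (fun u => chkFin tab u) u = true := ext_range (a := 7000) (len := 250) h28 f_28
  have h30 : ∀ u < 7500, (fun u => chkFin tab u) u = true := ext_range (a := 7250) (len := 250) h29 f_29
  have h31 : ∀ u < 7750, (fun u => chkFin tab u) u = true := ext_range (a := 7500) (len := 250) h30 f_30
  have h32 : ∀ u < 8000, (fun u => chkFin tab u) u = true := ext_range (a := 7750) (len := 250) h31 f_31
  have h33 : ∀ u < 8250, (fun u => chkFin tab u) u = true := ext_range (a := 8000) (len := 250) h32 f_32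
  have h34 : ∀ u < 8500, (fun u => chkFin tab u) u = true := ext_range (a := 8250) (len := 250) h33 f_33
  have h35 : ∀ u < 8750, (fun u => chkFin tab u) u = true := ext_range (a := 8500) (len := 250) h34 f_34
  have h36 : ∀ u < 9000, (fun u => chkFin tab u) u = true := ext_range (a := 8750) (len := 250) h35 f_35
  have h37 : ∀ u < 9250, (fun u => chkFin tab u) u = true := ext_range (a := 9000) (len := 250) h36 f_36
  have h38 : ∀ u < 9500, (fun u => chkFin tab u) u = true := ext_range (a := 9250) (len := 250) h37 f_37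
  have h39 : ∀ u < 9750, (fun u => chkFin tab u) u = true := ext_range (a := 9500) (len := 250) h38 f_38
  have h40 : ∀ u < 10000, (fun u => chkFin tab u) u = true := ext_range (a := 9750) (len := 250) h39 f_39
  have h41 : ∀ u < 10250, (fun u => chkFin tab u) u = true := ext_range (a := 10000) (len := 250) h40 f_40
  have h42 : ∀ u < 10500, (fun u => chkFin tab u) u = true := ext_range (a := 10250) (len := 250) h41 f_41
  have h43 : ∀ u < 10750, (fun u => chkFin tab u) u = true := ext_range (a := 10500) (len := 250) h42 f_42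
  have h44 : ∀ u < 11000, (fun u => chkFin tab u) u = true := ext_range (a := 10750) (len := 250) h43 f_43
  have h45 : ∀ u < 11250, (fun u => chkFin tab u) u = true := ext_range (a := 11000) (len := 250) h44 f_44
  have h46 : ∀ u < 11500, (fun u => chkFin tab u) u = true := ext_range (a := 11250) (len := 250) h45 f_45
  have h47 : ∀ u < 11750, (fun u => chkFin tab u) u = true := ext_range (a := 11500) (len := 250) h46 f_46
  have h48 : ∀ u < 12000, (fun u => chkFin tab u) u = true := ext_range (a := 11750) (len := 250) h47 f_47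
  have h49 : ∀ u < 12250, (fun u => chkFin tab u) u = true := ext_range (a := 12000) (len := 250) h48 f_48
  have h50 : ∀ u < 12500, (fun u => chkFin tab u) u = true := ext_range (a := 12250) (len := 250) h49 f_49
  have h51 : ∀ u < 12750, (fun u => chkFin tab u) u = true := ext_range (a := 12500) (len := 250) h50 f_50
  have h52 : ∀ u < 13000, (fun u => chkFin tab u) u = true := ext_range (a := 12750) (len := 250) h51 f_51
  have h53 : ∀ u < 13250, (fun u => chkFin tab u) u = true := ext_range (a := 13000) (len := 250) h52 f_52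
  have h54 : ∀ u < 13500, (fun u => chkFin tab u) u = true := ext_range (a := 13250) (len := 250) h53 f_53
  have h55 : ∀ u < 13750, (fun u => chkFin tab u) u = true := ext_range (a := 13500) (len := 250) h54 f_54
  have h56 : ∀ u < 14000, (fun u => chkFin tab u) u = true := ext_range (a := 13750) (len := 250) h55 f_55
  have h57 : ∀ u < 14250, (fun u => chkFin tab u) u = true := ext_range (a := 14000) (len := 250) h56 f_56
  have h58 : ∀ u < 14500, (fun u => chkFin tab u) u = true := ext_range (a := 14250) (len := 250) h57 f_57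
  have h59 : ∀ u < 14750, (fun u => chkFin tab u) u = true := ext_range (a := 14500) (len := 250) h58 f_58
  have h60 : ∀ u < 15000, (fun u => chkFin tab u) u = true := ext_range (a := 14750) (len := 250) h59 f_59
  have h61 : ∀ u < 15250, (fun u => chkFin tab u) u = true := ext_range (a := 15000) (len := 250) h60 f_60
  have h62 : ∀ u < 15500, (fun u => chkFin tab u) u = true := ext_range (a := 15250) (len := 250) h61 f_61
  have h63 : ∀ u < 15750, (fun u => chkFin tab u) u = true := ext_range (a := 15500) (len := 250) h62 f_62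
  have h64 : ∀ u < 16000, (fun u => chkFin tab u) u = true := ext_range (a := 15750) (len := 250) h63 f_63
  have h65 : ∀ u < 16250, (fun u => chkFin tab u) u = true := ext_range (a := 16000) (len := 250) h64 f_64
  have h66 : ∀ u < 16500, (fun u => chkFin tab u) u = true := ext_range (a := 16250) (len := 250) h65 f_65
  have h67 : ∀ u < 16750, (fun u => chkFin tab u) u = true := ext_range (a := 16500) (len := 250) h66 f_66
  have h68 : ∀ u < 17000, (fun u => chkFin tab u) u = true := ext_range (a := 16750) (len := 250) h67 f_67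
  have h69 : ∀ u < 17250, (fun u => chkFin tab u) u = true := ext_range (a := 17000) (len := 250) h68 f_68
  have h70 : ∀ u < 17500, (fun u => chkFin tab u) u = true := ext_range (a := 17250) (len := 250) h69 f_69
  have h71 : ∀ u < 17750, (fun u => chkFin tab u) u = true := ext_range (a := 17500) (len := 250) h70 f_70
  have h72 : ∀ u < 18000, (fun u => chkFin tab u) u = true := ext_range (a := 17750) (len := 250) h71 f_71
  have h73 : ∀ u < 18250, (fun u => chkFin tab u) u = true := ext_range (a := 18000) (len := 250) h72 f_72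
  have h74 : ∀ u < 18500, (fun u => chkFin tab u) u = true := ext_range (a := 18250) (len := 250) h73 f_73
  have h75 : ∀ u < 18750, (fun u => chkFin tab u) u = true := ext_range (a := 18500) (len := 250) h74 f_74
  have h76 : ∀ u < 19000, (fun u => chkFin tab u) u = true := ext_range (a := 18750) (len := 250) h75 f_75
  have h77 : ∀ u < 19250, (fun u => chkFin tab u) u = true := ext_range (a := 19000) (len := 250) h76 f_76
  have h78 : ∀ u < 19500, (fun u => chkFin tab u) u = true := ext_range (a := 19250) (len := 250) h77 f_77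
  have h79 : ∀ u < 19750, (fun u => chkFin tab u) u = true := ext_range (a := 19500) (len := 250) h78 f_78
  have h80 : ∀ u < 20000, (fun u => chkFin tab u) u = true := ext_range (a := 19750) (len := 250) h79 f_79
  have h81 : ∀ u < 20250, (fun u => chkFin tab u) u = true := ext_range (a := 20000) (len := 250) h80 f_80
  have h82 : ∀ u < 20500, (fun u => chkFin tab u) u = true := ext_range (a := 20250) (len := 250) h81 f_81
  have h83 : ∀ u < 20750, (fun u => chkFin tab u) u = true := ext_range (a := 20500) (len := 250) h82 f_82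
  have h84 : ∀ u < 21000, (fun u => chkFin tab u) u = true := ext_range (a := 20750) (len := 250) h83 f_83
  have h85 : ∀ u < 21250, (fun u => chkFin tab u) u = true := ext_range (a := 21000) (len := 250) h84 f_84
  have h86 : ∀ u < 21500, (fun u => chkFin tab u) u = true := ext_range (a := 21250) (len := 250) h85 f_85
  have h87 : ∀ u < 21750, (fun u => chkFin tab u) u = true := ext_range (a := 21500) (len := 250) h86 f_86
  have h88 : ∀ u < 22000, (fun u => chkFin tab u) u = true := ext_range (a := 21750) (len := 250) h87 f_87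
  have h89 : ∀ u < 22250, (fun u => chkFin tab u) u = true := ext_range (a := 22000) (len := 250) h88 f_88
  have h90 : ∀ u < 22500, (fun u => chkFin tab u) u = true := ext_range (a := 22250) (len := 250) h89 f_89
  have h91 : ∀ u < 22750, (fun u => chkFin tab u) u = true := ext_range (a := 22500) (len := 250) h90 f_90
  have h92 : ∀ u < 23000, (fun u => chkFin tab u) u = true := ext_range (a := 22750) (len := 250) h91 f_91
  have h93 : ∀ u < 23250, (fun u => chkFin tab u) u = true := ext_range (a := 23000) (len := 250) h92 f_92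
  have h94 : ∀ u < 23500, (fun u => chkFin tab u) u = true := ext_range (a := 23250) (len := 250) h93 f_93
  have h95 : ∀ u < 23750, (fun u => chkFin tab u) u = true := ext_range (a := 23500) (len := 250) h94 f_94
  have h96 : ∀ u < 24000, (fun u => chkFin tab u) u = true := ext_range (a := 23750) (len := 250) h95 f_95
  have h97 : ∀ u < 24250, (fun u => chkFin tab u) u = true := ext_range (a := 24000) (len := 250) h96 f_96
  have h98 : ∀ u < 24500, (fun u => chkFin tab u) u = true := ext_range (a := 24250) (len := 250) h97 f_97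
  have h99 : ∀ u < 24750, (fun u => chkFin tab u) u = true := ext_range (a := 24500) (len := 250) h98 f_98
  have h100 : ∀ u < 25000, (fun u => chkFin tab u) u = true := ext_range (a := 24750) (len := 250) h99 f_99
  have h101 : ∀ u < 25250, (fun u => chkFin tab u) u = true := ext_range (a := 25000) (len := 250) h100 f_100
  have h102 : ∀ u < 25500, (fun u => chkFin tab u) u = true := ext_range (a := 25250) (len := 250) h101 f_101
  have h103 : ∀ u < 25750, (fun u => chkFin tab u) u = true := ext_range (a := 25500) (len := 250) h102 f_102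
  have h104 : ∀ u < 26000, (fun u => chkFin tab u) u = true := ext_range (a := 25750) (len := 250) h103 f_103
  have h105 : ∀ u < 26250, (fun u => chkFin tab u) u = true := ext_range (a := 26000) (len := 250) h104 f_104
  have h106 : ∀ u < 26500, (fun u => chkFin tab u) u = true := ext_range (a := 26250) (len := 250) h105 f_105
  have h107 : ∀ u < 26750, (fun u => chkFin tab u) u = true := ext_range (a := 26500) (len := 250) h106 f_106
  have h108 : ∀ u < 27000, (fun u => chkFin tab u) u = true := ext_range (a := 26750) (len := 250) h107 f_107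
  have h109 : ∀ u < 27250, (fun u => chkFin tab u) u = true := ext_range (a := 27000) (len := 250) h108 f_108
  have h110 : ∀ u < 27500, (fun u => chkFin tab u) u = true := ext_range (a := 27250) (len := 250) h109 f_109
  have h111 : ∀ u < 27750, (fun u => chkFin tab u) u = true := ext_range (a := 27500) (len := 250) h110 f_110
  have h112 : ∀ u < 28000, (fun u => chkFin tab u) u = true := ext_range (a := 27750) (len := 250) h111 f_111
  have h113 : ∀ u < 28250, (fun u => chkFin tab u) u = true := ext_range (a := 28000) (len := 250) h112 f_112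
  have h114 : ∀ u < 28431, (fun u => chkFin tab u) u = true := ext_range (a := 28250) (len := 181) h113 f_113
  exact h114

theorem hC : ∀ u < 44362, chkCls tab u = true := by
  have h0 : ∀ u < 0, (fun u => chkCls tab u) u = true := range_zero
  have h1 : ∀ u < 2667, (fun u => chkCls tab u) u = true := ext_range (a := 0) (len := 2667) h0 c_0
  have h2 : ∀ u < 5334, (fun u => chkCls tab u) u = true := ext_range (a := 2667) (len := 2667) h1 c_1
  have h3 : ∀ u < 8001, (fun u => chkCls tab u) u = true := ext_range (a := 5334) (len := 2667) h2 c_2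
  have h4 : ∀ u < 10668, (fun u => chkCls tab u) u = true := ext_range (a := 8001) (len := 2667) h3 c_3
  have h5 : ∀ u < 13335, (fun u => chkCls tab u) u = true := ext_range (a := 10668) (len := 2667) h4 c_4
  have h6 : ∀ u < 16002, (fun u => chkCls tab u) u = true := ext_range (a := 13335) (len := 2667) h5 c_5
  have h7 : ∀ u < 18669, (fun u => chkCls tab u) u = true := ext_range (a := 16002) (len := 2667) h6 c_6
  have h8 : ∀ u < 21336, (fun u => chkCls tab u) u = true := ext_range (a := 18669) (len := 2667) h7 c_7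
  have h9 : ∀ u < 24003, (fun u => chkCls tab u) u = true := ext_range (a := 21336) (len := 2667) h8 c_8
  have h10 : ∀ u < 26670, (fun u => chkCls tab u) u = true := ext_range (a := 24003) (len := 2667) h9 c_9
  have h11 : ∀ u < 29337, (fun u => chkCls tab u) u = true := ext_range (a := 26670) (len := 2667) h10 c_10
  have h12 : ∀ u < 32004, (fun u => chkCls tab u) u = true := ext_range (a := 29337) (len := 2667) h11 c_11
  have h13 : ∀ u < 34671, (fun u => chkCls tab u) u = true := ext_range (a := 32004) (len := 2667) h12 c_12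
  have h14 : ∀ u < 37338, (fun u => chkCls tab u) u = true := ext_range (a := 34671) (len := 2667) h13 c_13
  have h15 : ∀ u < 40005, (fun u => chkCls tab u) u = true := ext_range (a := 37338) (len := 2667) h14 c_14
  have h16 : ∀ u < 42672, (fun u => chkCls tab u) u = true := ext_range (a := 40005) (len := 2667) h15 c_15
  have h17 : ∀ u < 44362, (fun u => chkCls tab u) u = true := ext_range (a := 42672) (len := 1690) h16 c_16
  exact h17

theorem hM1 : ∀ u < 28431, chkM1 tab u = true := by
  have h0 : ∀ u < 0, (fun u => chkM1 tab u) u = true := range_zero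
  have h1 : ∀ u < 640, (fun u => chkM1 tab u) u = true := ext_range (a := 0) (len := 640) h0 m1_0
  have h2 : ∀ u < 1280, (fun u => chkM1 tab u) u = true := ext_range (a := 640) (len := 640) h1 m1_1
  have h3 : ∀ u < 1920, (fun u => chkM1 tab u) u = true := ext_range (a := 1280) (len := 640) h2 m1_2
  have h4 : ∀ u < 2560, (fun u => chkM1 tab u) u = true := ext_range (a := 1920) (len := 640) h3 m1_3
  have h5 : ∀ u < 3200, (fun u => chkM1 tab u) u = true := ext_range (a := 2560) (len := 640) h4 m1_4
  have h6 : ∀ u < 3840, (fun u => chkM1 tab u) u = true := ext_range (a := 3200) (len := 640) h5 m1_5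
  have h7 : ∀ u < 4480, (fun u => chkM1 tab u) u = true := ext_range (a := 3840) (len := 640) h6 m1_6
  have h8 : ∀ u < 5120, (fun u => chkM1 tab u) u = true := ext_range (a := 4480) (len := 640) h7 m1_7
  have h9 : ∀ u < 5760, (fun u => chkM1 tab u) u = true := ext_range (a := 5120) (len := 640) h8 m1_8
  have h10 : ∀ u < 6400, (fun u => chkM1 tab u) u = true := ext_range (a := 5760) (len := 640) h9 m1_9
  have h11 : ∀ u < 7040, (fun u => chkM1 tab u) u = true := ext_range (a := 6400) (len := 640) h10 m1_10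
  have h12 : ∀ u < 7680, (fun u => chkM1 tab u) u = true := ext_range (a := 7040) (len := 640) h11 m1_11
  have h13 : ∀ u < 8320, (fun u => chkM1 tab u) u = true := ext_range (a := 7680) (len := 640) h12 m1_12
  have h14 : ∀ u < 8960, (fun u => chkM1 tab u) u = true := ext_range (a := 8320) (len := 640) h13 m1_13
  have h15 : ∀ u < 9600, (fun u => chkM1 tab u) u = true := ext_range (a := 8960) (len := 640) h14 m1_14
  have h16 : ∀ u < 10240, (fun u => chkM1 tab u) u = true := ext_range (a := 9600) (len := 640) h15 m1_15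
  have h17 : ∀ u < 10880, (fun u => chkM1 tab u) u = true := ext_range (a := 10240) (len := 640) h16 m1_16
  have h18 : ∀ u < 11520, (fun u => chkM1 tab u) u = true := ext_range (a := 10880) (len := 640) h17 m1_17
  have h19 : ∀ u < 12160, (fun u => chkM1 tab u) u = true := ext_range (a := 11520) (len := 640) h18 m1_18
  have h20 : ∀ u < 12800, (fun u => chkM1 tab u) u = true := ext_range (a := 12160) (len := 640) h19 m1_19
  have h21 : ∀ u < 13440, (fun u => chkM1 tab u) u = true := ext_range (a := 12800) (len := 640) h20 m1_20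
  have h22 : ∀ u < 14080, (fun u => chkM1 tab u) u = true := ext_range (a := 13440) (len := 640) h21 m1_21
  have h23 : ∀ u < 14720, (fun u => chkM1 tab u) u = true := ext_range (a := 14080) (len := 640) h22 m1_22
  have h24 : ∀ u < 15360, (fun u => chkM1 tab u) u = true := ext_range (a := 14720) (len := 640) h23 m1_23
  have h25 : ∀ u < 16000, (fun u => chkM1 tab u) u = true := ext_range (a := 15360) (len := 640) h24 m1_24
  have h26 : ∀ u < 16640, (fun u => chkM1 tab u) u = true := ext_range (a := 16000) (len := 640) h25 m1_25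
  have h27 : ∀ u < 17280, (fun u => chkM1 tab u) u = true := ext_range (a := 16640) (len := 640) h26 m1_26
  have h28 : ∀ u < 17920, (fun u => chkM1 tab u) u = true := ext_range (a := 17280) (len := 640) h27 m1_27
  have h29 : ∀ u < 18560, (fun u => chkM1 tab u) u = true := ext_range (a := 17920) (len := 640) h28 m1_28
  have h30 : ∀ u < 19200, (fun u => chkM1 tab u) u = true := ext_range (a := 18560) (len := 640) h29 m1_29
  have h31 : ∀ u < 19840, (fun u => chkM1 tab u) u = true := ext_range (a := 19200) (len := 640) h30 m1_30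
  have h32 : ∀ u < 20480, (fun u => chkM1 tab u) u = true := ext_range (a := 19840) (len := 640) h31 m1_31
  have h33 : ∀ u < 21120, (fun u => chkM1 tab u) u = true := ext_range (a := 20480) (len := 640) h32 m1_32
  have h34 : ∀ u < 21760, (fun u => chkM1 tab u) u = true := ext_range (a := 21120) (len := 640) h33 m1_33
  have h35 : ∀ u < 22400, (fun u => chkM1 tab u) u = true := ext_range (a := 21760) (len := 640) h34 m1_34
  have h36 : ∀ u < 23040, (fun u => chkM1 tab u) u = true := ext_range (a := 22400) (len := 640) h35 m1_35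
  have h37 : ∀ u < 23680, (fun u => chkM1 tab u) u = true := ext_range (a := 23040) (len := 640) h36 m1_36
  have h38 : ∀ u < 24320, (fun u => chkM1 tab u) u = true := ext_range (a := 23680) (len := 640) h37 m1_37
  have h39 : ∀ u < 24960, (fun u => chkM1 tab u) u = true := ext_range (a := 24320) (len := 640) h38 m1_38
  have h40 : ∀ u < 25600, (fun u => chkM1 tab u) u = true := ext_range (a := 24960) (len := 640) h39 m1_39
  have h41 : ∀ u < 26240, (fun u => chkM1 tab u) u = true := ext_range (a := 25600) (len := 640) h40 m1_40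
  have h42 : ∀ u < 26880, (fun u => chkM1 tab u) u = true := ext_range (a := 26240) (len := 640) h41 m1_41
  have h43 : ∀ u < 27520, (fun u => chkM1 tab u) u = true := ext_range (a := 26880) (len := 640) h42 m1_42
  have h44 : ∀ u < 28160, (fun u => chkM1 tab u) u = true := ext_range (a := 27520) (len := 640) h43 m1_43
  have h45 : ∀ u < 28431, (fun u => chkM1 tab u) u = true := ext_range (a := 28160) (len := 271) h44 m1_44
  exact h45

theorem hMA : ∀ u < 28431, chkAux tab aux u = true := by
  have h0 : ∀ u < 0, (fun u => chkAux tab aux u) u = true := range_zero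
  have h1 : ∀ u < 1291, (fun u => chkAux tab aux u) u = true := ext_range (a := 0) (len := 1291) h0 ma_0
  have h2 : ∀ u < 2582, (fun u => chkAux tab aux u) u = true := ext_range (a := 1291) (len := 1291) h1 ma_1
  have h3 : ∀ u < 3873, (fun u => chkAux tab aux u) u = true := ext_range (a := 2582) (len := 1291) h2 ma_2
  have h4 : ∀ u < 5164, (fun u => chkAux tab aux u) u = true := ext_range (a := 3873) (len := 1291) h3 ma_3
  have h5 : ∀ u < 6455, (fun u => chkAux tab aux u) u = true := ext_range (a := 5164) (len := 1291) h4 ma_4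
  have h6 : ∀ u < 7746, (fun u => chkAux tab aux u) u = true := ext_range (a := 6455) (len := 1291) h5 ma_5
  have h7 : ∀ u < 9037, (fun u => chkAux tab aux u) u = true := ext_range (a := 7746) (len := 1291) h6 ma_6
  have h8 : ∀ u < 10328, (fun u => chkAux tab aux u) u = true := ext_range (a := 9037) (len := 1291) h7 ma_7
  have h9 : ∀ u < 11619, (fun u => chkAux tab aux u) u = true := ext_range (a := 10328) (len := 1291) h8 ma_8
  have h10 : ∀ u < 12910, (fun u => chkAux tab aux u) u = true := ext_range (a := 11619) (len := 1291) h9 ma_9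
  have h11 : ∀ u < 14201, (fun u => chkAux tab aux u) u = true := ext_range (a := 12910) (len := 1291) h10 ma_10
  have h12 : ∀ u < 15492, (fun u => chkAux tab aux u) u = true := ext_range (a := 14201) (len := 1291) h11 ma_11
  have h13 : ∀ u < 16783, (fun u => chkAux tab aux u) u = true := ext_range (a := 15492) (len := 1291) h12 ma_12
  have h14 : ∀ u < 18074, (fun u => chkAux tab aux u) u = true := ext_range (a := 16783) (len := 1291) h13 ma_13
  have h15 : ∀ u < 19365, (fun u => chkAux tab aux u) u = true := ext_range (a := 18074) (len := 1291) h14 ma_14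
  have h16 : ∀ u < 20656, (fun u => chkAux tab aux u) u = true := ext_range (a := 19365) (len := 1291) h15 ma_15
  have h17 : ∀ u < 21947, (fun u => chkAux tab aux u) u = true := ext_range (a := 20656) (len := 1291) h16 ma_16
  have h18 : ∀ u < 23238, (fun u => chkAux tab aux u) u = true := ext_range (a := 21947) (len := 1291) h17 ma_17
  have h19 : ∀ u < 24529, (fun u => chkAux tab aux u) u = true := ext_range (a := 23238) (len := 1291) h18 ma_18
  have h20 : ∀ u < 25820, (fun u => chkAux tab aux u) u = true := ext_range (a := 24529) (len := 1291) h19 ma_19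
  have h21 : ∀ u < 27111, (fun u => chkAux tab aux u) u = true := ext_range (a := 25820) (len := 1291) h20 ma_20
  have h22 : ∀ u < 28402, (fun u => chkAux tab aux u) u = true := ext_range (a := 27111) (len := 1291) h21 ma_21
  have h23 : ∀ u < 28431, (fun u => chkAux tab aux u) u = true := ext_range (a := 28402) (len := 29) h22 ma_22
  exact h23

theorem hM2A : ∀ u < 28431, chkFix tab mwordsA u = true := by
  have h0 : ∀ u < 0, (fun u => chkFix tab mwordsA u) u = true := range_zero
  have h1 : ∀ u < 65, (fun u => chkFix tab mwordsA u) u = true := ext_range (a := 0) (len := 65) h0 m2_0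
  have h2 : ∀ u < 130, (fun u => chkFix tab mwordsA u) u = true := ext_range (a := 65) (len := 65) h1 m2_1
  have h3 : ∀ u < 195, (fun u => chkFix tab mwordsA u) u = true := ext_range (a := 130) (len := 65) h2 m2_2
  have h4 : ∀ u < 260, (fun u => chkFix tab mwordsA u) u = true := ext_range (a := 195) (len := 65) h3 m2_3
  have h5 : ∀ u < 325, (fun u => chkFix tab mwordsA u) u = true := ext_range (a := 260) (len := 65) h4 m2_4
  have h6 : ∀ u < 390, (fun u => chkFix tab mwordsA u) u = true := ext_range (a := 325) (len := 65) h5 m2_5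
  have h7 : ∀ u < 455, (fun u => chkFix tab mwordsA u) u = true := ext_range (a := 390) (len := 65) h6 m2_6
  have h8 : ∀ u < 520, (fun u => chkFix tab mwordsA u) u = true := ext_range (a := 455) (len := 65) h7 m2_7
  have h9 : ∀ u < 585, (fun u => chkFix tab mwordsA u) u = true := ext_range (a := 520) (len := 65) h8 m2_8
  have h10 : ∀ u < 650, (fun u => chkFix tab mwordsA u) u = true := ext_range (a := 585) (len := 65) h9 m2_9
  have h11 : ∀ u < 715, (fun u => chkFix tab mwordsA u) u = true := ext_range (a := 650) (len := 65) h10 m2_10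
  have h12 : ∀ u < 780, (fun u => chkFix tab mwordsA u) u = true := ext_range (a := 715) (len := 65) h11 m2_11
  have h13 : ∀ u < 845, (fun u => chkFix tab mwordsA u) u = true := ext_range (a := 780) (len := 65) h12 m2_12
  have h14 : ∀ u < 910, (fun u => chkFix tab mwordsA u) u = true := ext_range (a := 845) (len := 65) h13 m2_13
  have h15 : ∀ u < 975, (fun u => chkFix tab mwordsA u) u = true := ext_range (a := 910) (len := 65) h14 m2_14
  have h16 : ∀ u < 1040, (fun u => chkFix tab mwordsA u) u = true := ext_range (a := 975) (len := 65) h15 m2_15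
  have h17 : ∀ u < 1105, (fun u => chkFix tab mwordsA u) u = true := ext_range (a := 1040) (len := 65) h16 m2_16
  have h18 : ∀ u < 1170, (fun u => chkFix tab mwordsA u) u = true := ext_range (a := 1105) (len := 65) h17 m2_17
  have h19 : ∀ u < 1235, (fun u => chkFix tab mwordsA u) u = true := ext_range (a := 1170) (len := 65) h18 m2_18
  have h20 : ∀ u < 1300, (fun u => chkFix tab mwordsA u) u = true := ext_range (a := 1235) (len := 65) h19 m2_19
  have h21 : ∀ u < 1365, (fun u => chkFix tab mwordsA u) u = true := ext_range (a := 1300) (len := 65) h20 m2_20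
  have h22 : ∀ u < 1430, (fun u => chkFix tab mwordsA u) u = true := ext_range (a := 1365) (len := 65) h21 m2_21
  have h23 : ∀ u < 1495, (fun u => chkFix tab mwordsA u) u = true := ext_range (a := 1430) (len := 65) h22 m2_22
  have h24 : ∀ u < 1560, (fun u => chkFix tab mwordsA u) u = true := ext_range (a := 1495) (len := 65) h23 m2_23
  have h25 : ∀ u < 1625, (fun u => chkFix tab mwordsA u) u = true := ext_range (a := 1560) (len := 65) h24 m2_24
  have h26 : ∀ u < 1690, (fun u => chkFix tab mwordsA u) u = true := ext_range (a := 1625) (len := 65) h25 m2_25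
  have h27 : ∀ u < 1755, (fun u => chkFix tab mwordsA u) u = true := ext_range (a := 1690) (len := 65) h26 m2_26
  have h28 : ∀ u < 1820, (fun u => chkFix tab mwordsA u) u = true := ext_range (a := 1755) (len := 65) h27 m2_27
  have h29 : ∀ u < 1885, (fun u => chkFix tab mwordsA u) u = true := ext_range (a := 1820) (len := 65) h28 m2_28
  have h30 : ∀ u < 1950, (fun u => chkFix tab mwordsA u) u = true := ext_range (a := 1885) (len := 65) h29 m2_29
  have h31 : ∀ u < 2015, (fun u => chkFix tab mwordsA u) u = true := ext_range (a := 1950) (len := 65) h30 m2_30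
  have h32 : ∀ u < 2080, (fun u => chkFix tab mwordsA u) u = true := ext_range (a := 2015) (len := 65) h31 m2_31
  have h33 : ∀ u < 2145, (fun u => chkFix tab mwordsA u) u = true := ext_range (a := 2080) (len := 65) h32 m2_32
  have h34 : ∀ u < 2210, (fun u => chkFix tab mwordsA u) u = true := ext_range (a := 2145) (len := 65) h33 m2_33
  have h35 : ∀ u < 2275, (fun u => chkFix tab mwordsA u) u = true := ext_range (a := 2210) (len := 65) h34 m2_34
  have h36 : ∀ u < 2340, (fun u => chkFix tab mwordsA u) u = true := ext_range (a := 2275) (len := 65) h35 m2_35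
  have h37 : ∀ u < 2405, (fun u => chkFix tab mwordsA u) u = true := ext_range (a := 2340) (len := 65) h36 m2_36
  have h38 : ∀ u < 2470, (fun u => chkFix tab mwordsA u) u = true := ext_range (a := 2405) (len := 65) h37 m2_37
  have h39 : ∀ u < 2535, (fun u => chkFix tab mwordsA u) u = true := ext_range (a := 2470) (len := 65) h38 m2_38
  have h40 : ∀ u < 2600, (fun u => chkFix tab mwordsA u) u = true := ext_range (a := 2535) (len := 65) h39 m2_39
  have h41 : ∀ u < 2665, (fun u => chkFix tab mwordsA u) u = true := ext_range (a := 2600) (len := 65) h40 m2_40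
  have h42 : ∀ u < 2730, (fun u => chkFix tab mwordsA u) u = true := ext_range (a := 2665) (len := 65) h41 m2_41
  have h43 : ∀ u < 2795, (fun u => chkFix tab mwordsA u) u = true := ext_range (a := 2730) (len := 65) h42 m2_42
  have h44 : ∀ u < 2860, (fun u => chkFix tab mwordsA u) u = true := ext_range (a := 2795) (len := 65) h43 m2_43
  have h45 : ∀ u < 2925, (fun u => chkFix tab mwordsA u) u = true := ext_range (a := 2860) (len := 65) h44 m2_44
  have h46 : ∀ u < 2990, (fun u => chkFix tab mwordsA u) u = true := ext_range (a := 2925) (len := 65) h45 m2_45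
  have h47 : ∀ u < 3055, (fun u => chkFix tab mwordsA u) u = true := ext_range (a := 2990) (len := 65) h46 m2_46
  have h48 : ∀ u < 3120, (fun u => chkFix tab mwordsA u) u = true := ext_range (a := 3055) (len := 65) h47 m2_47
  have h49 : ∀ u < 3185, (fun u => chkFix tab mwordsA u) u = true := ext_range (a := 3120) (len := 65) h48 m2_48
  have h50 : ∀ u < 3250, (fun u => chkFix tab mwordsA u) u = true := ext_range (a := 3185) (len := 65) h49 m2_49
  have h51 : ∀ u < 3315, (fun u => chkFix tab mwordsA u) u = true := ext_range (a := 3250) (len := 65) h50 m2_50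
  have h52 : ∀ u < 3380, (fun u => chkFix tab mwordsA u) u = true := ext_range (a := 3315) (len := 65) h51 m2_51
  have h53 : ∀ u < 3445, (fun u => chkFix tab mwordsA u) u = true := ext_range (a := 3380) (len := 65) h52 m2_52
  have h54 : ∀ u < 3510, (fun u => chkFix tab mwordsA u) u = true := ext_range (a := 3445) (len := 65) h53 m2_53
  have h55 : ∀ u < 3575, (fun u => chkFix tab mwordsA u) u = true := ext_range (a := 3510) (len := 65) h54 m2_54
  have h56 : ∀ u < 3640, (fun u => chkFix tab mwordsA u) u = true := ext_range (a := 3575) (len := 65) h55 m2_55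
  have h57 : ∀ u < 3705, (fun u => chkFix tab mwordsA u) u = true := ext_range (a := 3640) (len := 65) h56 m2_56
  have h58 : ∀ u < 3770, (fun u => chkFix tab mwordsA u) u = true := ext_range (a := 3705) (len := 65) h57 m2_57
  have h59 : ∀ u < 3835, (fun u => chkFix tab mwordsA u) u = true := ext_range (a := 3770) (len := 65) h58 m2_58
  have h60 : ∀ u < 3900, (fun u => chkFix tab mwordsA u) u = true := ext_range (a := 3835) (len := 65) h59 m2_59
  have h61 : ∀ u < 3965, (fun u => chkFix tab mwordsA u) u = true := ext_range (a := 3900) (len := 65) h60 m2_60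
  have h62 : ∀ u < 4030, (fun u => chkFix tab mwordsA u) u = true := ext_range (a := 3965) (len := 65) h61 m2_61
  have h63 : ∀ u < 4095, (fun u => chkFix tab mwordsA u) u = true := ext_range (a := 4030) (len := 65) h62 m2_62
  have h64 : ∀ u < 4160, (fun u => chkFix tab mwordsA u) u = true := ext_range (a := 4095) (len := 65) h63 m2_63
  have h65 : ∀ u < 4225, (fun u => chkFix tab mwordsA u) u = true := ext_range (a := 4160) (len := 65) h64 m2_64
  have h66 : ∀ u < 4290, (fun u => chkFix tab mwordsA u) u = true := ext_range (a := 4225) (len := 65) h65 m2_65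
  have h67 : ∀ u < 4355, (fun u => chkFix tab mwordsA u) u = true := ext_range (a := 4290) (len := 65) h66 m2_66
  have h68 : ∀ u < 4420, (fun u => chkFix tab mwordsA u) u = true := ext_range (a := 4355) (len := 65) h67 m2_67
  have h69 : ∀ u < 4485, (fun u => chkFix tab mwordsA u) u = true := ext_range (a := 4420) (len := 65) h68 m2_68
  have h70 : ∀ u < 4550, (fun u => chkFix tab mwordsA u) u = true := ext_range (a := 4485) (len := 65) h69 m2_69
  have h71 : ∀ u < 4615, (fun u => chkFix tab mwordsA u) u = true := ext_range (a := 4550) (len := 65) h70 m2_70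
  have h72 : ∀ u < 4680, (fun u => chkFix tab mwordsA u) u = true := ext_range (a := 4615) (len := 65) h71 m2_71
  have h73 : ∀ u < 4745, (fun u => chkFix tab mwordsA u) u = true := ext_range (a := 4680) (len := 65) h72 m2_72
  have h74 : ∀ u < 4810, (fun u => chkFix tab mwordsA u) u = true := ext_range (a := 4745) (len := 65) h73 m2_73
  have h75 : ∀ u < 4875, (fun u => chkFix tab mwordsA u) u = true := ext_range (a := 4810) (len := 65) h74 m2_74
  have h76 : ∀ u < 4940, (fun u => chkFix tab mwordsA u) u = true := ext_range (a := 4875) (len := 65) h75 m2_75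
  have h77 : ∀ u < 5005, (fun u => chkFix tab mwordsA u) u = true := ext_range (a := 4940) (len := 65) h76 m2_76
  have h78 : ∀ u < 5070, (fun u => chkFix tab mwordsA u) u = true := ext_range (a := 5005) (len := 65) h77 m2_77
  have h79 : ∀ u < 5135, (fun u => chkFix tab mwordsA u) u = true := ext_range (a := 5070) (len := 65) h78 m2_78
  have h80 : ∀ u < 5200, (fun u => chkFix tab mwordsA u) u = true := ext_range (a := 5135) (len := 65) h79 m2_79
  have h81 : ∀ u < 5265, (fun u => chkFix tab mwordsA u) u = true := ext_range (a := 5200) (len := 65) h80 m2_80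
  have h82 : ∀ u < 5330, (fun u => chkFix tab mwordsA u) u = true := ext_range (a := 5265) (len := 65) h81 m2_81
  have h83 : ∀ u < 5395, (fun u => chkFix tab mwordsA u) u = true := ext_range (a := 5330) (len := 65) h82 m2_82
  have h84 : ∀ u < 5460, (fun u => chkFix tab mwordsA u) u = true := ext_range (a := 5395) (len := 65) h83 m2_83
  have h85 : ∀ u < 5525, (fun u => chkFix tab mwordsA u) u = true := ext_range (a := 5460) (len := 65) h84 m2_84
  have h86 : ∀ u < 5590, (fun u => chkFix tab mwordsA u) u = true := ext_range (a := 5525) (len := 65) h85 m2_85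
  have h87 : ∀ u < 5655, (fun u => chkFix tab mwordsA u) u = true := ext_range (a := 5590) (len := 65) h86 m2_86
  have h88 : ∀ u < 5720, (fun u => chkFix tab mwordsA u) u = true := ext_range (a := 5655) (len := 65) h87 m2_87
  have h89 : ∀ u < 5785, (fun u => chkFix tab mwordsA u) u = true := ext_range (a := 5720) (len := 65) h88 m2_88
  have h90 : ∀ u < 5850, (fun u => chkFix tab mwordsA u) u = true := ext_range (a := 5785) (len := 65) h89 m2_89
  have h91 : ∀ u < 5915, (fun u => chkFix tab mwordsA u) u = true := ext_range (a := 5850) (len := 65) h90 m2_90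
  have h92 : ∀ u < 5980, (fun u => chkFix tab mwordsA u) u = true := ext_range (a := 5915) (len := 65) h91 m2_91
  have h93 : ∀ u < 6045, (fun u => chkFix tab mwordsA u) u = true := ext_range (a := 5980) (len := 65) h92 m2_92
  have h94 : ∀ u < 6110, (fun u => chkFix tab mwordsA u) u = true := ext_range (a := 6045) (len := 65) h93 m2_93
  have h95 : ∀ u < 6175, (fun u => chkFix tab mwordsA u) u = true := ext_range (a := 6110) (len := 65) h94 m2_94
  have h96 : ∀ u < 6240, (fun u => chkFix tab mwordsA u) u = true := ext_range (a := 6175) (len := 65) h95 m2_95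
  have h97 : ∀ u < 6305, (fun u => chkFix tab mwordsA u) u = true := ext_range (a := 6240) (len := 65) h96 m2_96
  have h98 : ∀ u < 6370, (fun u => chkFix tab mwordsA u) u = true := ext_range (a := 6305) (len := 65) h97 m2_97
  have h99 : ∀ u < 6435, (fun u => chkFix tab mwordsA u) u = true := ext_range (a := 6370) (len := 65) h98 m2_98
  have h100 : ∀ u < 6500, (fun u => chkFix tab mwordsA u) u = true := ext_range (a := 6435) (len := 65) h99 m2_99
  have h101 : ∀ u < 6565, (fun u => chkFix tab mwordsA u) u = true := ext_range (a := 6500) (len := 65) h100 m2_100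
  have h102 : ∀ u < 6630, (fun u => chkFix tab mwordsA u) u = true := ext_range (a := 6565) (len := 65) h101 m2_101
  have h103 : ∀ u < 6695, (fun u => chkFix tab mwordsA u) u = true := ext_range (a := 6630) (len := 65) h102 m2_102
  have h104 : ∀ u < 6760, (fun u => chkFix tab mwordsA u) u = true := ext_range (a := 6695) (len := 65) h103 m2_103
  have h105 : ∀ u < 6825, (fun u => chkFix tab mwordsA u) u = true := ext_range (a := 6760) (len := 65) h104 m2_104
  have h106 : ∀ u < 6890, (fun u => chkFix tab mwordsA u) u = true := ext_range (a := 6825) (len := 65) h105 m2_105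
  have h107 : ∀ u < 6955, (fun u => chkFix tab mwordsA u) u = true := ext_range (a := 6890) (len := 65) h106 m2_106
  have h108 : ∀ u < 7020, (fun u => chkFix tab mwordsA u) u = true := ext_range (a := 6955) (len := 65) h107 m2_107
  have h109 : ∀ u < 7085, (fun u => chkFix tab mwordsA u) u = true := ext_range (a := 7020) (len := 65) h108 m2_108
  have h110 : ∀ u < 7150, (fun u => chkFix tab mwordsA u) u = true := ext_range (a := 7085) (len := 65) h109 m2_109
  have h111 : ∀ u < 7215, (fun u => chkFix tab mwordsA u) u = true := ext_range (a := 7150) (len := 65) h110 m2_110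
  have h112 : ∀ u < 7280, (fun u => chkFix tab mwordsA u) u = true := ext_range (a := 7215) (len := 65) h111 m2_111
  have h113 : ∀ u < 7345, (fun u => chkFix tab mwordsA u) u = true := ext_range (a := 7280) (len := 65) h112 m2_112
  have h114 : ∀ u < 7410, (fun u => chkFix tab mwordsA u) u = true := ext_range (a := 7345) (len := 65) h113 m2_113
  have h115 : ∀ u < 7475, (fun u => chkFix tab mwordsA u) u = true := ext_range (a := 7410) (len := 65) h114 m2_114
  have h116 : ∀ u < 7540, (fun u => chkFix tab mwordsA u) u = true := ext_range (a := 7475) (len := 65) h115 m2_115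
  have h117 : ∀ u < 7605, (fun u => chkFix tab mwordsA u) u = true := ext_range (a := 7540) (len := 65) h116 m2_116
  have h118 : ∀ u < 7670, (fun u => chkFix tab mwordsA u) u = true := ext_range (a := 7605) (len := 65) h117 m2_117
  have h119 : ∀ u < 7735, (fun u => chkFix tab mwordsA u) u = true := ext_range (a := 7670) (len := 65) h118 m2_118
  have h120 : ∀ u < 7800, (fun u => chkFix tab mwordsA u) u = true := ext_range (a := 7735) (len := 65) h119 m2_119
  have h121 : ∀ u < 7865, (fun u => chkFix tab mwordsA u) u = true := ext_range (a := 7800) (len := 65) h120 m2_120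
  have h122 : ∀ u < 7930, (fun u => chkFix tab mwordsA u) u = true := ext_range (a := 7865) (len := 65) h121 m2_121
  have h123 : ∀ u < 7995, (fun u => chkFix tab mwordsA u) u = true := ext_range (a := 7930) (len := 65) h122 m2_122
  have h124 : ∀ u < 8060, (fun u => chkFix tab mwordsA u) u = true := ext_range (a := 7995) (len := 65) h123 m2_123
  have h125 : ∀ u < 8125, (fun u => chkFix tab mwordsA u) u = true := ext_range (a := 8060) (len := 65) h124 m2_124
  have h126 : ∀ u < 8190, (fun u => chkFix tab mwordsA u) u = true := ext_range (a := 8125) (len := 65) h125 m2_125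
  have h127 : ∀ u < 8255, (fun u => chkFix tab mwordsA u) u = true := ext_range (a := 8190) (len := 65) h126 m2_126
  have h128 : ∀ u < 8320, (fun u => chkFix tab mwordsA u) u = true := ext_range (a := 8255) (len := 65) h127 m2_127
  have h129 : ∀ u < 8385, (fun u => chkFix tab mwordsA u) u = true := ext_range (a := 8320) (len := 65) h128 m2_128
  have h130 : ∀ u < 8450, (fun u => chkFix tab mwordsA u) u = true := ext_range (a := 8385) (len := 65) h129 m2_129
  have h131 : ∀ u < 8515, (fun u => chkFix tab mwordsA u) u = true := ext_range (a := 8450) (len := 65) h130 m2_130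
  have h132 : ∀ u < 8580, (fun u => chkFix tab mwordsA u) u = true := ext_range (a := 8515) (len := 65) h131 m2_131
  have h133 : ∀ u < 8645, (fun u => chkFix tab mwordsA u) u = true := ext_range (a := 8580) (len := 65) h132 m2_132
  have h134 : ∀ u < 8710, (fun u => chkFix tab mwordsA u) u = true := ext_range (a := 8645) (len := 65) h133 m2_133
  have h135 : ∀ u < 8775, (fun u => chkFix tab mwordsA u) u = true := ext_range (a := 8710) (len := 65) h134 m2_134
  have h136 : ∀ u < 8840, (fun u => chkFix tab mwordsA u) u = true := ext_range (a := 8775) (len := 65) h135 m2_135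
  have h137 : ∀ u < 8905, (fun u => chkFix tab mwordsA u) u = true := ext_range (a := 8840) (len := 65) h136 m2_136
  have h138 : ∀ u < 8970, (fun u => chkFix tab mwordsA u) u = true := ext_range (a := 8905) (len := 65) h137 m2_137
  have h139 : ∀ u < 9035, (fun u => chkFix tab mwordsA u) u = true := ext_range (a := 8970) (len := 65) h138 m2_138
  have h140 : ∀ u < 9100, (fun u => chkFix tab mwordsA u) u = true := ext_range (a := 9035) (len := 65) h139 m2_139
  have h141 : ∀ u < 9165, (fun u => chkFix tab mwordsA u) u = true := ext_range (a := 9100) (len := 65) h140 m2_140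
  have h142 : ∀ u < 9230, (fun u => chkFix tab mwordsA u) u = true := ext_range (a := 9165) (len := 65) h141 m2_141
  have h143 : ∀ u < 9295, (fun u => chkFix tab mwordsA u) u = true := ext_range (a := 9230) (len := 65) h142 m2_142
  have h144 : ∀ u < 9360, (fun u => chkFix tab mwordsA u) u = true := ext_range (a := 9295) (len := 65) h143 m2_143
  have h145 : ∀ u < 9425, (fun u => chkFix tab mwordsA u) u = true := ext_range (a := 9360) (len := 65) h144 m2_144
  have h146 : ∀ u < 9490, (fun u => chkFix tab mwordsA u) u = true := ext_range (a := 9425) (len := 65) h145 m2_145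
  have h147 : ∀ u < 9555, (fun u => chkFix tab mwordsA u) u = true := ext_range (a := 9490) (len := 65) h146 m2_146
  have h148 : ∀ u < 9620, (fun u => chkFix tab mwordsA u) u = true := ext_range (a := 9555) (len := 65) h147 m2_147
  have h149 : ∀ u < 9685, (fun u => chkFix tab mwordsA u) u = true := ext_range (a := 9620) (len := 65) h148 m2_148
  have h150 : ∀ u < 9750, (fun u => chkFix tab mwordsA u) u = true := ext_range (a := 9685) (len := 65) h149 m2_149
  have h151 : ∀ u < 9815, (fun u => chkFix tab mwordsA u) u = true := ext_range (a := 9750) (len := 65) h150 m2_150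
  have h152 : ∀ u < 9880, (fun u => chkFix tab mwordsA u) u = true := ext_range (a := 9815) (len := 65) h151 m2_151
  have h153 : ∀ u < 9945, (fun u => chkFix tab mwordsA u) u = true := ext_range (a := 9880) (len := 65) h152 m2_152
  have h154 : ∀ u < 10010, (fun u => chkFix tab mwordsA u) u = true := ext_range (a := 9945) (len := 65) h153 m2_153
  have h155 : ∀ u < 10075, (fun u => chkFix tab mwordsA u) u = true := ext_range (a := 10010) (len := 65) h154 m2_154
  have h156 : ∀ u < 10140, (fun u => chkFix tab mwordsA u) u = true := ext_range (a := 10075) (len := 65) h155 m2_155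
  have h157 : ∀ u < 10205, (fun u => chkFix tab mwordsA u) u = true := ext_range (a := 10140) (len := 65) h156 m2_156
  have h158 : ∀ u < 10270, (fun u => chkFix tab mwordsA u) u = true := ext_range (a := 10205) (len := 65) h157 m2_157
  have h159 : ∀ u < 10335, (fun u => chkFix tab mwordsA u) u = true := ext_range (a := 10270) (len := 65) h158 m2_158
  have h160 : ∀ u < 10400, (fun u => chkFix tab mwordsA u) u = true := ext_range (a := 10335) (len := 65) h159 m2_159
  have h161 : ∀ u < 10465, (fun u => chkFix tab mwordsA u) u = true := ext_range (a := 10400) (len := 65) h160 m2_160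
  have h162 : ∀ u < 10530, (fun u => chkFix tab mwordsA u) u = true := ext_range (a := 10465) (len := 65) h161 m2_161
  have h163 : ∀ u < 10595, (fun u => chkFix tab mwordsA u) u = true := ext_range (a := 10530) (len := 65) h162 m2_162
  have h164 : ∀ u < 10660, (fun u => chkFix tab mwordsA u) u = true := ext_range (a := 10595) (len := 65) h163 m2_163
  have h165 : ∀ u < 10725, (fun u => chkFix tab mwordsA u) u = true := ext_range (a := 10660) (len := 65) h164 m2_164
  have h166 : ∀ u < 10790, (fun u => chkFix tab mwordsA u) u = true := ext_range (a := 10725) (len := 65) h165 m2_165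
  have h167 : ∀ u < 10855, (fun u => chkFix tab mwordsA u) u = true := ext_range (a := 10790) (len := 65) h166 m2_166
  have h168 : ∀ u < 10920, (fun u => chkFix tab mwordsA u) u = true := ext_range (a := 10855) (len := 65) h167 m2_167
  have h169 : ∀ u < 10985, (fun u => chkFix tab mwordsA u) u = true := ext_range (a := 10920) (len := 65) h168 m2_168
  have h170 : ∀ u < 11050, (fun u => chkFix tab mwordsA u) u = true := ext_range (a := 10985) (len := 65) h169 m2_169
  have h171 : ∀ u < 11115, (fun u => chkFix tab mwordsA u) u = true := ext_range (a := 11050) (len := 65) h170 m2_170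
  have h172 : ∀ u < 11180, (fun u => chkFix tab mwordsA u) u = true := ext_range (a := 11115) (len := 65) h171 m2_171
  have h173 : ∀ u < 11245, (fun u => chkFix tab mwordsA u) u = true := ext_range (a := 11180) (len := 65) h172 m2_172
  have h174 : ∀ u < 11310, (fun u => chkFix tab mwordsA u) u = true := ext_range (a := 11245) (len := 65) h173 m2_173
  have h175 : ∀ u < 11375, (fun u => chkFix tab mwordsA u) u = true := ext_range (a := 11310) (len := 65) h174 m2_174
  have h176 : ∀ u < 11440, (fun u => chkFix tab mwordsA u) u = true := ext_range (a := 11375) (len := 65) h175 m2_175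
  have h177 : ∀ u < 11505, (fun u => chkFix tab mwordsA u) u = true := ext_range (a := 11440) (len := 65) h176 m2_176
  have h178 : ∀ u < 11570, (fun u => chkFix tab mwordsA u) u = true := ext_range (a := 11505) (len := 65) h177 m2_177
  have h179 : ∀ u < 11635, (fun u => chkFix tab mwordsA u) u = true := ext_range (a := 11570) (len := 65) h178 m2_178
  have h180 : ∀ u < 11700, (fun u => chkFix tab mwordsA u) u = true := ext_range (a := 11635) (len := 65) h179 m2_179
  have h181 : ∀ u < 11765, (fun u => chkFix tab mwordsA u) u = true := ext_range (a := 11700) (len := 65) h180 m2_180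
  have h182 : ∀ u < 11830, (fun u => chkFix tab mwordsA u) u = true := ext_range (a := 11765) (len := 65) h181 m2_181
  have h183 : ∀ u < 11895, (fun u => chkFix tab mwordsA u) u = true := ext_range (a := 11830) (len := 65) h182 m2_182
  have h184 : ∀ u < 11960, (fun u => chkFix tab mwordsA u) u = true := ext_range (a := 11895) (len := 65) h183 m2_183
  have h185 : ∀ u < 12025, (fun u => chkFix tab mwordsA u) u = true := ext_range (a := 11960) (len := 65) h184 m2_184
  have h186 : ∀ u < 12090, (fun u => chkFix tab mwordsA u) u = true := ext_range (a := 12025) (len := 65) h185 m2_185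
  have h187 : ∀ u < 12155, (fun u => chkFix tab mwordsA u) u = true := ext_range (a := 12090) (len := 65) h186 m2_186
  have h188 : ∀ u < 12220, (fun u => chkFix tab mwordsA u) u = true := ext_range (a := 12155) (len := 65) h187 m2_187
  have h189 : ∀ u < 12285, (fun u => chkFix tab mwordsA u) u = true := ext_range (a := 12220) (len := 65) h188 m2_188
  have h190 : ∀ u < 12350, (fun u => chkFix tab mwordsA u) u = true := ext_range (a := 12285) (len := 65) h189 m2_189
  have h191 : ∀ u < 12415, (fun u => chkFix tab mwordsA u) u = true := ext_range (a := 12350) (len := 65) h190 m2_190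
  have h192 : ∀ u < 12480, (fun u => chkFix tab mwordsA u) u = true := ext_range (a := 12415) (len := 65) h191 m2_191
  have h193 : ∀ u < 12545, (fun u => chkFix tab mwordsA u) u = true := ext_range (a := 12480) (len := 65) h192 m2_192
  have h194 : ∀ u < 12610, (fun u => chkFix tab mwordsA u) u = true := ext_range (a := 12545) (len := 65) h193 m2_193
  have h195 : ∀ u < 12675, (fun u => chkFix tab mwordsA u) u = true := ext_range (a := 12610) (len := 65) h194 m2_194
  have h196 : ∀ u < 12740, (fun u => chkFix tab mwordsA u) u = true := ext_range (a := 12675) (len := 65) h195 m2_195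
  have h197 : ∀ u < 12805, (fun u => chkFix tab mwordsA u) u = true := ext_range (a := 12740) (len := 65) h196 m2_196
  have h198 : ∀ u < 12870, (fun u => chkFix tab mwordsA u) u = true := ext_range (a := 12805) (len := 65) h197 m2_197
  have h199 : ∀ u < 12935, (fun u => chkFix tab mwordsA u) u = true := ext_range (a := 12870) (len := 65) h198 m2_198
  have h200 : ∀ u < 13000, (fun u => chkFix tab mwordsA u) u = true := ext_range (a := 12935) (len := 65) h199 m2_199
  have h201 : ∀ u < 13065, (fun u => chkFix tab mwordsA u) u = true := ext_range (a := 13000) (len := 65) h200 m2_200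
  have h202 : ∀ u < 13130, (fun u => chkFix tab mwordsA u) u = true := ext_range (a := 13065) (len := 65) h201 m2_201
  have h203 : ∀ u < 13195, (fun u => chkFix tab mwordsA u) u = true := ext_range (a := 13130) (len := 65) h202 m2_202
  have h204 : ∀ u < 13260, (fun u => chkFix tab mwordsA u) u = true := ext_range (a := 13195) (len := 65) h203 m2_203
  have h205 : ∀ u < 13325, (fun u => chkFix tab mwordsA u) u = true := ext_range (a := 13260) (len := 65) h204 m2_204
  have h206 : ∀ u < 13390, (fun u => chkFix tab mwordsA u) u = true := ext_range (a := 13325) (len := 65) h205 m2_205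
  have h207 : ∀ u < 13455, (fun u => chkFix tab mwordsA u) u = true := ext_range (a := 13390) (len := 65) h206 m2_206
  have h208 : ∀ u < 13520, (fun u => chkFix tab mwordsA u) u = true := ext_range (a := 13455) (len := 65) h207 m2_207
  have h209 : ∀ u < 13585, (fun u => chkFix tab mwordsA u) u = true := ext_range (a := 13520) (len := 65) h208 m2_208
  have h210 : ∀ u < 13650, (fun u => chkFix tab mwordsA u) u = true := ext_range (a := 13585) (len := 65) h209 m2_209
  have h211 : ∀ u < 13715, (fun u => chkFix tab mwordsA u) u = true := ext_range (a := 13650) (len := 65) h210 m2_210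
  have h212 : ∀ u < 13780, (fun u => chkFix tab mwordsA u) u = true := ext_range (a := 13715) (len := 65) h211 m2_211
  have h213 : ∀ u < 13845, (fun u => chkFix tab mwordsA u) u = true := ext_range (a := 13780) (len := 65) h212 m2_212
  have h214 : ∀ u < 13910, (fun u => chkFix tab mwordsA u) u = true := ext_range (a := 13845) (len := 65) h213 m2_213
  have h215 : ∀ u < 13975, (fun u => chkFix tab mwordsA u) u = true := ext_range (a := 13910) (len := 65) h214 m2_214
  have h216 : ∀ u < 14040, (fun u => chkFix tab mwordsA u) u = true := ext_range (a := 13975) (len := 65) h215 m2_215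
  have h217 : ∀ u < 14105, (fun u => chkFix tab mwordsA u) u = true := ext_range (a := 14040) (len := 65) h216 m2_216
  have h218 : ∀ u < 14170, (fun u => chkFix tab mwordsA u) u = true := ext_range (a := 14105) (len := 65) h217 m2_217
  have h219 : ∀ u < 14235, (fun u => chkFix tab mwordsA u) u = true := ext_range (a := 14170) (len := 65) h218 m2_218
  have h220 : ∀ u < 14300, (fun u => chkFix tab mwordsA u) u = true := ext_range (a := 14235) (len := 65) h219 m2_219
  have h221 : ∀ u < 14365, (fun u => chkFix tab mwordsA u) u = true := ext_range (a := 14300) (len := 65) h220 m2_220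
  have h222 : ∀ u < 14430, (fun u => chkFix tab mwordsA u) u = true := ext_range (a := 14365) (len := 65) h221 m2_221
  have h223 : ∀ u < 14495, (fun u => chkFix tab mwordsA u) u = true := ext_range (a := 14430) (len := 65) h222 m2_222
  have h224 : ∀ u < 14560, (fun u => chkFix tab mwordsA u) u = true := ext_range (a := 14495) (len := 65) h223 m2_223
  have h225 : ∀ u < 14625, (fun u => chkFix tab mwordsA u) u = true := ext_range (a := 14560) (len := 65) h224 m2_224
  have h226 : ∀ u < 14690, (fun u => chkFix tab mwordsA u) u = true := ext_range (a := 14625) (len := 65) h225 m2_225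
  have h227 : ∀ u < 14755, (fun u => chkFix tab mwordsA u) u = true := ext_range (a := 14690) (len := 65) h226 m2_226
  have h228 : ∀ u < 14820, (fun u => chkFix tab mwordsA u) u = true := ext_range (a := 14755) (len := 65) h227 m2_227
  have h229 : ∀ u < 14885, (fun u => chkFix tab mwordsA u) u = true := ext_range (a := 14820) (len := 65) h228 m2_228
  have h230 : ∀ u < 14950, (fun u => chkFix tab mwordsA u) u = true := ext_range (a := 14885) (len := 65) h229 m2_229
  have h231 : ∀ u < 15015, (fun u => chkFix tab mwordsA u) u = true := ext_range (a := 14950) (len := 65) h230 m2_230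
  have h232 : ∀ u < 15080, (fun u => chkFix tab mwordsA u) u = true := ext_range (a := 15015) (len := 65) h231 m2_231
  have h233 : ∀ u < 15145, (fun u => chkFix tab mwordsA u) u = true := ext_range (a := 15080) (len := 65) h232 m2_232
  have h234 : ∀ u < 15210, (fun u => chkFix tab mwordsA u) u = true := ext_range (a := 15145) (len := 65) h233 m2_233
  have h235 : ∀ u < 15275, (fun u => chkFix tab mwordsA u) u = true := ext_range (a := 15210) (len := 65) h234 m2_234
  have h236 : ∀ u < 15340, (fun u => chkFix tab mwordsA u) u = true := ext_range (a := 15275) (len := 65) h235 m2_235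
  have h237 : ∀ u < 15405, (fun u => chkFix tab mwordsA u) u = true := ext_range (a := 15340) (len := 65) h236 m2_236
  have h238 : ∀ u < 15470, (fun u => chkFix tab mwordsA u) u = true := ext_range (a := 15405) (len := 65) h237 m2_237
  have h239 : ∀ u < 15535, (fun u => chkFix tab mwordsA u) u = true := ext_range (a := 15470) (len := 65) h238 m2_238
  have h240 : ∀ u < 15600, (fun u => chkFix tab mwordsA u) u = true := ext_range (a := 15535) (len := 65) h239 m2_239
  have h241 : ∀ u < 15665, (fun u => chkFix tab mwordsA u) u = true := ext_range (a := 15600) (len := 65) h240 m2_240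
  have h242 : ∀ u < 15730, (fun u => chkFix tab mwordsA u) u = true := ext_range (a := 15665) (len := 65) h241 m2_241
  have h243 : ∀ u < 15795, (fun u => chkFix tab mwordsA u) u = true := ext_range (a := 15730) (len := 65) h242 m2_242
  have h244 : ∀ u < 15860, (fun u => chkFix tab mwordsA u) u = true := ext_range (a := 15795) (len := 65) h243 m2_243
  have h245 : ∀ u < 15925, (fun u => chkFix tab mwordsA u) u = true := ext_range (a := 15860) (len := 65) h244 m2_244
  have h246 : ∀ u < 15990, (fun u => chkFix tab mwordsA u) u = true := ext_range (a := 15925) (len := 65) h245 m2_245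
  have h247 : ∀ u < 16055, (fun u => chkFix tab mwordsA u) u = true := ext_range (a := 15990) (len := 65) h246 m2_246
  have h248 : ∀ u < 16120, (fun u => chkFix tab mwordsA u) u = true := ext_range (a := 16055) (len := 65) h247 m2_247
  have h249 : ∀ u < 16185, (fun u => chkFix tab mwordsA u) u = true := ext_range (a := 16120) (len := 65) h248 m2_248
  have h250 : ∀ u < 16250, (fun u => chkFix tab mwordsA u) u = true := ext_range (a := 16185) (len := 65) h249 m2_249
  have h251 : ∀ u < 16315, (fun u => chkFix tab mwordsA u) u = true := ext_range (a := 16250) (len := 65) h250 m2_250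
  have h252 : ∀ u < 16380, (fun u => chkFix tab mwordsA u) u = true := ext_range (a := 16315) (len := 65) h251 m2_251
  have h253 : ∀ u < 16445, (fun u => chkFix tab mwordsA u) u = true := ext_range (a := 16380) (len := 65) h252 m2_252
  have h254 : ∀ u < 16510, (fun u => chkFix tab mwordsA u) u = true := ext_range (a := 16445) (len := 65) h253 m2_253
  have h255 : ∀ u < 16575, (fun u => chkFix tab mwordsA u) u = true := ext_range (a := 16510) (len := 65) h254 m2_254
  have h256 : ∀ u < 16640, (fun u => chkFix tab mwordsA u) u = true := ext_range (a := 16575) (len := 65) h255 m2_255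
  have h257 : ∀ u < 16705, (fun u => chkFix tab mwordsA u) u = true := ext_range (a := 16640) (len := 65) h256 m2_256
  have h258 : ∀ u < 16770, (fun u => chkFix tab mwordsA u) u = true := ext_range (a := 16705) (len := 65) h257 m2_257
  have h259 : ∀ u < 16835, (fun u => chkFix tab mwordsA u) u = true := ext_range (a := 16770) (len := 65) h258 m2_258
  have h260 : ∀ u < 16900, (fun u => chkFix tab mwordsA u) u = true := ext_range (a := 16835) (len := 65) h259 m2_259
  have h261 : ∀ u < 16965, (fun u => chkFix tab mwordsA u) u = true := ext_range (a := 16900) (len := 65) h260 m2_260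
  have h262 : ∀ u < 17030, (fun u => chkFix tab mwordsA u) u = true := ext_range (a := 16965) (len := 65) h261 m2_261
  have h263 : ∀ u < 17095, (fun u => chkFix tab mwordsA u) u = true := ext_range (a := 17030) (len := 65) h262 m2_262
  have h264 : ∀ u < 17160, (fun u => chkFix tab mwordsA u) u = true := ext_range (a := 17095) (len := 65) h263 m2_263
  have h265 : ∀ u < 17225, (fun u => chkFix tab mwordsA u) u = true := ext_range (a := 17160) (len := 65) h264 m2_264
  have h266 : ∀ u < 17290, (fun u => chkFix tab mwordsA u) u = true := ext_range (a := 17225) (len := 65) h265 m2_265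
  have h267 : ∀ u < 17355, (fun u => chkFix tab mwordsA u) u = true := ext_range (a := 17290) (len := 65) h266 m2_266
  have h268 : ∀ u < 17420, (fun u => chkFix tab mwordsA u) u = true := ext_range (a := 17355) (len := 65) h267 m2_267
  have h269 : ∀ u < 17485, (fun u => chkFix tab mwordsA u) u = true := ext_range (a := 17420) (len := 65) h268 m2_268
  have h270 : ∀ u < 17550, (fun u => chkFix tab mwordsA u) u = true := ext_range (a := 17485) (len := 65) h269 m2_269
  have h271 : ∀ u < 17615, (fun u => chkFix tab mwordsA u) u = true := ext_range (a := 17550) (len := 65) h270 m2_270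
  have h272 : ∀ u < 17680, (fun u => chkFix tab mwordsA u) u = true := ext_range (a := 17615) (len := 65) h271 m2_271
  have h273 : ∀ u < 17745, (fun u => chkFix tab mwordsA u) u = true := ext_range (a := 17680) (len := 65) h272 m2_272
  have h274 : ∀ u < 17810, (fun u => chkFix tab mwordsA u) u = true := ext_range (a := 17745) (len := 65) h273 m2_273
  have h275 : ∀ u < 17875, (fun u => chkFix tab mwordsA u) u = true := ext_range (a := 17810) (len := 65) h274 m2_274
  have h276 : ∀ u < 17940, (fun u => chkFix tab mwordsA u) u = true := ext_range (a := 17875) (len := 65) h275 m2_275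
  have h277 : ∀ u < 18005, (fun u => chkFix tab mwordsA u) u = true := ext_range (a := 17940) (len := 65) h276 m2_276
  have h278 : ∀ u < 18070, (fun u => chkFix tab mwordsA u) u = true := ext_range (a := 18005) (len := 65) h277 m2_277
  have h279 : ∀ u < 18135, (fun u => chkFix tab mwordsA u) u = true := ext_range (a := 18070) (len := 65) h278 m2_278
  have h280 : ∀ u < 18200, (fun u => chkFix tab mwordsA u) u = true := ext_range (a := 18135) (len := 65) h279 m2_279
  have h281 : ∀ u < 18265, (fun u => chkFix tab mwordsA u) u = true := ext_range (a := 18200) (len := 65) h280 m2_280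
  have h282 : ∀ u < 18330, (fun u => chkFix tab mwordsA u) u = true := ext_range (a := 18265) (len := 65) h281 m2_281
  have h283 : ∀ u < 18395, (fun u => chkFix tab mwordsA u) u = true := ext_range (a := 18330) (len := 65) h282 m2_282
  have h284 : ∀ u < 18460, (fun u => chkFix tab mwordsA u) u = true := ext_range (a := 18395) (len := 65) h283 m2_283
  have h285 : ∀ u < 18525, (fun u => chkFix tab mwordsA u) u = true := ext_range (a := 18460) (len := 65) h284 m2_284
  have h286 : ∀ u < 18590, (fun u => chkFix tab mwordsA u) u = true := ext_range (a := 18525) (len := 65) h285 m2_285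
  have h287 : ∀ u < 18655, (fun u => chkFix tab mwordsA u) u = true := ext_range (a := 18590) (len := 65) h286 m2_286
  have h288 : ∀ u < 18720, (fun u => chkFix tab mwordsA u) u = true := ext_range (a := 18655) (len := 65) h287 m2_287
  have h289 : ∀ u < 18785, (fun u => chkFix tab mwordsA u) u = true := ext_range (a := 18720) (len := 65) h288 m2_288
  have h290 : ∀ u < 18850, (fun u => chkFix tab mwordsA u) u = true := ext_range (a := 18785) (len := 65) h289 m2_289
  have h291 : ∀ u < 18915, (fun u => chkFix tab mwordsA u) u = true := ext_range (a := 18850) (len := 65) h290 m2_290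
  have h292 : ∀ u < 18980, (fun u => chkFix tab mwordsA u) u = true := ext_range (a := 18915) (len := 65) h291 m2_291
  have h293 : ∀ u < 19045, (fun u => chkFix tab mwordsA u) u = true := ext_range (a := 18980) (len := 65) h292 m2_292
  have h294 : ∀ u < 19110, (fun u => chkFix tab mwordsA u) u = true := ext_range (a := 19045) (len := 65) h293 m2_293
  have h295 : ∀ u < 19175, (fun u => chkFix tab mwordsA u) u = true := ext_range (a := 19110) (len := 65) h294 m2_294
  have h296 : ∀ u < 19240, (fun u => chkFix tab mwordsA u) u = true := ext_range (a := 19175) (len := 65) h295 m2_295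
  have h297 : ∀ u < 19305, (fun u => chkFix tab mwordsA u) u = true := ext_range (a := 19240) (len := 65) h296 m2_296
  have h298 : ∀ u < 19370, (fun u => chkFix tab mwordsA u) u = true := ext_range (a := 19305) (len := 65) h297 m2_297
  have h299 : ∀ u < 19435, (fun u => chkFix tab mwordsA u) u = true := ext_range (a := 19370) (len := 65) h298 m2_298
  have h300 : ∀ u < 19500, (fun u => chkFix tab mwordsA u) u = true := ext_range (a := 19435) (len := 65) h299 m2_299
  have h301 : ∀ u < 19565, (fun u => chkFix tab mwordsA u) u = true := ext_range (a := 19500) (len := 65) h300 m2_300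
  have h302 : ∀ u < 19630, (fun u => chkFix tab mwordsA u) u = true := ext_range (a := 19565) (len := 65) h301 m2_301
  have h303 : ∀ u < 19695, (fun u => chkFix tab mwordsA u) u = true := ext_range (a := 19630) (len := 65) h302 m2_302
  have h304 : ∀ u < 19760, (fun u => chkFix tab mwordsA u) u = true := ext_range (a := 19695) (len := 65) h303 m2_303
  have h305 : ∀ u < 19825, (fun u => chkFix tab mwordsA u) u = true := ext_range (a := 19760) (len := 65) h304 m2_304
  have h306 : ∀ u < 19890, (fun u => chkFix tab mwordsA u) u = true := ext_range (a := 19825) (len := 65) h305 m2_305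
  have h307 : ∀ u < 19955, (fun u => chkFix tab mwordsA u) u = true := ext_range (a := 19890) (len := 65) h306 m2_306
  have h308 : ∀ u < 20020, (fun u => chkFix tab mwordsA u) u = true := ext_range (a := 19955) (len := 65) h307 m2_307
  have h309 : ∀ u < 20085, (fun u => chkFix tab mwordsA u) u = true := ext_range (a := 20020) (len := 65) h308 m2_308
  have h310 : ∀ u < 20150, (fun u => chkFix tab mwordsA u) u = true := ext_range (a := 20085) (len := 65) h309 m2_309
  have h311 : ∀ u < 20215, (fun u => chkFix tab mwordsA u) u = true := ext_range (a := 20150) (len := 65) h310 m2_310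
  have h312 : ∀ u < 20280, (fun u => chkFix tab mwordsA u) u = true := ext_range (a := 20215) (len := 65) h311 m2_311
  have h313 : ∀ u < 20345, (fun u => chkFix tab mwordsA u) u = true := ext_range (a := 20280) (len := 65) h312 m2_312
  have h314 : ∀ u < 20410, (fun u => chkFix tab mwordsA u) u = true := ext_range (a := 20345) (len := 65) h313 m2_313
  have h315 : ∀ u < 20475, (fun u => chkFix tab mwordsA u) u = true := ext_range (a := 20410) (len := 65) h314 m2_314
  have h316 : ∀ u < 20540, (fun u => chkFix tab mwordsA u) u = true := ext_range (a := 20475) (len := 65) h315 m2_315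
  have h317 : ∀ u < 20605, (fun u => chkFix tab mwordsA u) u = true := ext_range (a := 20540) (len := 65) h316 m2_316
  have h318 : ∀ u < 20670, (fun u => chkFix tab mwordsA u) u = true := ext_range (a := 20605) (len := 65) h317 m2_317
  have h319 : ∀ u < 20735, (fun u => chkFix tab mwordsA u) u = true := ext_range (a := 20670) (len := 65) h318 m2_318
  have h320 : ∀ u < 20800, (fun u => chkFix tab mwordsA u) u = true := ext_range (a := 20735) (len := 65) h319 m2_319
  have h321 : ∀ u < 20865, (fun u => chkFix tab mwordsA u) u = true := ext_range (a := 20800) (len := 65) h320 m2_320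
  have h322 : ∀ u < 20930, (fun u => chkFix tab mwordsA u) u = true := ext_range (a := 20865) (len := 65) h321 m2_321
  have h323 : ∀ u < 20995, (fun u => chkFix tab mwordsA u) u = true := ext_range (a := 20930) (len := 65) h322 m2_322
  have h324 : ∀ u < 21060, (fun u => chkFix tab mwordsA u) u = true := ext_range (a := 20995) (len := 65) h323 m2_323
  have h325 : ∀ u < 21125, (fun u => chkFix tab mwordsA u) u = true := ext_range (a := 21060) (len := 65) h324 m2_324
  have h326 : ∀ u < 21190, (fun u => chkFix tab mwordsA u) u = true := ext_range (a := 21125) (len := 65) h325 m2_325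
  have h327 : ∀ u < 21255, (fun u => chkFix tab mwordsA u) u = true := ext_range (a := 21190) (len := 65) h326 m2_326
  have h328 : ∀ u < 21320, (fun u => chkFix tab mwordsA u) u = true := ext_range (a := 21255) (len := 65) h327 m2_327
  have h329 : ∀ u < 21385, (fun u => chkFix tab mwordsA u) u = true := ext_range (a := 21320) (len := 65) h328 m2_328
  have h330 : ∀ u < 21450, (fun u => chkFix tab mwordsA u) u = true := ext_range (a := 21385) (len := 65) h329 m2_329
  have h331 : ∀ u < 21515, (fun u => chkFix tab mwordsA u) u = true := ext_range (a := 21450) (len := 65) h330 m2_330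
  have h332 : ∀ u < 21580, (fun u => chkFix tab mwordsA u) u = true := ext_range (a := 21515) (len := 65) h331 m2_331
  have h333 : ∀ u < 21645, (fun u => chkFix tab mwordsA u) u = true := ext_range (a := 21580) (len := 65) h332 m2_332
  have h334 : ∀ u < 21710, (fun u => chkFix tab mwordsA u) u = true := ext_range (a := 21645) (len := 65) h333 m2_333
  have h335 : ∀ u < 21775, (fun u => chkFix tab mwordsA u) u = true := ext_range (a := 21710) (len := 65) h334 m2_334
  have h336 : ∀ u < 21840, (fun u => chkFix tab mwordsA u) u = true := ext_range (a := 21775) (len := 65) h335 m2_335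
  have h337 : ∀ u < 21905, (fun u => chkFix tab mwordsA u) u = true := ext_range (a := 21840) (len := 65) h336 m2_336
  have h338 : ∀ u < 21970, (fun u => chkFix tab mwordsA u) u = true := ext_range (a := 21905) (len := 65) h337 m2_337
  have h339 : ∀ u < 22035, (fun u => chkFix tab mwordsA u) u = true := ext_range (a := 21970) (len := 65) h338 m2_338
  have h340 : ∀ u < 22100, (fun u => chkFix tab mwordsA u) u = true := ext_range (a := 22035) (len := 65) h339 m2_339
  have h341 : ∀ u < 22165, (fun u => chkFix tab mwordsA u) u = true := ext_range (a := 22100) (len := 65) h340 m2_340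
  have h342 : ∀ u < 22230, (fun u => chkFix tab mwordsA u) u = true := ext_range (a := 22165) (len := 65) h341 m2_341
  have h343 : ∀ u < 22295, (fun u => chkFix tab mwordsA u) u = true := ext_range (a := 22230) (len := 65) h342 m2_342
  have h344 : ∀ u < 22360, (fun u => chkFix tab mwordsA u) u = true := ext_range (a := 22295) (len := 65) h343 m2_343
  have h345 : ∀ u < 22425, (fun u => chkFix tab mwordsA u) u = true := ext_range (a := 22360) (len := 65) h344 m2_344
  have h346 : ∀ u < 22490, (fun u => chkFix tab mwordsA u) u = true := ext_range (a := 22425) (len := 65) h345 m2_345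
  have h347 : ∀ u < 22555, (fun u => chkFix tab mwordsA u) u = true := ext_range (a := 22490) (len := 65) h346 m2_346
  have h348 : ∀ u < 22620, (fun u => chkFix tab mwordsA u) u = true := ext_range (a := 22555) (len := 65) h347 m2_347
  have h349 : ∀ u < 22685, (fun u => chkFix tab mwordsA u) u = true := ext_range (a := 22620) (len := 65) h348 m2_348
  have h350 : ∀ u < 22750, (fun u => chkFix tab mwordsA u) u = true := ext_range (a := 22685) (len := 65) h349 m2_349
  have h351 : ∀ u < 22815, (fun u => chkFix tab mwordsA u) u = true := ext_range (a := 22750) (len := 65) h350 m2_350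
  have h352 : ∀ u < 22880, (fun u => chkFix tab mwordsA u) u = true := ext_range (a := 22815) (len := 65) h351 m2_351
  have h353 : ∀ u < 22945, (fun u => chkFix tab mwordsA u) u = true := ext_range (a := 22880) (len := 65) h352 m2_352
  have h354 : ∀ u < 23010, (fun u => chkFix tab mwordsA u) u = true := ext_range (a := 22945) (len := 65) h353 m2_353
  have h355 : ∀ u < 23075, (fun u => chkFix tab mwordsA u) u = true := ext_range (a := 23010) (len := 65) h354 m2_354
  have h356 : ∀ u < 23140, (fun u => chkFix tab mwordsA u) u = true := ext_range (a := 23075) (len := 65) h355 m2_355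
  have h357 : ∀ u < 23205, (fun u => chkFix tab mwordsA u) u = true := ext_range (a := 23140) (len := 65) h356 m2_356
  have h358 : ∀ u < 23270, (fun u => chkFix tab mwordsA u) u = true := ext_range (a := 23205) (len := 65) h357 m2_357
  have h359 : ∀ u < 23335, (fun u => chkFix tab mwordsA u) u = true := ext_range (a := 23270) (len := 65) h358 m2_358
  have h360 : ∀ u < 23400, (fun u => chkFix tab mwordsA u) u = true := ext_range (a := 23335) (len := 65) h359 m2_359
  have h361 : ∀ u < 23465, (fun u => chkFix tab mwordsA u) u = true := ext_range (a := 23400) (len := 65) h360 m2_360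
  have h362 : ∀ u < 23530, (fun u => chkFix tab mwordsA u) u = true := ext_range (a := 23465) (len := 65) h361 m2_361
  have h363 : ∀ u < 23595, (fun u => chkFix tab mwordsA u) u = true := ext_range (a := 23530) (len := 65) h362 m2_362
  have h364 : ∀ u < 23660, (fun u => chkFix tab mwordsA u) u = true := ext_range (a := 23595) (len := 65) h363 m2_363
  have h365 : ∀ u < 23725, (fun u => chkFix tab mwordsA u) u = true := ext_range (a := 23660) (len := 65) h364 m2_364
  have h366 : ∀ u < 23790, (fun u => chkFix tab mwordsA u) u = true := ext_range (a := 23725) (len := 65) h365 m2_365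
  have h367 : ∀ u < 23855, (fun u => chkFix tab mwordsA u) u = true := ext_range (a := 23790) (len := 65) h366 m2_366
  have h368 : ∀ u < 23920, (fun u => chkFix tab mwordsA u) u = true := ext_range (a := 23855) (len := 65) h367 m2_367
  have h369 : ∀ u < 23985, (fun u => chkFix tab mwordsA u) u = true := ext_range (a := 23920) (len := 65) h368 m2_368
  have h370 : ∀ u < 24050, (fun u => chkFix tab mwordsA u) u = true := ext_range (a := 23985) (len := 65) h369 m2_369
  have h371 : ∀ u < 24115, (fun u => chkFix tab mwordsA u) u = true := ext_range (a := 24050) (len := 65) h370 m2_370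
  have h372 : ∀ u < 24180, (fun u => chkFix tab mwordsA u) u = true := ext_range (a := 24115) (len := 65) h371 m2_371
  have h373 : ∀ u < 24245, (fun u => chkFix tab mwordsA u) u = true := ext_range (a := 24180) (len := 65) h372 m2_372
  have h374 : ∀ u < 24310, (fun u => chkFix tab mwordsA u) u = true := ext_range (a := 24245) (len := 65) h373 m2_373
  have h375 : ∀ u < 24375, (fun u => chkFix tab mwordsA u) u = true := ext_range (a := 24310) (len := 65) h374 m2_374
  have h376 : ∀ u < 24440, (fun u => chkFix tab mwordsA u) u = true := ext_range (a := 24375) (len := 65) h375 m2_375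
  have h377 : ∀ u < 24505, (fun u => chkFix tab mwordsA u) u = true := ext_range (a := 24440) (len := 65) h376 m2_376
  have h378 : ∀ u < 24570, (fun u => chkFix tab mwordsA u) u = true := ext_range (a := 24505) (len := 65) h377 m2_377
  have h379 : ∀ u < 24635, (fun u => chkFix tab mwordsA u) u = true := ext_range (a := 24570) (len := 65) h378 m2_378
  have h380 : ∀ u < 24700, (fun u => chkFix tab mwordsA u) u = true := ext_range (a := 24635) (len := 65) h379 m2_379
  have h381 : ∀ u < 24765, (fun u => chkFix tab mwordsA u) u = true := ext_range (a := 24700) (len := 65) h380 m2_380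
  have h382 : ∀ u < 24830, (fun u => chkFix tab mwordsA u) u = true := ext_range (a := 24765) (len := 65) h381 m2_381
  have h383 : ∀ u < 24895, (fun u => chkFix tab mwordsA u) u = true := ext_range (a := 24830) (len := 65) h382 m2_382
  have h384 : ∀ u < 24960, (fun u => chkFix tab mwordsA u) u = true := ext_range (a := 24895) (len := 65) h383 m2_383
  have h385 : ∀ u < 25025, (fun u => chkFix tab mwordsA u) u = true := ext_range (a := 24960) (len := 65) h384 m2_384
  have h386 : ∀ u < 25090, (fun u => chkFix tab mwordsA u) u = true := ext_range (a := 25025) (len := 65) h385 m2_385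
  have h387 : ∀ u < 25155, (fun u => chkFix tab mwordsA u) u = true := ext_range (a := 25090) (len := 65) h386 m2_386
  have h388 : ∀ u < 25220, (fun u => chkFix tab mwordsA u) u = true := ext_range (a := 25155) (len := 65) h387 m2_387
  have h389 : ∀ u < 25285, (fun u => chkFix tab mwordsA u) u = true := ext_range (a := 25220) (len := 65) h388 m2_388
  have h390 : ∀ u < 25350, (fun u => chkFix tab mwordsA u) u = true := ext_range (a := 25285) (len := 65) h389 m2_389
  have h391 : ∀ u < 25415, (fun u => chkFix tab mwordsA u) u = true := ext_range (a := 25350) (len := 65) h390 m2_390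
  have h392 : ∀ u < 25480, (fun u => chkFix tab mwordsA u) u = true := ext_range (a := 25415) (len := 65) h391 m2_391
  have h393 : ∀ u < 25545, (fun u => chkFix tab mwordsA u) u = true := ext_range (a := 25480) (len := 65) h392 m2_392
  have h394 : ∀ u < 25610, (fun u => chkFix tab mwordsA u) u = true := ext_range (a := 25545) (len := 65) h393 m2_393
  have h395 : ∀ u < 25675, (fun u => chkFix tab mwordsA u) u = true := ext_range (a := 25610) (len := 65) h394 m2_394
  have h396 : ∀ u < 25740, (fun u => chkFix tab mwordsA u) u = true := ext_range (a := 25675) (len := 65) h395 m2_395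
  have h397 : ∀ u < 25805, (fun u => chkFix tab mwordsA u) u = true := ext_range (a := 25740) (len := 65) h396 m2_396
  have h398 : ∀ u < 25870, (fun u => chkFix tab mwordsA u) u = true := ext_range (a := 25805) (len := 65) h397 m2_397
  have h399 : ∀ u < 25935, (fun u => chkFix tab mwordsA u) u = true := ext_range (a := 25870) (len := 65) h398 m2_398
  have h400 : ∀ u < 26000, (fun u => chkFix tab mwordsA u) u = true := ext_range (a := 25935) (len := 65) h399 m2_399
  have h401 : ∀ u < 26065, (fun u => chkFix tab mwordsA u) u = true := ext_range (a := 26000) (len := 65) h400 m2_400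
  have h402 : ∀ u < 26130, (fun u => chkFix tab mwordsA u) u = true := ext_range (a := 26065) (len := 65) h401 m2_401
  have h403 : ∀ u < 26195, (fun u => chkFix tab mwordsA u) u = true := ext_range (a := 26130) (len := 65) h402 m2_402
  have h404 : ∀ u < 26260, (fun u => chkFix tab mwordsA u) u = true := ext_range (a := 26195) (len := 65) h403 m2_403
  have h405 : ∀ u < 26325, (fun u => chkFix tab mwordsA u) u = true := ext_range (a := 26260) (len := 65) h404 m2_404
  have h406 : ∀ u < 26390, (fun u => chkFix tab mwordsA u) u = true := ext_range (a := 26325) (len := 65) h405 m2_405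
  have h407 : ∀ u < 26455, (fun u => chkFix tab mwordsA u) u = true := ext_range (a := 26390) (len := 65) h406 m2_406
  have h408 : ∀ u < 26520, (fun u => chkFix tab mwordsA u) u = true := ext_range (a := 26455) (len := 65) h407 m2_407
  have h409 : ∀ u < 26585, (fun u => chkFix tab mwordsA u) u = true := ext_range (a := 26520) (len := 65) h408 m2_408
  have h410 : ∀ u < 26650, (fun u => chkFix tab mwordsA u) u = true := ext_range (a := 26585) (len := 65) h409 m2_409
  have h411 : ∀ u < 26715, (fun u => chkFix tab mwordsA u) u = true := ext_range (a := 26650) (len := 65) h410 m2_410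
  have h412 : ∀ u < 26780, (fun u => chkFix tab mwordsA u) u = true := ext_range (a := 26715) (len := 65) h411 m2_411
  have h413 : ∀ u < 26845, (fun u => chkFix tab mwordsA u) u = true := ext_range (a := 26780) (len := 65) h412 m2_412
  have h414 : ∀ u < 26910, (fun u => chkFix tab mwordsA u) u = true := ext_range (a := 26845) (len := 65) h413 m2_413
  have h415 : ∀ u < 26975, (fun u => chkFix tab mwordsA u) u = true := ext_range (a := 26910) (len := 65) h414 m2_414
  have h416 : ∀ u < 27040, (fun u => chkFix tab mwordsA u) u = true := ext_range (a := 26975) (len := 65) h415 m2_415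
  have h417 : ∀ u < 27105, (fun u => chkFix tab mwordsA u) u = true := ext_range (a := 27040) (len := 65) h416 m2_416
  have h418 : ∀ u < 27170, (fun u => chkFix tab mwordsA u) u = true := ext_range (a := 27105) (len := 65) h417 m2_417
  have h419 : ∀ u < 27235, (fun u => chkFix tab mwordsA u) u = true := ext_range (a := 27170) (len := 65) h418 m2_418
  have h420 : ∀ u < 27300, (fun u => chkFix tab mwordsA u) u = true := ext_range (a := 27235) (len := 65) h419 m2_419
  have h421 : ∀ u < 27365, (fun u => chkFix tab mwordsA u) u = true := ext_range (a := 27300) (len := 65) h420 m2_420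
  have h422 : ∀ u < 27430, (fun u => chkFix tab mwordsA u) u = true := ext_range (a := 27365) (len := 65) h421 m2_421
  have h423 : ∀ u < 27495, (fun u => chkFix tab mwordsA u) u = true := ext_range (a := 27430) (len := 65) h422 m2_422
  have h424 : ∀ u < 27560, (fun u => chkFix tab mwordsA u) u = true := ext_range (a := 27495) (len := 65) h423 m2_423
  have h425 : ∀ u < 27625, (fun u => chkFix tab mwordsA u) u = true := ext_range (a := 27560) (len := 65) h424 m2_424
  have h426 : ∀ u < 27690, (fun u => chkFix tab mwordsA u) u = true := ext_range (a := 27625) (len := 65) h425 m2_425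
  have h427 : ∀ u < 27755, (fun u => chkFix tab mwordsA u) u = true := ext_range (a := 27690) (len := 65) h426 m2_426
  have h428 : ∀ u < 27820, (fun u => chkFix tab mwordsA u) u = true := ext_range (a := 27755) (len := 65) h427 m2_427
  have h429 : ∀ u < 27885, (fun u => chkFix tab mwordsA u) u = true := ext_range (a := 27820) (len := 65) h428 m2_428
  have h430 : ∀ u < 27950, (fun u => chkFix tab mwordsA u) u = true := ext_range (a := 27885) (len := 65) h429 m2_429
  have h431 : ∀ u < 28015, (fun u => chkFix tab mwordsA u) u = true := ext_range (a := 27950) (len := 65) h430 m2_430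
  have h432 : ∀ u < 28080, (fun u => chkFix tab mwordsA u) u = true := ext_range (a := 28015) (len := 65) h431 m2_431
  have h433 : ∀ u < 28145, (fun u => chkFix tab mwordsA u) u = true := ext_range (a := 28080) (len := 65) h432 m2_432
  have h434 : ∀ u < 28210, (fun u => chkFix tab mwordsA u) u = true := ext_range (a := 28145) (len := 65) h433 m2_433
  have h435 : ∀ u < 28275, (fun u => chkFix tab mwordsA u) u = true := ext_range (a := 28210) (len := 65) h434 m2_434
  have h436 : ∀ u < 28340, (fun u => chkFix tab mwordsA u) u = true := ext_range (a := 28275) (len := 65) h435 m2_435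
  have h437 : ∀ u < 28405, (fun u => chkFix tab mwordsA u) u = true := ext_range (a := 28340) (len := 65) h436 m2_436
  have h438 : ∀ u < 28431, (fun u => chkFix tab mwordsA u) u = true := ext_range (a := 28405) (len := 26) h437 m2_437
  exact h438

theorem hSlp : ∀ u < 28431, chkSlp tab slp u = true := by
  have h0 : ∀ u < 0, (fun u => chkSlp tab slp u) u = true := range_zero
  have h1 : ∀ u < 1291, (fun u => chkSlp tab slp u) u = true := ext_range (a := 0) (len := 1291) h0 sl_0
  have h2 : ∀ u < 2582, (fun u => chkSlp tab slp u) u = true := ext_range (a := 1291) (len := 1291) h1 sl_1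
  have h3 : ∀ u < 3873, (fun u => chkSlp tab slp u) u = true := ext_range (a := 2582) (len := 1291) h2 sl_2
  have h4 : ∀ u < 5164, (fun u => chkSlp tab slp u) u = true := ext_range (a := 3873) (len := 1291) h3 sl_3
  have h5 : ∀ u < 6455, (fun u => chkSlp tab slp u) u = true := ext_range (a := 5164) (len := 1291) h4 sl_4
  have h6 : ∀ u < 7746, (fun u => chkSlp tab slp u) u = true := ext_range (a := 6455) (len := 1291) h5 sl_5
  have h7 : ∀ u < 9037, (fun u => chkSlp tab slp u) u = true := ext_range (a := 7746) (len := 1291) h6 sl_6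
  have h8 : ∀ u < 10328, (fun u => chkSlp tab slp u) u = true := ext_range (a := 9037) (len := 1291) h7 sl_7
  have h9 : ∀ u < 11619, (fun u => chkSlp tab slp u) u = true := ext_range (a := 10328) (len := 1291) h8 sl_8
  have h10 : ∀ u < 12910, (fun u => chkSlp tab slp u) u = true := ext_range (a := 11619) (len := 1291) h9 sl_9
  have h11 : ∀ u < 14201, (fun u => chkSlp tab slp u) u = true := ext_range (a := 12910) (len := 1291) h10 sl_10
  have h12 : ∀ u < 15492, (fun u => chkSlp tab slp u) u = true := ext_range (a := 14201) (len := 1291) h11 sl_11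
  have h13 : ∀ u < 16783, (fun u => chkSlp tab slp u) u = true := ext_range (a := 15492) (len := 1291) h12 sl_12
  have h14 : ∀ u < 18074, (fun u => chkSlp tab slp u) u = true := ext_range (a := 16783) (len := 1291) h13 sl_13
  have h15 : ∀ u < 19365, (fun u => chkSlp tab slp u) u = true := ext_range (a := 18074) (len := 1291) h14 sl_14
  have h16 : ∀ u < 20656, (fun u => chkSlp tab slp u) u = true := ext_range (a := 19365) (len := 1291) h15 sl_15
  have h17 : ∀ u < 21947, (fun u => chkSlp tab slp u) u = true := ext_range (a := 20656) (len := 1291) h16 sl_16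
  have h18 : ∀ u < 23238, (fun u => chkSlp tab slp u) u = true := ext_range (a := 21947) (len := 1291) h17 sl_17
  have h19 : ∀ u < 24529, (fun u => chkSlp tab slp u) u = true := ext_range (a := 23238) (len := 1291) h18 sl_18
  have h20 : ∀ u < 25820, (fun u => chkSlp tab slp u) u = true := ext_range (a := 24529) (len := 1291) h19 sl_19
  have h21 : ∀ u < 27111, (fun u => chkSlp tab slp u) u = true := ext_range (a := 25820) (len := 1291) h20 sl_20
  have h22 : ∀ u < 28402, (fun u => chkSlp tab slp u) u = true := ext_range (a := 27111) (len := 1291) h21 sl_21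
  have h23 : ∀ u < 28431, (fun u => chkSlp tab slp u) u = true := ext_range (a := 28402) (len := 29) h22 sl_22
  exact h23

theorem hT0 : ∀ u < 28431, chkTree tab (lidx 0) (lpar 0) (lgi 0) 0 [0, 1, 2, 3, 4, 5, 6, 7, 8, 9] u = true := by
  have h0 : ∀ u < 0, (fun u => chkTree tab (lidx 0) (lpar 0) (lgi 0) 0 [0, 1, 2, 3, 4, 5, 6, 7, 8, 9] u) u = true := range_zero
  have h1 : ∀ u < 1000, (fun u => chkTree tab (lidx 0) (lpar 0) (lgi 0) 0 [0, 1, 2, 3, 4, 5, 6, 7, 8, 9] u) u = true := ext_range (a := 0) (len := 1000) h0 tr0x_0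
  have h2 : ∀ u < 2000, (fun u => chkTree tab (lidx 0) (lpar 0) (lgi 0) 0 [0, 1, 2, 3, 4, 5, 6, 7, 8, 9] u) u = true := ext_range (a := 1000) (len := 1000) h1 tr0x_1
  have h3 : ∀ u < 3000, (fun u => chkTree tab (lidx 0) (lpar 0) (lgi 0) 0 [0, 1, 2, 3, 4, 5, 6, 7, 8, 9] u) u = true := ext_range (a := 2000) (len := 1000) h2 tr0x_2
  have h4 : ∀ u < 4000, (fun u => chkTree tab (lidx 0) (lpar 0) (lgi 0) 0 [0, 1, 2, 3, 4, 5, 6, 7, 8, 9] u) u = true := ext_range (a := 3000) (len := 1000) h3 tr0x_3
  have h5 : ∀ u < 5000, (fun u => chkTree tab (lidx 0) (lpar 0) (lgi 0) 0 [0, 1, 2, 3, 4, 5, 6, 7, 8, 9] u) u = true := ext_range (a := 4000) (len := 1000) h4 tr0x_4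
  have h6 : ∀ u < 6000, (fun u => chkTree tab (lidx 0) (lpar 0) (lgi 0) 0 [0, 1, 2, 3, 4, 5, 6, 7, 8, 9] u) u = true := ext_range (a := 5000) (len := 1000) h5 tr0x_5
  have h7 : ∀ u < 7000, (fun u => chkTree tab (lidx 0) (lpar 0) (lgi 0) 0 [0, 1, 2, 3, 4, 5, 6, 7, 8, 9] u) u = true := ext_range (a := 6000) (len := 1000) h6 tr0x_6
  have h8 : ∀ u < 8000, (fun u => chkTree tab (lidx 0) (lpar 0) (lgi 0) 0 [0, 1, 2, 3, 4, 5, 6, 7, 8, 9] u) u = true := ext_range (a := 7000) (len := 1000) h7 tr0x_7
  have h9 : ∀ u < 9000, (fun u => chkTree tab (lidx 0) (lpar 0) (lgi 0) 0 [0, 1, 2, 3, 4, 5, 6, 7, 8, 9] u) u = true := ext_range (a := 8000) (len := 1000) h8 tr0x_8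
  have h10 : ∀ u < 10000, (fun u => chkTree tab (lidx 0) (lpar 0) (lgi 0) 0 [0, 1, 2, 3, 4, 5, 6, 7, 8, 9] u) u = true := ext_range (a := 9000) (len := 1000) h9 tr0x_9
  have h11 : ∀ u < 11000, (fun u => chkTree tab (lidx 0) (lpar 0) (lgi 0) 0 [0, 1, 2, 3, 4, 5, 6, 7, 8, 9] u) u = true := ext_range (a := 10000) (len := 1000) h10 tr0x_10
  have h12 : ∀ u < 12000, (fun u => chkTree tab (lidx 0) (lpar 0) (lgi 0) 0 [0, 1, 2, 3, 4, 5, 6, 7, 8, 9] u) u = true := ext_range (a := 11000) (len := 1000) h11 tr0x_11
  have h13 : ∀ u < 13000, (fun u => chkTree tab (lidx 0) (lpar 0) (lgi 0) 0 [0, 1, 2, 3, 4, 5, 6, 7, 8, 9] u) u = true := ext_range (a := 12000) (len := 1000) h12 tr0x_12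
  have h14 : ∀ u < 14000, (fun u => chkTree tab (lidx 0) (lpar 0) (lgi 0) 0 [0, 1, 2, 3, 4, 5, 6, 7, 8, 9] u) u = true := ext_range (a := 13000) (len := 1000) h13 tr0x_13
  have h15 : ∀ u < 15000, (fun u => chkTree tab (lidx 0) (lpar 0) (lgi 0) 0 [0, 1, 2, 3, 4, 5, 6, 7, 8, 9] u) u = true := ext_range (a := 14000) (len := 1000) h14 tr0x_14
  have h16 : ∀ u < 16000, (fun u => chkTree tab (lidx 0) (lpar 0) (lgi 0) 0 [0, 1, 2, 3, 4, 5, 6, 7, 8, 9] u) u = true := ext_range (a := 15000) (len := 1000) h15 tr0x_15
  have h17 : ∀ u < 17000, (fun u => chkTree tab (lidx 0) (lpar 0) (lgi 0) 0 [0, 1, 2, 3, 4, 5, 6, 7, 8, 9] u) u = true := ext_range (a := 16000) (len := 1000) h16 tr0x_16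
  have h18 : ∀ u < 18000, (fun u => chkTree tab (lidx 0) (lpar 0) (lgi 0) 0 [0, 1, 2, 3, 4, 5, 6, 7, 8, 9] u) u = true := ext_range (a := 17000) (len := 1000) h17 tr0x_17
  have h19 : ∀ u < 19000, (fun u => chkTree tab (lidx 0) (lpar 0) (lgi 0) 0 [0, 1, 2, 3, 4, 5, 6, 7, 8, 9] u) u = true := ext_range (a := 18000) (len := 1000) h18 tr0x_18
  have h20 : ∀ u < 20000, (fun u => chkTree tab (lidx 0) (lpar 0) (lgi 0) 0 [0, 1, 2, 3, 4, 5, 6, 7, 8, 9] u) u = true := ext_range (a := 19000) (len := 1000) h19 tr0x_19
  have h21 : ∀ u < 21000, (fun u => chkTree tab (lidx 0) (lpar 0) (lgi 0) 0 [0, 1, 2, 3, 4, 5, 6, 7, 8, 9] u) u = true := ext_range (a := 20000) (len := 1000) h20 tr0x_20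
  have h22 : ∀ u < 22000, (fun u => chkTree tab (lidx 0) (lpar 0) (lgi 0) 0 [0, 1, 2, 3, 4, 5, 6, 7, 8, 9] u) u = true := ext_range (a := 21000) (len := 1000) h21 tr0x_21
  have h23 : ∀ u < 23000, (fun u => chkTree tab (lidx 0) (lpar 0) (lgi 0) 0 [0, 1, 2, 3, 4, 5, 6, 7, 8, 9] u) u = true := ext_range (a := 22000) (len := 1000) h22 tr0x_22
  have h24 : ∀ u < 24000, (fun u => chkTree tab (lidx 0) (lpar 0) (lgi 0) 0 [0, 1, 2, 3, 4, 5, 6, 7, 8, 9] u) u = true := ext_range (a := 23000) (len := 1000) h23 tr0x_23
  have h25 : ∀ u < 25000, (fun u => chkTree tab (lidx 0) (lpar 0) (lgi 0) 0 [0, 1, 2, 3, 4, 5, 6, 7, 8, 9] u) u = true := ext_range (a := 24000) (len := 1000) h24 tr0x_24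
  have h26 : ∀ u < 26000, (fun u => chkTree tab (lidx 0) (lpar 0) (lgi 0) 0 [0, 1, 2, 3, 4, 5, 6, 7, 8, 9] u) u = true := ext_range (a := 25000) (len := 1000) h25 tr0x_25
  have h27 : ∀ u < 27000, (fun u => chkTree tab (lidx 0) (lpar 0) (lgi 0) 0 [0, 1, 2, 3, 4, 5, 6, 7, 8, 9] u) u = true := ext_range (a := 26000) (len := 1000) h26 tr0x_26
  have h28 : ∀ u < 28000, (fun u => chkTree tab (lidx 0) (lpar 0) (lgi 0) 0 [0, 1, 2, 3, 4, 5, 6, 7, 8, 9] u) u = true := ext_range (a := 27000) (len := 1000) h27 tr0x_27
  have h29 : ∀ u < 28431, (fun u => chkTree tab (lidx 0) (lpar 0) (lgi 0) 0 [0, 1, 2, 3, 4, 5, 6, 7, 8, 9] u) u = true := ext_range (a := 28000) (len := 431) h28 tr0x_28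
  exact h29

theorem hT1 : ∀ u < 28431, chkTree tab (lidx 1) (lpar 1) (lgi 1) 1 [0, 1, 2, 3, 4, 5, 6, 7, 8] u = true := by
  have h0 : ∀ u < 0, (fun u => chkTree tab (lidx 1) (lpar 1) (lgi 1) 1 [0, 1, 2, 3, 4, 5, 6, 7, 8] u) u = true := range_zero
  have h1 : ∀ u < 1000, (fun u => chkTree tab (lidx 1) (lpar 1) (lgi 1) 1 [0, 1, 2, 3, 4, 5, 6, 7, 8] u) u = true := ext_range (a := 0) (len := 1000) h0 tr1x_0
  have h2 : ∀ u < 2000, (fun u => chkTree tab (lidx 1) (lpar 1) (lgi 1) 1 [0, 1, 2, 3, 4, 5, 6, 7, 8] u) u = true := ext_range (a := 1000) (len := 1000) h1 tr1x_1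
  have h3 : ∀ u < 3000, (fun u => chkTree tab (lidx 1) (lpar 1) (lgi 1) 1 [0, 1, 2, 3, 4, 5, 6, 7, 8] u) u = true := ext_range (a := 2000) (len := 1000) h2 tr1x_2
  have h4 : ∀ u < 4000, (fun u => chkTree tab (lidx 1) (lpar 1) (lgi 1) 1 [0, 1, 2, 3, 4, 5, 6, 7, 8] u) u = true := ext_range (a := 3000) (len := 1000) h3 tr1x_3
  have h5 : ∀ u < 5000, (fun u => chkTree tab (lidx 1) (lpar 1) (lgi 1) 1 [0, 1, 2, 3, 4, 5, 6, 7, 8] u) u = true := ext_range (a := 4000) (len := 1000) h4 tr1x_4
  have h6 : ∀ u < 6000, (fun u => chkTree tab (lidx 1) (lpar 1) (lgi 1) 1 [0, 1, 2, 3, 4, 5, 6, 7, 8] u) u = true := ext_range (a := 5000) (len := 1000) h5 tr1x_5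
  have h7 : ∀ u < 7000, (fun u => chkTree tab (lidx 1) (lpar 1) (lgi 1) 1 [0, 1, 2, 3, 4, 5, 6, 7, 8] u) u = true := ext_range (a := 6000) (len := 1000) h6 tr1x_6
  have h8 : ∀ u < 8000, (fun u => chkTree tab (lidx 1) (lpar 1) (lgi 1) 1 [0, 1, 2, 3, 4, 5, 6, 7, 8] u) u = true := ext_range (a := 7000) (len := 1000) h7 tr1x_7
  have h9 : ∀ u < 9000, (fun u => chkTree tab (lidx 1) (lpar 1) (lgi 1) 1 [0, 1, 2, 3, 4, 5, 6, 7, 8] u) u = true := ext_range (a := 8000) (len := 1000) h8 tr1x_8
  have h10 : ∀ u < 10000, (fun u => chkTree tab (lidx 1) (lpar 1) (lgi 1) 1 [0, 1, 2, 3, 4, 5, 6, 7, 8] u) u = true := ext_range (a := 9000) (len := 1000) h9 tr1x_9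
  have h11 : ∀ u < 11000, (fun u => chkTree tab (lidx 1) (lpar 1) (lgi 1) 1 [0, 1, 2, 3, 4, 5, 6, 7, 8] u) u = true := ext_range (a := 10000) (len := 1000) h10 tr1x_10
  have h12 : ∀ u < 12000, (fun u => chkTree tab (lidx 1) (lpar 1) (lgi 1) 1 [0, 1, 2, 3, 4, 5, 6, 7, 8] u) u = true := ext_range (a := 11000) (len := 1000) h11 tr1x_11
  have h13 : ∀ u < 13000, (fun u => chkTree tab (lidx 1) (lpar 1) (lgi 1) 1 [0, 1, 2, 3, 4, 5, 6, 7, 8] u) u = true := ext_range (a := 12000) (len := 1000) h12 tr1x_12
  have h14 : ∀ u < 14000, (fun u => chkTree tab (lidx 1) (lpar 1) (lgi 1) 1 [0, 1, 2, 3, 4, 5, 6, 7, 8] u) u = true := ext_range (a := 13000) (len := 1000) h13 tr1x_13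
  have h15 : ∀ u < 15000, (fun u => chkTree tab (lidx 1) (lpar 1) (lgi 1) 1 [0, 1, 2, 3, 4, 5, 6, 7, 8] u) u = true := ext_range (a := 14000) (len := 1000) h14 tr1x_14
  have h16 : ∀ u < 16000, (fun u => chkTree tab (lidx 1) (lpar 1) (lgi 1) 1 [0, 1, 2, 3, 4, 5, 6, 7, 8] u) u = true := ext_range (a := 15000) (len := 1000) h15 tr1x_15
  have h17 : ∀ u < 17000, (fun u => chkTree tab (lidx 1) (lpar 1) (lgi 1) 1 [0, 1, 2, 3, 4, 5, 6, 7, 8] u) u = true := ext_range (a := 16000) (len := 1000) h16 tr1x_16
  have h18 : ∀ u < 18000, (fun u => chkTree tab (lidx 1) (lpar 1) (lgi 1) 1 [0, 1, 2, 3, 4, 5, 6, 7, 8] u) u = true := ext_range (a := 17000) (len := 1000) h17 tr1x_17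
  have h19 : ∀ u < 19000, (fun u => chkTree tab (lidx 1) (lpar 1) (lgi 1) 1 [0, 1, 2, 3, 4, 5, 6, 7, 8] u) u = true := ext_range (a := 18000) (len := 1000) h18 tr1x_18
  have h20 : ∀ u < 20000, (fun u => chkTree tab (lidx 1) (lpar 1) (lgi 1) 1 [0, 1, 2, 3, 4, 5, 6, 7, 8] u) u = true := ext_range (a := 19000) (len := 1000) h19 tr1x_19
  have h21 : ∀ u < 21000, (fun u => chkTree tab (lidx 1) (lpar 1) (lgi 1) 1 [0, 1, 2, 3, 4, 5, 6, 7, 8] u) u = true := ext_range (a := 20000) (len := 1000) h20 tr1x_20
  have h22 : ∀ u < 22000, (fun u => chkTree tab (lidx 1) (lpar 1) (lgi 1) 1 [0, 1, 2, 3, 4, 5, 6, 7, 8] u) u = true := ext_range (a := 21000) (len := 1000) h21 tr1x_21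
  have h23 : ∀ u < 23000, (fun u => chkTree tab (lidx 1) (lpar 1) (lgi 1) 1 [0, 1, 2, 3, 4, 5, 6, 7, 8] u) u = true := ext_range (a := 22000) (len := 1000) h22 tr1x_22
  have h24 : ∀ u < 24000, (fun u => chkTree tab (lidx 1) (lpar 1) (lgi 1) 1 [0, 1, 2, 3, 4, 5, 6, 7, 8] u) u = true := ext_range (a := 23000) (len := 1000) h23 tr1x_23
  have h25 : ∀ u < 25000, (fun u => chkTree tab (lidx 1) (lpar 1) (lgi 1) 1 [0, 1, 2, 3, 4, 5, 6, 7, 8] u) u = true := ext_range (a := 24000) (len := 1000) h24 tr1x_24
  have h26 : ∀ u < 26000, (fun u => chkTree tab (lidx 1) (lpar 1) (lgi 1) 1 [0, 1, 2, 3, 4, 5, 6, 7, 8] u) u = true := ext_range (a := 25000) (len := 1000) h25 tr1x_25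
  have h27 : ∀ u < 27000, (fun u => chkTree tab (lidx 1) (lpar 1) (lgi 1) 1 [0, 1, 2, 3, 4, 5, 6, 7, 8] u) u = true := ext_range (a := 26000) (len := 1000) h26 tr1x_26
  have h28 : ∀ u < 28000, (fun u => chkTree tab (lidx 1) (lpar 1) (lgi 1) 1 [0, 1, 2, 3, 4, 5, 6, 7, 8] u) u = true := ext_range (a := 27000) (len := 1000) h27 tr1x_27
  have h29 : ∀ u < 28431, (fun u => chkTree tab (lidx 1) (lpar 1) (lgi 1) 1 [0, 1, 2, 3, 4, 5, 6, 7, 8] u) u = true := ext_range (a := 28000) (len := 431) h28 tr1x_28
  exact h29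

theorem hT2 : ∀ u < 28431, chkTree tab (lidx 2) (lpar 2) (lgi 2) 2 [0, 1, 2, 3, 4, 5, 6, 7] u = true := by
  have h0 : ∀ u < 0, (fun u => chkTree tab (lidx 2) (lpar 2) (lgi 2) 2 [0, 1, 2, 3, 4, 5, 6, 7] u) u = true := range_zero
  have h1 : ∀ u < 1000, (fun u => chkTree tab (lidx 2) (lpar 2) (lgi 2) 2 [0, 1, 2, 3, 4, 5, 6, 7] u) u = true := ext_range (a := 0) (len := 1000) h0 tr2x_0
  have h2 : ∀ u < 2000, (fun u => chkTree tab (lidx 2) (lpar 2) (lgi 2) 2 [0, 1, 2, 3, 4, 5, 6, 7] u) u = true := ext_range (a := 1000) (len := 1000) h1 tr2x_1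
  have h3 : ∀ u < 3000, (fun u => chkTree tab (lidx 2) (lpar 2) (lgi 2) 2 [0, 1, 2, 3, 4, 5, 6, 7] u) u = true := ext_range (a := 2000) (len := 1000) h2 tr2x_2
  have h4 : ∀ u < 4000, (fun u => chkTree tab (lidx 2) (lpar 2) (lgi 2) 2 [0, 1, 2, 3, 4, 5, 6, 7] u) u = true := ext_range (a := 3000) (len := 1000) h3 tr2x_3
  have h5 : ∀ u < 5000, (fun u => chkTree tab (lidx 2) (lpar 2) (lgi 2) 2 [0, 1, 2, 3, 4, 5, 6, 7] u) u = true := ext_range (a := 4000) (len := 1000) h4 tr2x_4
  have h6 : ∀ u < 6000, (fun u => chkTree tab (lidx 2) (lpar 2) (lgi 2) 2 [0, 1, 2, 3, 4, 5, 6, 7] u) u = true := ext_range (a := 5000) (len := 1000) h5 tr2x_5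
  have h7 : ∀ u < 7000, (fun u => chkTree tab (lidx 2) (lpar 2) (lgi 2) 2 [0, 1, 2, 3, 4, 5, 6, 7] u) u = true := ext_range (a := 6000) (len := 1000) h6 tr2x_6
  have h8 : ∀ u < 8000, (fun u => chkTree tab (lidx 2) (lpar 2) (lgi 2) 2 [0, 1, 2, 3, 4, 5, 6, 7] u) u = true := ext_range (a := 7000) (len := 1000) h7 tr2x_7
  have h9 : ∀ u < 9000, (fun u => chkTree tab (lidx 2) (lpar 2) (lgi 2) 2 [0, 1, 2, 3, 4, 5, 6, 7] u) u = true := ext_range (a := 8000) (len := 1000) h8 tr2x_8
  have h10 : ∀ u < 10000, (fun u => chkTree tab (lidx 2) (lpar 2) (lgi 2) 2 [0, 1, 2, 3, 4, 5, 6, 7] u) u = true := ext_range (a := 9000) (len := 1000) h9 tr2x_9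
  have h11 : ∀ u < 11000, (fun u => chkTree tab (lidx 2) (lpar 2) (lgi 2) 2 [0, 1, 2, 3, 4, 5, 6, 7] u) u = true := ext_range (a := 10000) (len := 1000) h10 tr2x_10
  have h12 : ∀ u < 12000, (fun u => chkTree tab (lidx 2) (lpar 2) (lgi 2) 2 [0, 1, 2, 3, 4, 5, 6, 7] u) u = true := ext_range (a := 11000) (len := 1000) h11 tr2x_11
  have h13 : ∀ u < 13000, (fun u => chkTree tab (lidx 2) (lpar 2) (lgi 2) 2 [0, 1, 2, 3, 4, 5, 6, 7] u) u = true := ext_range (a := 12000) (len := 1000) h12 tr2x_12
  have h14 : ∀ u < 14000, (fun u => chkTree tab (lidx 2) (lpar 2) (lgi 2) 2 [0, 1, 2, 3, 4, 5, 6, 7] u) u = true := ext_range (a := 13000) (len := 1000) h13 tr2x_13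
  have h15 : ∀ u < 15000, (fun u => chkTree tab (lidx 2) (lpar 2) (lgi 2) 2 [0, 1, 2, 3, 4, 5, 6, 7] u) u = true := ext_range (a := 14000) (len := 1000) h14 tr2x_14
  have h16 : ∀ u < 16000, (fun u => chkTree tab (lidx 2) (lpar 2) (lgi 2) 2 [0, 1, 2, 3, 4, 5, 6, 7] u) u = true := ext_range (a := 15000) (len := 1000) h15 tr2x_15
  have h17 : ∀ u < 17000, (fun u => chkTree tab (lidx 2) (lpar 2) (lgi 2) 2 [0, 1, 2, 3, 4, 5, 6, 7] u) u = true := ext_range (a := 16000) (len := 1000) h16 tr2x_16
  have h18 : ∀ u < 18000, (fun u => chkTree tab (lidx 2) (lpar 2) (lgi 2) 2 [0, 1, 2, 3, 4, 5, 6, 7] u) u = true := ext_range (a := 17000) (len := 1000) h17 tr2x_17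
  have h19 : ∀ u < 19000, (fun u => chkTree tab (lidx 2) (lpar 2) (lgi 2) 2 [0, 1, 2, 3, 4, 5, 6, 7] u) u = true := ext_range (a := 18000) (len := 1000) h18 tr2x_18
  have h20 : ∀ u < 20000, (fun u => chkTree tab (lidx 2) (lpar 2) (lgi 2) 2 [0, 1, 2, 3, 4, 5, 6, 7] u) u = true := ext_range (a := 19000) (len := 1000) h19 tr2x_19
  have h21 : ∀ u < 21000, (fun u => chkTree tab (lidx 2) (lpar 2) (lgi 2) 2 [0, 1, 2, 3, 4, 5, 6, 7] u) u = true := ext_range (a := 20000) (len := 1000) h20 tr2x_20
  have h22 : ∀ u < 22000, (fun u => chkTree tab (lidx 2) (lpar 2) (lgi 2) 2 [0, 1, 2, 3, 4, 5, 6, 7] u) u = true := ext_range (a := 21000) (len := 1000) h21 tr2x_21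
  have h23 : ∀ u < 23000, (fun u => chkTree tab (lidx 2) (lpar 2) (lgi 2) 2 [0, 1, 2, 3, 4, 5, 6, 7] u) u = true := ext_range (a := 22000) (len := 1000) h22 tr2x_22
  have h24 : ∀ u < 24000, (fun u => chkTree tab (lidx 2) (lpar 2) (lgi 2) 2 [0, 1, 2, 3, 4, 5, 6, 7] u) u = true := ext_range (a := 23000) (len := 1000) h23 tr2x_23
  have h25 : ∀ u < 25000, (fun u => chkTree tab (lidx 2) (lpar 2) (lgi 2) 2 [0, 1, 2, 3, 4, 5, 6, 7] u) u = true := ext_range (a := 24000) (len := 1000) h24 tr2x_24
  have h26 : ∀ u < 26000, (fun u => chkTree tab (lidx 2) (lpar 2) (lgi 2) 2 [0, 1, 2, 3, 4, 5, 6, 7] u) u = true := ext_range (a := 25000) (len := 1000) h25 tr2x_25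
  have h27 : ∀ u < 27000, (fun u => chkTree tab (lidx 2) (lpar 2) (lgi 2) 2 [0, 1, 2, 3, 4, 5, 6, 7] u) u = true := ext_range (a := 26000) (len := 1000) h26 tr2x_26
  have h28 : ∀ u < 28000, (fun u => chkTree tab (lidx 2) (lpar 2) (lgi 2) 2 [0, 1, 2, 3, 4, 5, 6, 7] u) u = true := ext_range (a := 27000) (len := 1000) h27 tr2x_27
  have h29 : ∀ u < 28431, (fun u => chkTree tab (lidx 2) (lpar 2) (lgi 2) 2 [0, 1, 2, 3, 4, 5, 6, 7] u) u = true := ext_range (a := 28000) (len := 431) h28 tr2x_28
  exact h29

theorem hT3 : ∀ u < 28431, chkTree tab (lidx 3) (lpar 3) (lgi 3) 3 [0, 1, 2, 3, 4, 6, 7] u = true := by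
  have h0 : ∀ u < 0, (fun u => chkTree tab (lidx 3) (lpar 3) (lgi 3) 3 [0, 1, 2, 3, 4, 6, 7] u) u = true := range_zero
  have h1 : ∀ u < 1000, (fun u => chkTree tab (lidx 3) (lpar 3) (lgi 3) 3 [0, 1, 2, 3, 4, 6, 7] u) u = true := ext_range (a := 0) (len := 1000) h0 tr3x_0
  have h2 : ∀ u < 2000, (fun u => chkTree tab (lidx 3) (lpar 3) (lgi 3) 3 [0, 1, 2, 3, 4, 6, 7] u) u = true := ext_range (a := 1000) (len := 1000) h1 tr3x_1
  have h3 : ∀ u < 3000, (fun u => chkTree tab (lidx 3) (lpar 3) (lgi 3) 3 [0, 1, 2, 3, 4, 6, 7] u) u = true := ext_range (a := 2000) (len := 1000) h2 tr3x_2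
  have h4 : ∀ u < 4000, (fun u => chkTree tab (lidx 3) (lpar 3) (lgi 3) 3 [0, 1, 2, 3, 4, 6, 7] u) u = true := ext_range (a := 3000) (len := 1000) h3 tr3x_3
  have h5 : ∀ u < 5000, (fun u => chkTree tab (lidx 3) (lpar 3) (lgi 3) 3 [0, 1, 2, 3, 4, 6, 7] u) u = true := ext_range (a := 4000) (len := 1000) h4 tr3x_4
  have h6 : ∀ u < 6000, (fun u => chkTree tab (lidx 3) (lpar 3) (lgi 3) 3 [0, 1, 2, 3, 4, 6, 7] u) u = true := ext_range (a := 5000) (len := 1000) h5 tr3x_5
  have h7 : ∀ u < 7000, (fun u => chkTree tab (lidx 3) (lpar 3) (lgi 3) 3 [0, 1, 2, 3, 4, 6, 7] u) u = true := ext_range (a := 6000) (len := 1000) h6 tr3x_6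
  have h8 : ∀ u < 8000, (fun u => chkTree tab (lidx 3) (lpar 3) (lgi 3) 3 [0, 1, 2, 3, 4, 6, 7] u) u = true := ext_range (a := 7000) (len := 1000) h7 tr3x_7
  have h9 : ∀ u < 9000, (fun u => chkTree tab (lidx 3) (lpar 3) (lgi 3) 3 [0, 1, 2, 3, 4, 6, 7] u) u = true := ext_range (a := 8000) (len := 1000) h8 tr3x_8
  have h10 : ∀ u < 10000, (fun u => chkTree tab (lidx 3) (lpar 3) (lgi 3) 3 [0, 1, 2, 3, 4, 6, 7] u) u = true := ext_range (a := 9000) (len := 1000) h9 tr3x_9
  have h11 : ∀ u < 11000, (fun u => chkTree tab (lidx 3) (lpar 3) (lgi 3) 3 [0, 1, 2, 3, 4, 6, 7] u) u = true := ext_range (a := 10000) (len := 1000) h10 tr3x_10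
  have h12 : ∀ u < 12000, (fun u => chkTree tab (lidx 3) (lpar 3) (lgi 3) 3 [0, 1, 2, 3, 4, 6, 7] u) u = true := ext_range (a := 11000) (len := 1000) h11 tr3x_11
  have h13 : ∀ u < 13000, (fun u => chkTree tab (lidx 3) (lpar 3) (lgi 3) 3 [0, 1, 2, 3, 4, 6, 7] u) u = true := ext_range (a := 12000) (len := 1000) h12 tr3x_12
  have h14 : ∀ u < 14000, (fun u => chkTree tab (lidx 3) (lpar 3) (lgi 3) 3 [0, 1, 2, 3, 4, 6, 7] u) u = true := ext_range (a := 13000) (len := 1000) h13 tr3x_13
  have h15 : ∀ u < 15000, (fun u => chkTree tab (lidx 3) (lpar 3) (lgi 3) 3 [0, 1, 2, 3, 4, 6, 7] u) u = true := ext_range (a := 14000) (len := 1000) h14 tr3x_14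
  have h16 : ∀ u < 16000, (fun u => chkTree tab (lidx 3) (lpar 3) (lgi 3) 3 [0, 1, 2, 3, 4, 6, 7] u) u = true := ext_range (a := 15000) (len := 1000) h15 tr3x_15
  have h17 : ∀ u < 17000, (fun u => chkTree tab (lidx 3) (lpar 3) (lgi 3) 3 [0, 1, 2, 3, 4, 6, 7] u) u = true := ext_range (a := 16000) (len := 1000) h16 tr3x_16
  have h18 : ∀ u < 18000, (fun u => chkTree tab (lidx 3) (lpar 3) (lgi 3) 3 [0, 1, 2, 3, 4, 6, 7] u) u = true := ext_range (a := 17000) (len := 1000) h17 tr3x_17
  have h19 : ∀ u < 19000, (fun u => chkTree tab (lidx 3) (lpar 3) (lgi 3) 3 [0, 1, 2, 3, 4, 6, 7] u) u = true := ext_range (a := 18000) (len := 1000) h18 tr3x_18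
  have h20 : ∀ u < 20000, (fun u => chkTree tab (lidx 3) (lpar 3) (lgi 3) 3 [0, 1, 2, 3, 4, 6, 7] u) u = true := ext_range (a := 19000) (len := 1000) h19 tr3x_19
  have h21 : ∀ u < 21000, (fun u => chkTree tab (lidx 3) (lpar 3) (lgi 3) 3 [0, 1, 2, 3, 4, 6, 7] u) u = true := ext_range (a := 20000) (len := 1000) h20 tr3x_20
  have h22 : ∀ u < 22000, (fun u => chkTree tab (lidx 3) (lpar 3) (lgi 3) 3 [0, 1, 2, 3, 4, 6, 7] u) u = true := ext_range (a := 21000) (len := 1000) h21 tr3x_21
  have h23 : ∀ u < 23000, (fun u => chkTree tab (lidx 3) (lpar 3) (lgi 3) 3 [0, 1, 2, 3, 4, 6, 7] u) u = true := ext_range (a := 22000) (len := 1000) h22 tr3x_22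
  have h24 : ∀ u < 24000, (fun u => chkTree tab (lidx 3) (lpar 3) (lgi 3) 3 [0, 1, 2, 3, 4, 6, 7] u) u = true := ext_range (a := 23000) (len := 1000) h23 tr3x_23
  have h25 : ∀ u < 25000, (fun u => chkTree tab (lidx 3) (lpar 3) (lgi 3) 3 [0, 1, 2, 3, 4, 6, 7] u) u = true := ext_range (a := 24000) (len := 1000) h24 tr3x_24
  have h26 : ∀ u < 26000, (fun u => chkTree tab (lidx 3) (lpar 3) (lgi 3) 3 [0, 1, 2, 3, 4, 6, 7] u) u = true := ext_range (a := 25000) (len := 1000) h25 tr3x_25
  have h27 : ∀ u < 27000, (fun u => chkTree tab (lidx 3) (lpar 3) (lgi 3) 3 [0, 1, 2, 3, 4, 6, 7] u) u = true := ext_range (a := 26000) (len := 1000) h26 tr3x_26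
  have h28 : ∀ u < 28000, (fun u => chkTree tab (lidx 3) (lpar 3) (lgi 3) 3 [0, 1, 2, 3, 4, 6, 7] u) u = true := ext_range (a := 27000) (len := 1000) h27 tr3x_27
  have h29 : ∀ u < 28431, (fun u => chkTree tab (lidx 3) (lpar 3) (lgi 3) 3 [0, 1, 2, 3, 4, 6, 7] u) u = true := ext_range (a := 28000) (len := 431) h28 tr3x_28
  exact h29

theorem hT4 : ∀ u < 28431, chkTree tab (lidx 4) (lpar 4) (lgi 4) 4 [0, 1, 2, 3] u = true := by
  have h0 : ∀ u < 0, (fun u => chkTree tab (lidx 4) (lpar 4) (lgi 4) 4 [0, 1, 2, 3] u) u = true := range_zero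
  have h1 : ∀ u < 1000, (fun u => chkTree tab (lidx 4) (lpar 4) (lgi 4) 4 [0, 1, 2, 3] u) u = true := ext_range (a := 0) (len := 1000) h0 tr4x_0
  have h2 : ∀ u < 2000, (fun u => chkTree tab (lidx 4) (lpar 4) (lgi 4) 4 [0, 1, 2, 3] u) u = true := ext_range (a := 1000) (len := 1000) h1 tr4x_1
  have h3 : ∀ u < 3000, (fun u => chkTree tab (lidx 4) (lpar 4) (lgi 4) 4 [0, 1, 2, 3] u) u = true := ext_range (a := 2000) (len := 1000) h2 tr4x_2
  have h4 : ∀ u < 4000, (fun u => chkTree tab (lidx 4) (lpar 4) (lgi 4) 4 [0, 1, 2, 3] u) u = true := ext_range (a := 3000) (len := 1000) h3 tr4x_3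
  have h5 : ∀ u < 5000, (fun u => chkTree tab (lidx 4) (lpar 4) (lgi 4) 4 [0, 1, 2, 3] u) u = true := ext_range (a := 4000) (len := 1000) h4 tr4x_4
  have h6 : ∀ u < 6000, (fun u => chkTree tab (lidx 4) (lpar 4) (lgi 4) 4 [0, 1, 2, 3] u) u = true := ext_range (a := 5000) (len := 1000) h5 tr4x_5
  have h7 : ∀ u < 7000, (fun u => chkTree tab (lidx 4) (lpar 4) (lgi 4) 4 [0, 1, 2, 3] u) u = true := ext_range (a := 6000) (len := 1000) h6 tr4x_6
  have h8 : ∀ u < 8000, (fun u => chkTree tab (lidx 4) (lpar 4) (lgi 4) 4 [0, 1, 2, 3] u) u = true := ext_range (a := 7000) (len := 1000) h7 tr4x_7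
  have h9 : ∀ u < 9000, (fun u => chkTree tab (lidx 4) (lpar 4) (lgi 4) 4 [0, 1, 2, 3] u) u = true := ext_range (a := 8000) (len := 1000) h8 tr4x_8
  have h10 : ∀ u < 10000, (fun u => chkTree tab (lidx 4) (lpar 4) (lgi 4) 4 [0, 1, 2, 3] u) u = true := ext_range (a := 9000) (len := 1000) h9 tr4x_9
  have h11 : ∀ u < 11000, (fun u => chkTree tab (lidx 4) (lpar 4) (lgi 4) 4 [0, 1, 2, 3] u) u = true := ext_range (a := 10000) (len := 1000) h10 tr4x_10
  have h12 : ∀ u < 12000, (fun u => chkTree tab (lidx 4) (lpar 4) (lgi 4) 4 [0, 1, 2, 3] u) u = true := ext_range (a := 11000) (len := 1000) h11 tr4x_11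
  have h13 : ∀ u < 13000, (fun u => chkTree tab (lidx 4) (lpar 4) (lgi 4) 4 [0, 1, 2, 3] u) u = true := ext_range (a := 12000) (len := 1000) h12 tr4x_12
  have h14 : ∀ u < 14000, (fun u => chkTree tab (lidx 4) (lpar 4) (lgi 4) 4 [0, 1, 2, 3] u) u = true := ext_range (a := 13000) (len := 1000) h13 tr4x_13
  have h15 : ∀ u < 15000, (fun u => chkTree tab (lidx 4) (lpar 4) (lgi 4) 4 [0, 1, 2, 3] u) u = true := ext_range (a := 14000) (len := 1000) h14 tr4x_14
  have h16 : ∀ u < 16000, (fun u => chkTree tab (lidx 4) (lpar 4) (lgi 4) 4 [0, 1, 2, 3] u) u = true := ext_range (a := 15000) (len := 1000) h15 tr4x_15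
  have h17 : ∀ u < 17000, (fun u => chkTree tab (lidx 4) (lpar 4) (lgi 4) 4 [0, 1, 2, 3] u) u = true := ext_range (a := 16000) (len := 1000) h16 tr4x_16
  have h18 : ∀ u < 18000, (fun u => chkTree tab (lidx 4) (lpar 4) (lgi 4) 4 [0, 1, 2, 3] u) u = true := ext_range (a := 17000) (len := 1000) h17 tr4x_17
  have h19 : ∀ u < 19000, (fun u => chkTree tab (lidx 4) (lpar 4) (lgi 4) 4 [0, 1, 2, 3] u) u = true := ext_range (a := 18000) (len := 1000) h18 tr4x_18
  have h20 : ∀ u < 20000, (fun u => chkTree tab (lidx 4) (lpar 4) (lgi 4) 4 [0, 1, 2, 3] u) u = true := ext_range (a := 19000) (len := 1000) h19 tr4x_19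
  have h21 : ∀ u < 21000, (fun u => chkTree tab (lidx 4) (lpar 4) (lgi 4) 4 [0, 1, 2, 3] u) u = true := ext_range (a := 20000) (len := 1000) h20 tr4x_20
  have h22 : ∀ u < 22000, (fun u => chkTree tab (lidx 4) (lpar 4) (lgi 4) 4 [0, 1, 2, 3] u) u = true := ext_range (a := 21000) (len := 1000) h21 tr4x_21
  have h23 : ∀ u < 23000, (fun u => chkTree tab (lidx 4) (lpar 4) (lgi 4) 4 [0, 1, 2, 3] u) u = true := ext_range (a := 22000) (len := 1000) h22 tr4x_22
  have h24 : ∀ u < 24000, (fun u => chkTree tab (lidx 4) (lpar 4) (lgi 4) 4 [0, 1, 2, 3] u) u = true := ext_range (a := 23000) (len := 1000) h23 tr4x_23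
  have h25 : ∀ u < 25000, (fun u => chkTree tab (lidx 4) (lpar 4) (lgi 4) 4 [0, 1, 2, 3] u) u = true := ext_range (a := 24000) (len := 1000) h24 tr4x_24
  have h26 : ∀ u < 26000, (fun u => chkTree tab (lidx 4) (lpar 4) (lgi 4) 4 [0, 1, 2, 3] u) u = true := ext_range (a := 25000) (len := 1000) h25 tr4x_25
  have h27 : ∀ u < 27000, (fun u => chkTree tab (lidx 4) (lpar 4) (lgi 4) 4 [0, 1, 2, 3] u) u = true := ext_range (a := 26000) (len := 1000) h26 tr4x_26
  have h28 : ∀ u < 28000, (fun u => chkTree tab (lidx 4) (lpar 4) (lgi 4) 4 [0, 1, 2, 3] u) u = true := ext_range (a := 27000) (len := 1000) h27 tr4x_27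
  have h29 : ∀ u < 28431, (fun u => chkTree tab (lidx 4) (lpar 4) (lgi 4) 4 [0, 1, 2, 3] u) u = true := ext_range (a := 28000) (len := 431) h28 tr4x_28
  exact h29

theorem hT5 : ∀ u < 28431, chkTree tab (lidx 5) (lpar 5) (lgi 5) 5 [7] u = true := by
  have h0 : ∀ u < 0, (fun u => chkTree tab (lidx 5) (lpar 5) (lgi 5) 5 [7] u) u = true := range_zero
  have h1 : ∀ u < 1000, (fun u => chkTree tab (lidx 5) (lpar 5) (lgi 5) 5 [7] u) u = true := ext_range (a := 0) (len := 1000) h0 tr5x_0
  have h2 : ∀ u < 2000, (fun u => chkTree tab (lidx 5) (lpar 5) (lgi 5) 5 [7] u) u = true := ext_range (a := 1000) (len := 1000) h1 tr5x_1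
  have h3 : ∀ u < 3000, (fun u => chkTree tab (lidx 5) (lpar 5) (lgi 5) 5 [7] u) u = true := ext_range (a := 2000) (len := 1000) h2 tr5x_2
  have h4 : ∀ u < 4000, (fun u => chkTree tab (lidx 5) (lpar 5) (lgi 5) 5 [7] u) u = true := ext_range (a := 3000) (len := 1000) h3 tr5x_3
  have h5 : ∀ u < 5000, (fun u => chkTree tab (lidx 5) (lpar 5) (lgi 5) 5 [7] u) u = true := ext_range (a := 4000) (len := 1000) h4 tr5x_4
  have h6 : ∀ u < 6000, (fun u => chkTree tab (lidx 5) (lpar 5) (lgi 5) 5 [7] u) u = true := ext_range (a := 5000) (len := 1000) h5 tr5x_5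
  have h7 : ∀ u < 7000, (fun u => chkTree tab (lidx 5) (lpar 5) (lgi 5) 5 [7] u) u = true := ext_range (a := 6000) (len := 1000) h6 tr5x_6
  have h8 : ∀ u < 8000, (fun u => chkTree tab (lidx 5) (lpar 5) (lgi 5) 5 [7] u) u = true := ext_range (a := 7000) (len := 1000) h7 tr5x_7
  have h9 : ∀ u < 9000, (fun u => chkTree tab (lidx 5) (lpar 5) (lgi 5) 5 [7] u) u = true := ext_range (a := 8000) (len := 1000) h8 tr5x_8
  have h10 : ∀ u < 10000, (fun u => chkTree tab (lidx 5) (lpar 5) (lgi 5) 5 [7] u) u = true := ext_range (a := 9000) (len := 1000) h9 tr5x_9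
  have h11 : ∀ u < 11000, (fun u => chkTree tab (lidx 5) (lpar 5) (lgi 5) 5 [7] u) u = true := ext_range (a := 10000) (len := 1000) h10 tr5x_10
  have h12 : ∀ u < 12000, (fun u => chkTree tab (lidx 5) (lpar 5) (lgi 5) 5 [7] u) u = true := ext_range (a := 11000) (len := 1000) h11 tr5x_11
  have h13 : ∀ u < 13000, (fun u => chkTree tab (lidx 5) (lpar 5) (lgi 5) 5 [7] u) u = true := ext_range (a := 12000) (len := 1000) h12 tr5x_12
  have h14 : ∀ u < 14000, (fun u => chkTree tab (lidx 5) (lpar 5) (lgi 5) 5 [7] u) u = true := ext_range (a := 13000) (len := 1000) h13 tr5x_13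
  have h15 : ∀ u < 15000, (fun u => chkTree tab (lidx 5) (lpar 5) (lgi 5) 5 [7] u) u = true := ext_range (a := 14000) (len := 1000) h14 tr5x_14
  have h16 : ∀ u < 16000, (fun u => chkTree tab (lidx 5) (lpar 5) (lgi 5) 5 [7] u) u = true := ext_range (a := 15000) (len := 1000) h15 tr5x_15
  have h17 : ∀ u < 17000, (fun u => chkTree tab (lidx 5) (lpar 5) (lgi 5) 5 [7] u) u = true := ext_range (a := 16000) (len := 1000) h16 tr5x_16
  have h18 : ∀ u < 18000, (fun u => chkTree tab (lidx 5) (lpar 5) (lgi 5) 5 [7] u) u = true := ext_range (a := 17000) (len := 1000) h17 tr5x_17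
  have h19 : ∀ u < 19000, (fun u => chkTree tab (lidx 5) (lpar 5) (lgi 5) 5 [7] u) u = true := ext_range (a := 18000) (len := 1000) h18 tr5x_18
  have h20 : ∀ u < 20000, (fun u => chkTree tab (lidx 5) (lpar 5) (lgi 5) 5 [7] u) u = true := ext_range (a := 19000) (len := 1000) h19 tr5x_19
  have h21 : ∀ u < 21000, (fun u => chkTree tab (lidx 5) (lpar 5) (lgi 5) 5 [7] u) u = true := ext_range (a := 20000) (len := 1000) h20 tr5x_20
  have h22 : ∀ u < 22000, (fun u => chkTree tab (lidx 5) (lpar 5) (lgi 5) 5 [7] u) u = true := ext_range (a := 21000) (len := 1000) h21 tr5x_21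
  have h23 : ∀ u < 23000, (fun u => chkTree tab (lidx 5) (lpar 5) (lgi 5) 5 [7] u) u = true := ext_range (a := 22000) (len := 1000) h22 tr5x_22
  have h24 : ∀ u < 24000, (fun u => chkTree tab (lidx 5) (lpar 5) (lgi 5) 5 [7] u) u = true := ext_range (a := 23000) (len := 1000) h23 tr5x_23
  have h25 : ∀ u < 25000, (fun u => chkTree tab (lidx 5) (lpar 5) (lgi 5) 5 [7] u) u = true := ext_range (a := 24000) (len := 1000) h24 tr5x_24
  have h26 : ∀ u < 26000, (fun u => chkTree tab (lidx 5) (lpar 5) (lgi 5) 5 [7] u) u = true := ext_range (a := 25000) (len := 1000) h25 tr5x_25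
  have h27 : ∀ u < 27000, (fun u => chkTree tab (lidx 5) (lpar 5) (lgi 5) 5 [7] u) u = true := ext_range (a := 26000) (len := 1000) h26 tr5x_26
  have h28 : ∀ u < 28000, (fun u => chkTree tab (lidx 5) (lpar 5) (lgi 5) 5 [7] u) u = true := ext_range (a := 27000) (len := 1000) h27 tr5x_27
  have h29 : ∀ u < 28431, (fun u => chkTree tab (lidx 5) (lpar 5) (lgi 5) 5 [7] u) u = true := ext_range (a := 28000) (len := 431) h28 tr5x_28
  exact h29

theorem hT6 : ∀ u < 28431, chkTree tab (lidx 6) (lpar 6) (lgi 6) 6 [0, 1, 2] u = true := by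
  have h0 : ∀ u < 0, (fun u => chkTree tab (lidx 6) (lpar 6) (lgi 6) 6 [0, 1, 2] u) u = true := range_zero
  have h1 : ∀ u < 1000, (fun u => chkTree tab (lidx 6) (lpar 6) (lgi 6) 6 [0, 1, 2] u) u = true := ext_range (a := 0) (len := 1000) h0 tr6x_0
  have h2 : ∀ u < 2000, (fun u => chkTree tab (lidx 6) (lpar 6) (lgi 6) 6 [0, 1, 2] u) u = true := ext_range (a := 1000) (len := 1000) h1 tr6x_1
  have h3 : ∀ u < 3000, (fun u => chkTree tab (lidx 6) (lpar 6) (lgi 6) 6 [0, 1, 2] u) u = true := ext_range (a := 2000) (len := 1000) h2 tr6x_2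
  have h4 : ∀ u < 4000, (fun u => chkTree tab (lidx 6) (lpar 6) (lgi 6) 6 [0, 1, 2] u) u = true := ext_range (a := 3000) (len := 1000) h3 tr6x_3
  have h5 : ∀ u < 5000, (fun u => chkTree tab (lidx 6) (lpar 6) (lgi 6) 6 [0, 1, 2] u) u = true := ext_range (a := 4000) (len := 1000) h4 tr6x_4
  have h6 : ∀ u < 6000, (fun u => chkTree tab (lidx 6) (lpar 6) (lgi 6) 6 [0, 1, 2] u) u = true := ext_range (a := 5000) (len := 1000) h5 tr6x_5
  have h7 : ∀ u < 7000, (fun u => chkTree tab (lidx 6) (lpar 6) (lgi 6) 6 [0, 1, 2] u) u = true := ext_range (a := 6000) (len := 1000) h6 tr6x_6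
  have h8 : ∀ u < 8000, (fun u => chkTree tab (lidx 6) (lpar 6) (lgi 6) 6 [0, 1, 2] u) u = true := ext_range (a := 7000) (len := 1000) h7 tr6x_7
  have h9 : ∀ u < 9000, (fun u => chkTree tab (lidx 6) (lpar 6) (lgi 6) 6 [0, 1, 2] u) u = true := ext_range (a := 8000) (len := 1000) h8 tr6x_8
  have h10 : ∀ u < 10000, (fun u => chkTree tab (lidx 6) (lpar 6) (lgi 6) 6 [0, 1, 2] u) u = true := ext_range (a := 9000) (len := 1000) h9 tr6x_9
  have h11 : ∀ u < 11000, (fun u => chkTree tab (lidx 6) (lpar 6) (lgi 6) 6 [0, 1, 2] u) u = true := ext_range (a := 10000) (len := 1000) h10 tr6x_10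
  have h12 : ∀ u < 12000, (fun u => chkTree tab (lidx 6) (lpar 6) (lgi 6) 6 [0, 1, 2] u) u = true := ext_range (a := 11000) (len := 1000) h11 tr6x_11
  have h13 : ∀ u < 13000, (fun u => chkTree tab (lidx 6) (lpar 6) (lgi 6) 6 [0, 1, 2] u) u = true := ext_range (a := 12000) (len := 1000) h12 tr6x_12
  have h14 : ∀ u < 14000, (fun u => chkTree tab (lidx 6) (lpar 6) (lgi 6) 6 [0, 1, 2] u) u = true := ext_range (a := 13000) (len := 1000) h13 tr6x_13
  have h15 : ∀ u < 15000, (fun u => chkTree tab (lidx 6) (lpar 6) (lgi 6) 6 [0, 1, 2] u) u = true := ext_range (a := 14000) (len := 1000) h14 tr6x_14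
  have h16 : ∀ u < 16000, (fun u => chkTree tab (lidx 6) (lpar 6) (lgi 6) 6 [0, 1, 2] u) u = true := ext_range (a := 15000) (len := 1000) h15 tr6x_15
  have h17 : ∀ u < 17000, (fun u => chkTree tab (lidx 6) (lpar 6) (lgi 6) 6 [0, 1, 2] u) u = true := ext_range (a := 16000) (len := 1000) h16 tr6x_16
  have h18 : ∀ u < 18000, (fun u => chkTree tab (lidx 6) (lpar 6) (lgi 6) 6 [0, 1, 2] u) u = true := ext_range (a := 17000) (len := 1000) h17 tr6x_17
  have h19 : ∀ u < 19000, (fun u => chkTree tab (lidx 6) (lpar 6) (lgi 6) 6 [0, 1, 2] u) u = true := ext_range (a := 18000) (len := 1000) h18 tr6x_18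
  have h20 : ∀ u < 20000, (fun u => chkTree tab (lidx 6) (lpar 6) (lgi 6) 6 [0, 1, 2] u) u = true := ext_range (a := 19000) (len := 1000) h19 tr6x_19
  have h21 : ∀ u < 21000, (fun u => chkTree tab (lidx 6) (lpar 6) (lgi 6) 6 [0, 1, 2] u) u = true := ext_range (a := 20000) (len := 1000) h20 tr6x_20
  have h22 : ∀ u < 22000, (fun u => chkTree tab (lidx 6) (lpar 6) (lgi 6) 6 [0, 1, 2] u) u = true := ext_range (a := 21000) (len := 1000) h21 tr6x_21
  have h23 : ∀ u < 23000, (fun u => chkTree tab (lidx 6) (lpar 6) (lgi 6) 6 [0, 1, 2] u) u = true := ext_range (a := 22000) (len := 1000) h22 tr6x_22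
  have h24 : ∀ u < 24000, (fun u => chkTree tab (lidx 6) (lpar 6) (lgi 6) 6 [0, 1, 2] u) u = true := ext_range (a := 23000) (len := 1000) h23 tr6x_23
  have h25 : ∀ u < 25000, (fun u => chkTree tab (lidx 6) (lpar 6) (lgi 6) 6 [0, 1, 2] u) u = true := ext_range (a := 24000) (len := 1000) h24 tr6x_24
  have h26 : ∀ u < 26000, (fun u => chkTree tab (lidx 6) (lpar 6) (lgi 6) 6 [0, 1, 2] u) u = true := ext_range (a := 25000) (len := 1000) h25 tr6x_25
  have h27 : ∀ u < 27000, (fun u => chkTree tab (lidx 6) (lpar 6) (lgi 6) 6 [0, 1, 2] u) u = true := ext_range (a := 26000) (len := 1000) h26 tr6x_26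
  have h28 : ∀ u < 28000, (fun u => chkTree tab (lidx 6) (lpar 6) (lgi 6) 6 [0, 1, 2] u) u = true := ext_range (a := 27000) (len := 1000) h27 tr6x_27
  have h29 : ∀ u < 28431, (fun u => chkTree tab (lidx 6) (lpar 6) (lgi 6) 6 [0, 1, 2] u) u = true := ext_range (a := 28000) (len := 431) h28 tr6x_28
  exact h29

theorem hT7 : ∀ u < 28431, chkTree tab (lidx 7) (lpar 7) (lgi 7) 9 [0, 1] u = true := by
  have h0 : ∀ u < 0, (fun u => chkTree tab (lidx 7) (lpar 7) (lgi 7) 9 [0, 1] u) u = true := range_zero
  have h1 : ∀ u < 1000, (fun u => chkTree tab (lidx 7) (lpar 7) (lgi 7) 9 [0, 1] u) u = true := ext_range (a := 0) (len := 1000) h0 tr7x_0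
  have h2 : ∀ u < 2000, (fun u => chkTree tab (lidx 7) (lpar 7) (lgi 7) 9 [0, 1] u) u = true := ext_range (a := 1000) (len := 1000) h1 tr7x_1
  have h3 : ∀ u < 3000, (fun u => chkTree tab (lidx 7) (lpar 7) (lgi 7) 9 [0, 1] u) u = true := ext_range (a := 2000) (len := 1000) h2 tr7x_2
  have h4 : ∀ u < 4000, (fun u => chkTree tab (lidx 7) (lpar 7) (lgi 7) 9 [0, 1] u) u = true := ext_range (a := 3000) (len := 1000) h3 tr7x_3
  have h5 : ∀ u < 5000, (fun u => chkTree tab (lidx 7) (lpar 7) (lgi 7) 9 [0, 1] u) u = true := ext_range (a := 4000) (len := 1000) h4 tr7x_4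
  have h6 : ∀ u < 6000, (fun u => chkTree tab (lidx 7) (lpar 7) (lgi 7) 9 [0, 1] u) u = true := ext_range (a := 5000) (len := 1000) h5 tr7x_5
  have h7 : ∀ u < 7000, (fun u => chkTree tab (lidx 7) (lpar 7) (lgi 7) 9 [0, 1] u) u = true := ext_range (a := 6000) (len := 1000) h6 tr7x_6
  have h8 : ∀ u < 8000, (fun u => chkTree tab (lidx 7) (lpar 7) (lgi 7) 9 [0, 1] u) u = true := ext_range (a := 7000) (len := 1000) h7 tr7x_7
  have h9 : ∀ u < 9000, (fun u => chkTree tab (lidx 7) (lpar 7) (lgi 7) 9 [0, 1] u) u = true := ext_range (a := 8000) (len := 1000) h8 tr7x_8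
  have h10 : ∀ u < 10000, (fun u => chkTree tab (lidx 7) (lpar 7) (lgi 7) 9 [0, 1] u) u = true := ext_range (a := 9000) (len := 1000) h9 tr7x_9
  have h11 : ∀ u < 11000, (fun u => chkTree tab (lidx 7) (lpar 7) (lgi 7) 9 [0, 1] u) u = true := ext_range (a := 10000) (len := 1000) h10 tr7x_10
  have h12 : ∀ u < 12000, (fun u => chkTree tab (lidx 7) (lpar 7) (lgi 7) 9 [0, 1] u) u = true := ext_range (a := 11000) (len := 1000) h11 tr7x_11
  have h13 : ∀ u < 13000, (fun u => chkTree tab (lidx 7) (lpar 7) (lgi 7) 9 [0, 1] u) u = true := ext_range (a := 12000) (len := 1000) h12 tr7x_12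
  have h14 : ∀ u < 14000, (fun u => chkTree tab (lidx 7) (lpar 7) (lgi 7) 9 [0, 1] u) u = true := ext_range (a := 13000) (len := 1000) h13 tr7x_13
  have h15 : ∀ u < 15000, (fun u => chkTree tab (lidx 7) (lpar 7) (lgi 7) 9 [0, 1] u) u = true := ext_range (a := 14000) (len := 1000) h14 tr7x_14
  have h16 : ∀ u < 16000, (fun u => chkTree tab (lidx 7) (lpar 7) (lgi 7) 9 [0, 1] u) u = true := ext_range (a := 15000) (len := 1000) h15 tr7x_15
  have h17 : ∀ u < 17000, (fun u => chkTree tab (lidx 7) (lpar 7) (lgi 7) 9 [0, 1] u) u = true := ext_range (a := 16000) (len := 1000) h16 tr7x_16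
  have h18 : ∀ u < 18000, (fun u => chkTree tab (lidx 7) (lpar 7) (lgi 7) 9 [0, 1] u) u = true := ext_range (a := 17000) (len := 1000) h17 tr7x_17
  have h19 : ∀ u < 19000, (fun u => chkTree tab (lidx 7) (lpar 7) (lgi 7) 9 [0, 1] u) u = true := ext_range (a := 18000) (len := 1000) h18 tr7x_18
  have h20 : ∀ u < 20000, (fun u => chkTree tab (lidx 7) (lpar 7) (lgi 7) 9 [0, 1] u) u = true := ext_range (a := 19000) (len := 1000) h19 tr7x_19
  have h21 : ∀ u < 21000, (fun u => chkTree tab (lidx 7) (lpar 7) (lgi 7) 9 [0, 1] u) u = true := ext_range (a := 20000) (len := 1000) h20 tr7x_20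
  have h22 : ∀ u < 22000, (fun u => chkTree tab (lidx 7) (lpar 7) (lgi 7) 9 [0, 1] u) u = true := ext_range (a := 21000) (len := 1000) h21 tr7x_21
  have h23 : ∀ u < 23000, (fun u => chkTree tab (lidx 7) (lpar 7) (lgi 7) 9 [0, 1] u) u = true := ext_range (a := 22000) (len := 1000) h22 tr7x_22
  have h24 : ∀ u < 24000, (fun u => chkTree tab (lidx 7) (lpar 7) (lgi 7) 9 [0, 1] u) u = true := ext_range (a := 23000) (len := 1000) h23 tr7x_23
  have h25 : ∀ u < 25000, (fun u => chkTree tab (lidx 7) (lpar 7) (lgi 7) 9 [0, 1] u) u = true := ext_range (a := 24000) (len := 1000) h24 tr7x_24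
  have h26 : ∀ u < 26000, (fun u => chkTree tab (lidx 7) (lpar 7) (lgi 7) 9 [0, 1] u) u = true := ext_range (a := 25000) (len := 1000) h25 tr7x_25
  have h27 : ∀ u < 27000, (fun u => chkTree tab (lidx 7) (lpar 7) (lgi 7) 9 [0, 1] u) u = true := ext_range (a := 26000) (len := 1000) h26 tr7x_26
  have h28 : ∀ u < 28000, (fun u => chkTree tab (lidx 7) (lpar 7) (lgi 7) 9 [0, 1] u) u = true := ext_range (a := 27000) (len := 1000) h27 tr7x_27
  have h29 : ∀ u < 28431, (fun u => chkTree tab (lidx 7) (lpar 7) (lgi 7) 9 [0, 1] u) u = true := ext_range (a := 28000) (len := 431) h28 tr7x_28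
  exact h29

theorem hT8 : ∀ u < 28431, chkTree tab (lidx 8) (lpar 8) (lgi 8) 13 [0] u = true := by
  have h0 : ∀ u < 0, (fun u => chkTree tab (lidx 8) (lpar 8) (lgi 8) 13 [0] u) u = true := range_zero
  have h1 : ∀ u < 1000, (fun u => chkTree tab (lidx 8) (lpar 8) (lgi 8) 13 [0] u) u = true := ext_range (a := 0) (len := 1000) h0 tr8x_0
  have h2 : ∀ u < 2000, (fun u => chkTree tab (lidx 8) (lpar 8) (lgi 8) 13 [0] u) u = true := ext_range (a := 1000) (len := 1000) h1 tr8x_1
  have h3 : ∀ u < 3000, (fun u => chkTree tab (lidx 8) (lpar 8) (lgi 8) 13 [0] u) u = true := ext_range (a := 2000) (len := 1000) h2 tr8x_2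
  have h4 : ∀ u < 4000, (fun u => chkTree tab (lidx 8) (lpar 8) (lgi 8) 13 [0] u) u = true := ext_range (a := 3000) (len := 1000) h3 tr8x_3
  have h5 : ∀ u < 5000, (fun u => chkTree tab (lidx 8) (lpar 8) (lgi 8) 13 [0] u) u = true := ext_range (a := 4000) (len := 1000) h4 tr8x_4
  have h6 : ∀ u < 6000, (fun u => chkTree tab (lidx 8) (lpar 8) (lgi 8) 13 [0] u) u = true := ext_range (a := 5000) (len := 1000) h5 tr8x_5
  have h7 : ∀ u < 7000, (fun u => chkTree tab (lidx 8) (lpar 8) (lgi 8) 13 [0] u) u = true := ext_range (a := 6000) (len := 1000) h6 tr8x_6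
  have h8 : ∀ u < 8000, (fun u => chkTree tab (lidx 8) (lpar 8) (lgi 8) 13 [0] u) u = true := ext_range (a := 7000) (len := 1000) h7 tr8x_7
  have h9 : ∀ u < 9000, (fun u => chkTree tab (lidx 8) (lpar 8) (lgi 8) 13 [0] u) u = true := ext_range (a := 8000) (len := 1000) h8 tr8x_8
  have h10 : ∀ u < 10000, (fun u => chkTree tab (lidx 8) (lpar 8) (lgi 8) 13 [0] u) u = true := ext_range (a := 9000) (len := 1000) h9 tr8x_9
  have h11 : ∀ u < 11000, (fun u => chkTree tab (lidx 8) (lpar 8) (lgi 8) 13 [0] u) u = true := ext_range (a := 10000) (len := 1000) h10 tr8x_10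
  have h12 : ∀ u < 12000, (fun u => chkTree tab (lidx 8) (lpar 8) (lgi 8) 13 [0] u) u = true := ext_range (a := 11000) (len := 1000) h11 tr8x_11
  have h13 : ∀ u < 13000, (fun u => chkTree tab (lidx 8) (lpar 8) (lgi 8) 13 [0] u) u = true := ext_range (a := 12000) (len := 1000) h12 tr8x_12
  have h14 : ∀ u < 14000, (fun u => chkTree tab (lidx 8) (lpar 8) (lgi 8) 13 [0] u) u = true := ext_range (a := 13000) (len := 1000) h13 tr8x_13
  have h15 : ∀ u < 15000, (fun u => chkTree tab (lidx 8) (lpar 8) (lgi 8) 13 [0] u) u = true := ext_range (a := 14000) (len := 1000) h14 tr8x_14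
  have h16 : ∀ u < 16000, (fun u => chkTree tab (lidx 8) (lpar 8) (lgi 8) 13 [0] u) u = true := ext_range (a := 15000) (len := 1000) h15 tr8x_15
  have h17 : ∀ u < 17000, (fun u => chkTree tab (lidx 8) (lpar 8) (lgi 8) 13 [0] u) u = true := ext_range (a := 16000) (len := 1000) h16 tr8x_16
  have h18 : ∀ u < 18000, (fun u => chkTree tab (lidx 8) (lpar 8) (lgi 8) 13 [0] u) u = true := ext_range (a := 17000) (len := 1000) h17 tr8x_17
  have h19 : ∀ u < 19000, (fun u => chkTree tab (lidx 8) (lpar 8) (lgi 8) 13 [0] u) u = true := ext_range (a := 18000) (len := 1000) h18 tr8x_18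
  have h20 : ∀ u < 20000, (fun u => chkTree tab (lidx 8) (lpar 8) (lgi 8) 13 [0] u) u = true := ext_range (a := 19000) (len := 1000) h19 tr8x_19
  have h21 : ∀ u < 21000, (fun u => chkTree tab (lidx 8) (lpar 8) (lgi 8) 13 [0] u) u = true := ext_range (a := 20000) (len := 1000) h20 tr8x_20
  have h22 : ∀ u < 22000, (fun u => chkTree tab (lidx 8) (lpar 8) (lgi 8) 13 [0] u) u = true := ext_range (a := 21000) (len := 1000) h21 tr8x_21
  have h23 : ∀ u < 23000, (fun u => chkTree tab (lidx 8) (lpar 8) (lgi 8) 13 [0] u) u = true := ext_range (a := 22000) (len := 1000) h22 tr8x_22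
  have h24 : ∀ u < 24000, (fun u => chkTree tab (lidx 8) (lpar 8) (lgi 8) 13 [0] u) u = true := ext_range (a := 23000) (len := 1000) h23 tr8x_23
  have h25 : ∀ u < 25000, (fun u => chkTree tab (lidx 8) (lpar 8) (lgi 8) 13 [0] u) u = true := ext_range (a := 24000) (len := 1000) h24 tr8x_24
  have h26 : ∀ u < 26000, (fun u => chkTree tab (lidx 8) (lpar 8) (lgi 8) 13 [0] u) u = true := ext_range (a := 25000) (len := 1000) h25 tr8x_25
  have h27 : ∀ u < 27000, (fun u => chkTree tab (lidx 8) (lpar 8) (lgi 8) 13 [0] u) u = true := ext_range (a := 26000) (len := 1000) h26 tr8x_26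
  have h28 : ∀ u < 28000, (fun u => chkTree tab (lidx 8) (lpar 8) (lgi 8) 13 [0] u) u = true := ext_range (a := 27000) (len := 1000) h27 tr8x_27
  have h29 : ∀ u < 28431, (fun u => chkTree tab (lidx 8) (lpar 8) (lgi 8) 13 [0] u) u = true := ext_range (a := 28000) (len := 431) h28 tr8x_28
  exact h29

theorem hE : ∀ c < 10, ∀ u < 44362, chkE tab c u = true := by
  intro c hc
  interval_cases c
  · exact hE0
  · exact hE1
  · exact hE2
  · exact hE3
  · exact hE4
  · exact hE5
  · exact hE6
  · exact hE7
  · exact hE8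
  · exact hE9

end Cfsg.Agent.Helper9.TCData.P0C0
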