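import Cfsg.Agent.Lib.Helper9.TC2Cox
import Cfsg.Agent.Lib.Helper9.TC2Aux
import Cfsg.Agent.Lib.Helper9.TC2BSGS
import Cfsg.Agent.Lib.Helper9.TC2Pack
import Cfsg.Agent.Lib.Helper9.TCData.P0C0.P0
import Cfsg.Agent.Lib.Helper9.TCData.P0C0.P1

set_option autoImplicit false
set_option maxRecDepth 100000

namespace Cfsg.Agent.Helper9.TCData.P0C0
open Cfsg.Agent.Helper9.TC2
/-- The rotated relators. -/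
noncomputable def rotT : WT := (WT.node 52 (WT.node 26 (WT.node 13 (WT.node 6 (WT.node 3 (WT.node 1 (WT.leaf [0, 9, 0, 9]) (WT.node 2 (WT.leaf [0, 8, 0, 8]) (WT.leaf [0, 5, 0, 5]))) (WT.node 4 (WT.leaf [0, 4, 0, 4]) (WT.node 5 (WT.leaf [0, 6, 0, 6]) (WT.leaf [0, 3, 0, 3])))) (WT.node 9 (WT.node 7 (WT.leaf [0, 7, 0, 7]) (WT.node 8 (WT.leaf [0, 2, 0, 2]) (WT.leaf [0, 1, 0, 1, 0, 1]))) (WT.node 11 (WT.node 10 (WT.leaf [1, 9, 1, 9]) (WT.leaf [1, 8, 1, 8])) (WT.node 12 (WT.leaf [1, 5, 1, 5]) (WT.leaf [1, 4, 1, 4]))))) (WT.node 19 (WT.node 16 (WT.node 14 (WT.leaf [1, 6, 1, 6]) (WT.node 15 (WT.leaf [1, 3, 1, 3]) (WT.leaf [1, 7, 1, 7]))) (WT.node 17 (WT.leaf [1, 0, 1, 0, 1, 0]) (WT.node 18 (WT.leaf [1, 2, 1, 2, 1, 2]) (WT.leaf [2, 9, 2, 9])))) (WT.node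 22 (WT.node 20 (WT.leaf [2, 8, 2, 8]) (WT.node 21 (WT.leaf [2, 5, 2, 5]) (WT.leaf [2, 4, 2, 4]))) (WT.node 24 (WT.node 23 (WT.leaf [2, 6, 2, 6]) (WT.leaf [2, 7, 2, 7])) (WT.node 25 (WT.leaf [2, 1, 2, 1, 2, 1]) (WT.leaf [2, 0, 2, 0])))))) (WT.node 39 (WT.node 32 (WT.node 29 (WT.node 27 (WT.leaf [2, 3, 2, 3, 2, 3]) (WT.node 28 (WT.leaf [2, 0, 8, 7, 6, 5, 4, 3, 2, 8, 7, 6, 5, 4, 3, 2, 8, 7, 6, 5, 4, 3, 2, 8, 7, 6, 5, 4, 3, 2, 8, 7, 6, 5, 4, 3, 2, 8, 7, 6, 5, 4, 3, 2, 8, 7, 6, 5, 4, 3, 2, 8, 7, 6, 5, 4, 3, 2, 8, 7, 6, 5, 4, 3]) (WT.leaf [2, 8, 7, 6, 5, 4, 3, 2, 8, 7, 6, 5, 4, 3, 2, 8, 7, 6, 5, 4, 3, 2, 8, 7, 6, 5, 4, 3, 2, 8, 7, 6, 5, 4, 3, 2, 8, 7, 6, 5, 4, 3, 2, 8, 7, 6, 5, 4, 3, 2, 8, 7, 6, 5, 4, 3, 2, 0, 8, 7, 6, 5, 4, 3]))) (WT.node 30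 (WT.leaf [3, 9, 3, 9]) (WT.node 31 (WT.leaf [3, 8, 3, 8]) (WT.leaf [3, 5, 3, 5])))) (WT.node 35 (WT.node 33 (WT.leaf [3, 6, 3, 6]) (WT.node 34 (WT.leaf [3, 7, 3, 7]) (WT.leaf [3, 2, 3, 2, 3, 2]))) (WT.node 37 (WT.node 36 (WT.leaf [3, 1, 3, 1]) (WT.leaf [3, 0, 3, 0])) (WT.node 38 (WT.leaf [3, 4, 3, 4, 3, 4]) (WT.leaf [3, 2, 8, 7, 6, 5, 4, 3, 2, 8, 7, 6, 5, 4, 3, 2, 8, 7, 6, 5, 4, 3, 2, 8, 7, 6, 5, 4, 3, 2, 8, 7, 6, 5, 4, 3, 2, 8, 7, 6, 5, 4, 3, 2, 8, 7, 6, 5, 4, 3, 2, 8, 7, 6, 5, 4, 3, 2, 0, 8, 7, 6, 5, 4]))))) (WT.node 45 (WT.node 42 (WT.node 40 (WT.leaf [3, 2, 8, 7, 6, 5, 4, 3, 2, 0, 8, 7, 6, 5, 4, 3, 2, 8, 7, 6, 5, 4, 3, 2, 8, 7, 6, 5, 4, 3, 2, 8, 7, 6, 5, 4, 3, 2, 8, 7, 6, 5, 4, 3, 2, 8, 7, 6, 5, 4, 3, 2, 8, 7, 6, 5, 4, 3, 2, 8, 7, 6,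 5, 4]) (WT.node 41 (WT.leaf [4, 9, 4, 9]) (WT.leaf [4, 8, 4, 8]))) (WT.node 43 (WT.leaf [4, 6, 4, 6]) (WT.node 44 (WT.leaf [4, 3, 4, 3, 4, 3]) (WT.leaf [4, 7, 4, 7])))) (WT.node 48 (WT.node 46 (WT.leaf [4, 2, 4, 2]) (WT.node 47 (WT.leaf [4, 5, 4, 5, 4, 5]) (WT.leaf [4, 1, 4, 1]))) (WT.node 50 (WT.node 49 (WT.leaf [4, 0, 4, 0]) (WT.leaf [4, 3, 2, 8, 7, 6, 5, 4, 3, 2, 8, 7, 6, 5, 4, 3, 2, 8, 7, 6, 5, 4, 3, 2, 8, 7, 6, 5, 4, 3, 2, 8, 7, 6, 5, 4, 3, 2, 8, 7, 6, 5, 4, 3, 2, 8, 7, 6, 5, 4, 3, 2, 8, 7, 6, 5, 4, 3, 2, 0, 8, 7, 6, 5])) (WT.node 51 (WT.leaf [4, 3, 2, 8, 7, 6, 5, 4, 3, 2, 8, 7, 6, 5, 4, 3, 2, 8, 7, 6, 5, 4, 3, 2, 8, 7, 6, 5, 4, 3, 2, 0, 8, 7, 6, 5, 4, 3, 2, 8, 7, 6, 5, 4, 3, 2, 8, 7, 6, 5, 4, 3, 2, 8, 7, 6, 5, 4, 3, 2, 8, 7, 6, 5])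 (WT.leaf [5, 9, 5, 9]))))))) (WT.node 78 (WT.node 65 (WT.node 58 (WT.node 55 (WT.node 53 (WT.leaf [5, 4, 5, 4, 5, 4]) (WT.node 54 (WT.leaf [5, 6, 5, 6, 5, 6]) (WT.leaf [5, 3, 5, 3]))) (WT.node 56 (WT.leaf [5, 7, 5, 7]) (WT.node 57 (WT.leaf [5, 2, 5, 2]) (WT.leaf [5, 1, 5, 1])))) (WT.node 61 (WT.node 59 (WT.leaf [5, 8, 5, 8, 5, 8]) (WT.node 60 (WT.leaf [5, 0, 5, 0]) (WT.leaf [5, 4, 3, 2, 8, 7, 6, 5, 4, 3, 2, 8, 7, 6, 5, 4, 3, 2, 8, 7, 6, 5, 4, 3, 2, 8, 7, 6, 5, 4, 3, 2, 8, 7, 6, 5, 4, 3, 2, 8, 7, 6, 5, 4, 3, 2, 8, 7, 6, 5, 4, 3, 2, 8, 7, 6, 5, 4, 3, 2, 0, 8, 7, 6]))) (WT.node 63 (WT.node 62 (WT.leaf [5, 4, 3, 2, 8, 7, 6, 5, 4, 3, 2, 8, 7, 6, 5, 4, 3, 2, 8, 7, 6, 5, 4, 3, 2, 8, 7, 6, 5, 4, 3, 2, 0, 8, 7, 6, 5, 4, 3, 2, 8, 7, 6, 5, 4, 3, 2,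 8, 7, 6, 5, 4, 3, 2, 8, 7, 6, 5, 4, 3, 2, 8, 7, 6]) (WT.leaf [5, 4, 3, 2, 8, 7, 6, 5, 4, 3, 2, 8, 7, 6, 5, 4, 3, 2, 8, 7, 6, 5, 4, 3, 2, 8, 7, 6, 5, 4, 3, 2, 8, 7, 6, 5, 4, 3, 2, 8, 7, 6, 5, 4, 3, 2, 8, 7, 6, 5, 4, 3, 2, 0, 8, 7, 6, 5, 4, 3, 2, 8, 7, 6])) (WT.node 64 (WT.leaf [6, 9, 6, 9]) (WT.leaf [6, 8, 6, 8]))))) (WT.node 71 (WT.node 68 (WT.node 66 (WT.leaf [6, 7, 6, 7, 6, 7]) (WT.node 67 (WT.leaf [6, 5, 6, 5, 6, 5]) (WT.leaf [6, 4, 6, 4]))) (WT.node 69 (WT.leaf [6, 3, 6, 3]) (WT.node 70 (WT.leaf [6, 2, 6, 2]) (WT.leaf [6, 1, 6, 1])))) (WT.node 74 (WT.node 72 (WT.leaf [6, 0, 6, 0]) (WT.node 73 (WT.leaf [6, 5, 4, 3, 2, 8, 7, 6, 5, 4, 3, 2, 8, 7, 6, 5, 4, 3, 2, 8, 7, 6, 5, 4, 3, 2, 8, 7, 6, 5, 4, 3, 2, 8, 7, 6, 5, 4, 3, 2, 8, 7, 6, 5, 4,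 3, 2, 8, 7, 6, 5, 4, 3, 2, 8, 7, 6, 5, 4, 3, 2, 0, 8, 7]) (WT.leaf [7, 9, 7, 9]))) (WT.node 76 (WT.node 75 (WT.leaf [7, 8, 7, 8]) (WT.leaf [7, 5, 7, 5])) (WT.node 77 (WT.leaf [7, 4, 7, 4]) (WT.leaf [7, 3, 7, 3])))))) (WT.node 91 (WT.node 84 (WT.node 81 (WT.node 79 (WT.leaf [7, 2, 7, 2]) (WT.node 80 (WT.leaf [7, 1, 7, 1]) (WT.leaf [7, 0, 7, 0]))) (WT.node 82 (WT.leaf [7, 6, 7, 6, 7, 6]) (WT.node 83 (WT.leaf [8, 5, 8, 5, 8, 5]) (WT.leaf [8, 4, 8, 4])))) (WT.node 87 (WT.node 85 (WT.leaf [8, 6, 8, 6]) (WT.node 86 (WT.leaf [8, 3, 8, 3]) (WT.leaf [8, 7, 8, 7]))) (WT.node 89 (WT.node 88 (WT.leaf [8, 2, 8, 2]) (WT.leaf [8, 1, 8, 1])) (WT.node 90 (WT.leaf [8, 0, 8, 0]) (WT.leaf [8, 9, 8, 9, 8, 9]))))) (WT.node 97 (WT.node 94 (WT.node 92 (WT.leaf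 [8, 7, 6, 5, 4, 3, 2, 8, 7, 6, 5, 4, 3, 2, 8, 7, 6, 5, 4, 3, 2, 8, 7, 6, 5, 4, 3, 2, 8, 7, 6, 5, 4, 3, 2, 8, 7, 6, 5, 4, 3, 2, 8, 7, 6, 5, 4, 3, 2, 8, 7, 6, 5, 4, 3, 2, 0, 8, 7, 6, 5, 4, 3, 2]) (WT.node 93 (WT.leaf [8, 7, 6, 5, 4, 3, 2, 8, 7, 6, 5, 4, 3, 2, 8, 7, 6, 5, 4, 3, 2, 8, 7, 6, 5, 4, 3, 2, 8, 7, 6, 5, 4, 3, 2, 8, 7, 6, 5, 4, 3, 2, 8, 7, 6, 5, 4, 3, 2, 8, 7, 6, 5, 4, 3, 2, 8, 7, 6, 5, 4, 3, 2, 0]) (WT.leaf [9, 8, 9, 8, 9, 8]))) (WT.node 95 (WT.leaf [9, 5, 9, 5]) (WT.node 96 (WT.leaf [9, 4, 9, 4]) (WT.leaf [9, 6, 9, 6])))) (WT.node 100 (WT.node 98 (WT.leaf [9, 3, 9, 3]) (WT.node 99 (WT.leaf [9, 7, 9, 7]) (WT.leaf [9, 2, 9, 2]))) (WT.node 102 (WT.node 101 (WT.leaf [9, 1, 9, 1]) (WT.leaf [9, 0, 9, 0])) (WT.node 103 (WT.leaf [0, 8, 7,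 6, 5, 4, 3, 2, 8, 7, 6, 5, 4, 3, 2, 8, 7, 6, 5, 4, 3, 2, 8, 7, 6, 5, 4, 3, 2, 8, 7, 6, 5, 4, 3, 2, 8, 7, 6, 5, 4, 3, 2, 8, 7, 6, 5, 4, 3, 2, 8, 7, 6, 5, 4, 3, 2, 8, 7, 6, 5, 4, 3, 2]) (WT.leaf [6, 5, 4, 3, 2, 8, 7, 6, 5, 4, 3, 2, 8, 7, 6, 5, 4, 3, 2, 8, 7, 6, 5, 4, 3, 2, 8, 7, 6, 5, 4, 3, 2, 8, 7, 6, 5, 4, 3, 2, 0, 8, 7, 6, 5, 4, 3, 2, 8, 7, 6, 5, 4, 3, 2, 8, 7, 6, 5, 4, 3, 2, 8, 7]))))))))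

/-- The sources of the rotated relators: relator and rotation. -/
def rotSrc : List (ℕ × ℕ) := [(9, 2), (8, 2), (5, 2), (4, 2), (6, 2), (3, 2), (7, 2), (2, 2), (1, 2), (19, 2), (18, 2), (15, 2), (14, 2), (16, 2), (13, 2), (17, 2), (1, 1), (12, 2), (29, 2), (28, 2), (25, 2), (24, 2), (26, 2), (27, 2), (12, 1), (2, 1), (23, 2), (100, 63), (100, 7), (39, 2), (38, 2), (35, 2), (36, 2), (37, 2), (23, 1), (13, 1), (3, 1), (34, 2), (100, 6), (100, 55), (49, 2), (48, 2), (46, 2), (34, 1), (47, 2), (24, 1), (45, 2), (14, 1), (4, 1), (100, 5), (100, 33), (59, 2), (45, 1), (56, 2), (35, 1), (57, 2), (25, 1), (15, 1), (58, 2), (5, 1), (100, 4), (100, 32), (100, 11), (69, 2), (68, 2), (67, 2), (56, 1), (46, 1), (36, 1), (26, 1), (16, 1), (6, 1), (100,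 3), (79, 2), (78, 2), (57, 1), (47, 1), (37, 1), (27, 1), (17, 1), (7, 1), (67, 1), (58, 1), (48, 1), (68, 1), (38, 1), (78, 1), (28, 1), (18, 1), (8, 1), (89, 2), (100, 8), (100, 1), (89, 1), (59, 1), (49, 1), (69, 1), (39, 1), (79, 1), (29, 1), (19, 1), (9, 1), (100, 0), (100, 24)]

/-- The relators, as words of columns. -/
def relWords : List (List ℕ) := [[0, 0], [0, 1, 0, 1, 0, 1], [0, 2, 0, 2], [0, 3, 0, 3], [0, 4, 0, 4], [0, 5, 0, 5], [0, 6, 0, 6], [0, 7, 0, 7], [0, 8, 0, 8], [0, 9, 0, 9], [1, 0, 1, 0, 1, 0], [1, 1], [1, 2, 1, 2, 1, 2], [1, 3, 1, 3], [1, 4, 1, 4], [1, 5, 1, 5], [1, 6, 1, 6], [1, 7, 1, 7], [1, 8, 1, 8], [1, 9, 1, 9], [2, 0, 2, 0], [2, 1, 2, 1, 2, 1], [2, 2], [2, 3, 2, 3, 2, 3], [2, 4, 2, 4], [2, 5, 2, 5], [2, 6, 2,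 6], [2, 7, 2, 7], [2, 8, 2, 8], [2, 9, 2, 9], [3, 0, 3, 0], [3, 1, 3, 1], [3, 2, 3, 2, 3, 2], [3, 3], [3, 4, 3, 4, 3, 4], [3, 5, 3, 5], [3, 6, 3, 6], [3, 7, 3, 7], [3, 8, 3, 8], [3, 9, 3, 9], [4, 0, 4, 0], [4, 1, 4, 1], [4, 2, 4, 2], [4, 3, 4, 3, 4, 3], [4, 4], [4, 5, 4, 5, 4, 5], [4, 6, 4, 6], [4, 7, 4, 7], [4, 8, 4, 8], [4, 9, 4, 9], [5, 0, 5, 0], [5, 1, 5, 1], [5, 2, 5, 2], [5, 3, 5, 3], [5, 4, 5, 4, 5, 4], [5, 5], [5, 6, 5, 6, 5, 6], [5, 7, 5, 7], [5, 8, 5, 8, 5, 8], [5, 9, 5, 9], [6, 0, 6, 0], [6, 1, 6, 1], [6, 2, 6, 2], [6, 3, 6, 3], [6, 4, 6, 4], [6, 5, 6, 5, 6, 5], [6, 6], [6, 7, 6, 7, 6, 7], [6, 8, 6, 8], [6, 9, 6, 9], [7, 0, 7, 0], [7, 1, 7, 1], [7, 2, 7, 2], [7, 3, 7, 3], [7, 4, 7, 4], [7, 5, 7, 5], [7, 6, 7, 6, 7, 6], [7, 7],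 [7, 8, 7, 8], [7, 9, 7, 9], [8, 0, 8, 0], [8, 1, 8, 1], [8, 2, 8, 2], [8, 3, 8, 3], [8, 4, 8, 4], [8, 5, 8, 5, 8, 5], [8, 6, 8, 6], [8, 7, 8, 7], [8, 8], [8, 9, 8, 9, 8, 9], [9, 0, 9, 0], [9, 1, 9, 1], [9, 2, 9, 2], [9, 3, 9, 3], [9, 4, 9, 4], [9, 5, 9, 5], [9, 6, 9, 6], [9, 7, 9, 7], [9, 8, 9, 8, 9, 8], [9, 9], [0, 8, 7, 6, 5, 4, 3, 2, 8, 7, 6, 5, 4, 3, 2, 8, 7, 6, 5, 4, 3, 2, 8, 7, 6, 5, 4, 3, 2, 8, 7, 6, 5, 4, 3, 2, 8, 7, 6, 5, 4, 3, 2, 8, 7, 6, 5, 4, 3, 2, 8, 7, 6, 5, 4, 3, 2, 8, 7, 6, 5, 4, 3, 2]]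

/-- The words of the auxiliary columns. -/
def aux : List (List ℕ) := [[8, 7, 6, 5, 4, 3, 2]]

/-- The words checked on the permutation model, with auxiliary columns. -/
def mwordsA : List (List ℕ) := [[0, 1, 0, 1, 0, 1], [0, 2, 0, 2], [0, 3, 0, 3], [0, 4, 0, 4], [0, 5, 0, 5], [0, 6, 0, 6], [0, 7, 0, 7], [0, 8, 0, 8], [0, 9, 0, 9], [1, 2, 1, 2, 1, 2], [1, 3, 1, 3], [1, 4, 1, 4], [1, 5, 1, 5], [1, 6, 1, 6], [1, 7, 1, 7], [1, 8, 1, 8], [1, 9, 1, 9], [2, 3, 2, 3, 2, 3], [2, 4, 2, 4], [2, 5, 2, 5], [2, 6, 2, 6], [2, 7, 2, 7], [2, 8, 2, 8], [2, 9, 2, 9], [3, 4, 3, 4, 3, 4], [3, 5, 3, 5], [3, 6, 3, 6], [3, 7, 3, 7], [3, 8, 3, 8], [3, 9, 3, 9], [4, 5, 4, 5, 4, 5], [4, 6, 4, 6], [4, 7, 4, 7], [4, 8, 4, 8], [4, 9, 4, 9], [5, 6, 5, 6, 5, 6], [5,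 7, 5, 7], [5, 8, 5, 8, 5, 8], [5, 9, 5, 9], [6, 7, 6, 7, 6, 7], [6, 8, 6, 8], [6, 9, 6, 9], [7, 8, 7, 8], [7, 9, 7, 9], [8, 9, 8, 9, 8, 9], [0, 10, 10, 10, 10, 10, 10, 10, 10, 10]]

/-- The table. -/
noncomputable def tab : Tab where
  k := 10
  inv := fun c => c
  N := 44362
  n := 28431
  Tmax := 440422
  wn := 16
  mn := 0xffff
  subs := [[0], [1], [2], [3], [4], [5], [6], [7], [8]]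
  rot := fun i => rotT.getF i
  ent := fun c i => bget2 (BT.node 1280 (BT.node 599 entT_0 entT_1) (BT.node 1879 entT_2 entT_3)) 8 8 35 0x7ffffffff 255 c i
  cer := fun c i => bget2 (BT.node 640 cerT_0 cerT_1) 7 9 18 0x3ffff 511 c i
  tau := fun c i => bget2 tauT_0 5 10 15 0x7fff 1023 c i
  lk := fun i => bget lkT_0 8 35 0x7ffffffff 255 i
  lc := fun i => bget lcT_0 8 38 0x3fffffffff 255 i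
  pn := fun i => bget pnT_0 9 20 0xfffff 511 i
  cls := fun i => bget clsT_0 10 15 0x7fff 1023 i
  rep := fun i => bget repT_0 10 16 0xffff 1023 i

/-- The straight line program of the further columns. -/
def slp : List (ℕ × List ℕ) := [(0, [8, 7, 6, 5, 4, 3, 2])]

/-- The levels: base point, generating columns, size of the orbit. -/
def levs : List (ℕ × List ℕ × ℕ) := [(0, [0, 1, 2, 3, 4, 5, 6, 7, 8, 9], 28431), (1, [0, 1, 2, 3, 4, 5, 6, 7, 8], 960), (2, [0, 1, 2, 3, 4, 5, 6, 7], 84), (3, [0, 1, 2, 3, 4, 6, 7], 18), (4, [0, 1, 2, 3], 5), (5, [7], 2), (6, [0, 1, 2], 4), (9, [0, 1], 3), (13, [0], 2)]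

/-- A record of the trees of the orbits. -/
noncomputable def lidx : ℕ → ℕ → ℕ := fun c i => bget2 lidxT_0 5 10 15 0x7fff 1023 c i

/-- A record of the trees of the orbits. -/
noncomputable def lpar : ℕ → ℕ → ℕ := fun c i => bget2 lparT_0 5 10 15 0x7fff 1023 c i

/-- A record of the trees of the orbits. -/
noncomputable def lgi : ℕ → ℕ → ℕ := fun c i => bget2 lgiT_0 3 12 4 0xf 4095 c i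


end Cfsg.Agent.Helper9.TCData.P0C0
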