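import Cfsg.Agent.Lib.Helper9.TCData.P0C0.Main

set_option autoImplicit false
set_option maxRecDepth 1000000

namespace Cfsg.Agent.Helper9.TCData.P0C0
open Cfsg.Agent.Helper9.TC2

theorem e0_0 : allRange 0 1856 (fun u => chkE tab 0 u) = true := by decide +kernel

theorem e0_1 : allRange 1856 2121 (fun u => chkE tab 0 u) = true := by decide +kernel

theorem e0_2 : allRange 3977 2035 (fun u => chkE tab 0 u) = true := by decide +kernel

theorem e0_3 : allRange 6012 1937 (fun u => chkE tab 0 u) = true := by decide +kernel

theorem e0_4 : allRange 7949 2031 (fun u => chkE tab 0 u) = true := by decide +kernel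

theorem e0_5 : allRange 9980 2168 (fun u => chkE tab 0 u) = true := by decide +kernel

theorem e0_6 : allRange 12148 1730 (fun u => chkE tab 0 u) = true := by decide +kernel

theorem e0_7 : allRange 13878 2339 (fun u => chkE tab 0 u) = true := by decide +kernel


end Cfsg.Agent.Helper9.TCData.P0C0
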