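import Cfsg.Agent.Lib.Helper9.TCData.P0C0.Main

set_option autoImplicit false
set_option maxRecDepth 1000000

namespace Cfsg.Agent.Helper9.TCData.P0C0
open Cfsg.Agent.Helper9.TC2

theorem sl_8 : allRange 10328 1291 (fun u => chkSlp tab slp u) = true := by decide +kernel

theorem sl_9 : allRange 11619 1291 (fun u => chkSlp tab slp u) = true := by decide +kernel

theorem sl_10 : allRange 12910 1291 (fun u => chkSlp tab slp u) = true := by decide +kernel

theorem sl_11 : allRange 14201 1291 (fun u => chkSlp tab slp u) = true := by decide +kernel

theorem sl_12 : allRange 15492 1291 (fun u => chkSlp tab slp u) = true := by decide +kernel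

theorem sl_13 : allRange 16783 1291 (fun u => chkSlp tab slp u) = true := by decide +kernel

theorem sl_14 : allRange 18074 1291 (fun u => chkSlp tab slp u) = true := by decide +kernel

theorem sl_15 : allRange 19365 1291 (fun u => chkSlp tab slp u) = true := by decide +kernel


end Cfsg.Agent.Helper9.TCData.P0C0
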