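import Cfsg.Agent.Lib.Helper9.TCData.P0C0.Main

set_option autoImplicit false
set_option maxRecDepth 1000000

namespace Cfsg.Agent.Helper9.TCData.P0C0
open Cfsg.Agent.Helper9.TC2

theorem e4_11 : allRange 24306 3599 (fun u => chkE tab 4 u) = true := by decide +kernel

theorem e4_12 : allRange 27905 3108 (fun u => chkE tab 4 u) = true := by decide +kernel

theorem e4_13 : allRange 31013 2609 (fun u => chkE tab 4 u) = true := by decide +kernel

theorem e4_14 : allRange 33622 2579 (fun u => chkE tab 4 u) = true := by decide +kernel

theorem e4_15 : allRange 36201 2613 (fun u => chkE tab 4 u) = true := by decide +kernel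

theorem e4_16 : allRange 38814 2508 (fun u => chkE tab 4 u) = true := by decide +kernel

theorem e4_17 : allRange 41322 2633 (fun u => chkE tab 4 u) = true := by decide +kernel

theorem e4_18 : allRange 43955 407 (fun u => chkE tab 4 u) = true := by decide +kernel


end Cfsg.Agent.Helper9.TCData.P0C0
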