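import Cfsg.Agent.Lib.Helper9.TCData.P0C0.Main

set_option autoImplicit false
set_option maxRecDepth 1000000

namespace Cfsg.Agent.Helper9.TCData.P0C0
open Cfsg.Agent.Helper9.TC2

theorem m2_356 : allRange 23140 65 (fun u => chkFix tab mwordsA u) = true := by decide +kernel

theorem m2_357 : allRange 23205 65 (fun u => chkFix tab mwordsA u) = true := by decide +kernel

theorem m2_358 : allRange 23270 65 (fun u => chkFix tab mwordsA u) = true := by decide +kernel

theorem m2_359 : allRange 23335 65 (fun u => chkFix tab mwordsA u) = true := by decide +kernel

theorem m2_360 : allRange 23400 65 (fun u => chkFix tab mwordsA u) = true := by decide +kernel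

theorem m2_361 : allRange 23465 65 (fun u => chkFix tab mwordsA u) = true := by decide +kernel

theorem m2_362 : allRange 23530 65 (fun u => chkFix tab mwordsA u) = true := by decide +kernel

theorem m2_363 : allRange 23595 65 (fun u => chkFix tab mwordsA u) = true := by decide +kernel


end Cfsg.Agent.Helper9.TCData.P0C0
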